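import Mathlib
import Cfsg.Agent.BpExc.AsmN_m3
import Cfsg.Agent.Lib.ListFast
import Cfsg.Agent.H461.E2.Cent
import Cfsg.Agent.H378.SmallTor_m3
import Cfsg.Agent.H129.TorusUntw
import Cfsg.Agent.BpExc.Sig
import Cfsg.Agent.H737.EPO.RelOne_m3
import Cfsg.Agent.H284.EPO.TThree
import Cfsg.Agent.H209.EPX.Defs_m3
import Cfsg.Agent.H878.EPX.FiK
import Cfsg.Agent.FastGrp
import Cfsg.Agent.Prune
set_option linter.all false

section
prune_inst 0x7ff1f8f8ffa8addfffff7e3ffed1ddfc31808fffe4dff943ffe863bf0bdf230049c56b8d0de090fe0e36c01410a87803fb7eefffaa6fdc7ffffd57b41ffbec1f856eb50851948c3406ec6ff69bf05f0e6f3fddffffffffffffffffffffffffbeffbdefbfffff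

-- part: H27/TS/E8Cnt
section
set_option linter.all false
open scoped Cfsg.Agent.FastGrp

/-!
Numbers of zero values of a functional `v : Fin 8 → ZMod N` on the roots of `E8`, `N` odd (S5745, centralizers in `E8(2)`).

* `count_zero` : `v ≠ 0` : at most `84` zeros, or `126` zeros (`v` proportional to a root);
* `count_zero_le` : `v ≠ 0` : at most `126` zeros;
* `count_zero_le'` : at most `84` zeros when the values are invariant under the multiplication by `a ≠ ± 1`.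
-/

set_option autoImplicit false
set_option maxRecDepth 100000

namespace Cfsg.Agent.H27.TS.E8Cnt

open Cfsg.Agent.ChevalleyStructure.CoxeterGeom Cfsg.Agent.Tits.Roots
  Cfsg.Agent.Nodes.RGDChev
open Cfsg.Lie Cfsg.Agent.ChevalleyStructure Cfsg.Agent.ChevalleyStructure.Elts
  Cfsg.Agent.ChevalleyStructure.RootVec Cfsg.Agent.ChevalleyStructure.RootVecTab
  Cfsg.Agent.ChevalleyStructure.NPerm Cfsg.Agent.ChevalleyStructure.CoxeterGeomTypes
open Cfsg.Agent.H944.RootVals Cfsg.Agent.H944.Kac Cfsg.Agent.H944.Tab Cfsg.Agent.H943.E8Tab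

/-- `θ - r` -/
def dif (r : List ℕ) : List ℕ := List.zipWith (fun t x => t - x) th8 r

theorem len_dif : ∀ r ∈ R8, (dif r).length ≤ 8 := by decide +kernel

private noncomputable def _root_.Cfsg.Agent.LsF.ff03232_0 : {f // @Cfsg.Agent.H27.TS.E8Cnt.dif = f} := ⟨_, by first | (delta Cfsg.Agent.H27.TS.E8Cnt.dif; rewrite [Cfsg.Agent.LsF.nsub_pat, Cfsg.Agent.LsF.zipWith_eq]; exact rfl) | exact rfl⟩
theorem add_dif : ∀ r ∈ R8, ∀ i : Fin 8, r.getD i 0 + (dif r).getD i 0 = th8.getD i 0 := by (refine of_decide_eq_true ?_; (try (rewrite [Cfsg.Agent.LsF.ff03232_0.2, Cfsg.Agent.LsF.nadd_pat, Cfsg.Agent.LsF.instDecEq_eq, Cfsg.Agent.LsF.getD_eq, Cfsg.Agent.LsF.dBAll_eq, Cfsg.Agent.LsF.dForallFin_eq, Cfsg.Agent.LsF.decide_eq])); decide +kernel)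

theorem dotN_add_dif {r : List ℕ} (hr : r ∈ R8) (Y : List ℕ) : dotN r Y + dotN (dif r) Y = dotN th8 Y := by
  rw [dotN_eq 8 r Y (len8 r hr), dotN_eq 8 (dif r) Y (len_dif r hr), dotN_eq 8 th8 Y (by decide),
    ← Finset.sum_add_distrib]
  refine Finset.sum_congr rfl fun i _ => ?_
  rw [← add_dif r hr i, add_mul]

/-- the truncation of a list -/
def trn (Y : List ℕ) : List ℕ := Y.map fun y => if y = 0 then 0 else 1

theorem dotN_trn : ∀ r Y : List ℕ, dotN r Y = 0 ↔ dotN r (trn Y) = 0 := by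
  intro r
  induction r with
  | nil => intro Y; rw [dotN_nil_left, dotN_nil_left]
  | cons a as ih =>
    intro Y
    cases Y with
    | nil => simp [trn, dotN]
    | cons b bs =>
      change a * b + dotN as bs = 0 ↔ a * (if b = 0 then 0 else 1) + dotN as (trn bs) = 0
      rw [Nat.add_eq_zero_iff, Nat.add_eq_zero_iff, ih bs]
      refine and_congr_left fun _ => ?_
      by_cases hb : b = 0
      · simp [hb]
      · simp [hb]

/-- the number of positive roots vanishing on `z`, resp. equal to `θ` on `z` -/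
def aN (z : List ℕ) : ℕ := (R8.filter fun r => dotN r z == 0).length

@[inherit_doc aN] def cN (z : List ℕ) : ℕ := (R8.filter fun r => dotN (dif r) z == 0).length

private noncomputable def _root_.Cfsg.Agent.LsF.ff03232_1 : {f // @Cfsg.Agent.H944.Tab.allLt = f} := ⟨_, by first | (delta Cfsg.Agent.H944.Tab.allLt Nat.brecOn.go Nat.brecOn Cfsg.Agent.H944.Tab.allLt._f; rewrite [Cfsg.Agent.LsF.all_eq, Cfsg.Agent.LsF.range_eq]; (try delta Cfsg.Agent.H944.Tab.allLt.match_1); (try delta Nat.casesOn); first | dsimp -zeta only | exact rfl) | exact rfl⟩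
private noncomputable def _root_.Cfsg.Agent.LsF.ff03232_2 : {f // @Cfsg.Agent.H944.Tab.dotN = f} := ⟨_, by first | (delta Cfsg.Agent.H944.Tab.dotN List.brecOn List.brecOn.go Cfsg.Agent.H944.Tab.dotN._f; rewrite [Cfsg.Agent.LsF.nadd_pat, Cfsg.Agent.LsF.nmul_pat]; (try delta Cfsg.Agent.H944.Tab.dotN.match_1); (try delta Cfsg.Agent.H944.Tab.dotN._sparseCasesOn_1); first | dsimp -zeta only | exact rfl) | exact rfl⟩
private noncomputable def _root_.Cfsg.Agent.LsF.ff03232_3 : {f // @Cfsg.Agent.H27.TS.E8Cnt.aN = f} := ⟨_, by first | (delta Cfsg.Agent.H27.TS.E8Cnt.aN; rewrite [Cfsg.Agent.LsF.ff03232_2.2, Cfsg.Agent.LsF.nbeq_pat, Cfsg.Agent.LsF.filter_eq, Cfsg.Agent.LsF.length_eq]; exact rfl) | exact rfl⟩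
private noncomputable def _root_.Cfsg.Agent.LsF.ff03232_4 : {f // @Cfsg.Agent.H27.TS.E8Cnt.cN = f} := ⟨_, by first | (delta Cfsg.Agent.H27.TS.E8Cnt.cN; rewrite [Cfsg.Agent.LsF.ff03232_2.2, Cfsg.Agent.LsF.ff03232_0.2, Cfsg.Agent.LsF.nbeq_pat, Cfsg.Agent.LsF.filter_eq, Cfsg.Agent.LsF.length_eq]; exact rfl) | exact rfl⟩
theorem check : allLt 2 8 (fun z => z == [0, 0, 0, 0, 0, 0, 0, 0] || z == [0, 0, 0, 0, 0, 0, 0, 1] ||
    z == [1, 0, 0, 0, 0, 0, 0, 0] || decide (aN z + cN z ≤ 42)) = true := by ((try (rewrite [Cfsg.Agent.LsF.ff03232_1.2, Cfsg.Agent.LsF.ff03232_3.2, Cfsg.Agent.LsF.ff03232_4.2, Cfsg.Agent.LsF.nadd_pat, Cfsg.Agent.LsF.instNBEq_pat, Cfsg.Agent.LsF.or_eq, Cfsg.Agent.LsF.decLe_eq, Cfsg.Agent.LsF.instBEq_eq, Cfsg.Agent.LsF.decide_eq])); decide +kernel)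

theorem filter_length_le {α : Type*} (L : List α) (p q : α → Bool) (h : ∀ x ∈ L, p x = true → q x = true) :
    (L.filter p).length ≤ (L.filter q).length := by
  induction L with
  | nil => simp
  | cons x L ih =>
    have h1 := ih fun y hy => h y (List.mem_cons_of_mem _ hy)
    have h2 := h x List.mem_cons_self
    by_cases hp : p x = true
    · rw [List.filter_cons_of_pos hp, List.filter_cons_of_pos (h2 hp)]
      simpa using h1
    · rw [List.filter_cons_of_neg hp]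
      by_cases hq : q x = true
      · rw [List.filter_cons_of_pos hq]
        exact h1.trans (by simp)
      · rw [List.filter_cons_of_neg hq]
        exact h1

theorem filter_length_or {α : Type*} (L : List α) (p q r : α → Bool)
    (h : ∀ x ∈ L, p x = true → q x = true ∨ r x = true) :
    (L.filter p).length ≤ (L.filter q).length + (L.filter r).length := by
  induction L with
  | nil => simp
  | cons x L ih =>
    have h1 := ih fun y hy => h y (List.mem_cons_of_mem _ hy)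
    have h2 := h x List.mem_cons_self
    by_cases hp : p x = true <;> by_cases hq : q x = true <;> by_cases hr : r x = true
    all_goals
      simp only [List.filter_cons, hp, hq, hr, if_true, List.length_cons] at h1 h2 ⊢
    all_goals first | (simp at h2; done) | (simp only [Bool.false_eq_true, if_false]; omega) | omega

theorem count_eq_filter {N : ℕ} (Y : List ℕ) (a : ZMod N) :
    (ms chevE8 8 (vecOf N Y)).count a = (R8.filter fun r => decide (((dotN r Y : ℕ) : ZMod N) = a)).length +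
      (R8.filter fun r => decide (((dotN r Y : ℕ) : ZMod N) = -a)).length := by
  rw [count_eq_sum, sum_vecOf]
  generalize R8 = L
  induction L with
  | nil => simp
  | cons r L ih =>
    rw [List.map_cons, List.sum_cons, ih, List.filter_cons, List.filter_cons]
    have h1 : (-((dotN r Y : ℕ) : ZMod N) = a) ↔ (((dotN r Y : ℕ) : ZMod N) = -a) := by
      constructor
      · intro h; rw [← h, _root_.neg_neg]
      · intro h; rw [h, _root_.neg_neg]
    simp only [h1, decide_eq_true_eq]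
    split_ifs <;> (try simp only [List.length_cons]) <;> omega

theorem dot_last (Y : List ℕ) (hY : Y.length = 8) (hz : trn Y = [0, 0, 0, 0, 0, 0, 0, 1]) :
    ∃ m, 0 < m ∧ Y = [0, 0, 0, 0, 0, 0, 0, m] := by
  match Y, hY, hz with
  | [a, b, c, d, e, f, g, m], _, hz =>
    simp only [trn, List.map_cons, List.map_nil, List.cons.injEq, and_true] at hz
    obtain ⟨h1, h2, h3, h4, h5, h6, h7, h8⟩ := hz
    have k : ∀ x : ℕ, (if x = 0 then 0 else 1) = 0 → x = 0 := fun x hx => by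
      by_contra hc; rw [if_neg hc] at hx; omega
    refine ⟨m, ?_, by rw [k _ h1, k _ h2, k _ h3, k _ h4, k _ h5, k _ h6, k _ h7]⟩
    by_contra hc
    rw [if_pos (by omega)] at h8
    omega

theorem dot_first (Y : List ℕ) (hY : Y.length = 8) (hz : trn Y = [1, 0, 0, 0, 0, 0, 0, 0]) :
    ∃ m, 0 < m ∧ Y = [m, 0, 0, 0, 0, 0, 0, 0] := by
  match Y, hY, hz with
  | [m, b, c, d, e, f, g, a], _, hz =>
    simp only [trn, List.map_cons, List.map_nil, List.cons.injEq, and_true] at hz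
    obtain ⟨h8, h2, h3, h4, h5, h6, h7, h1⟩ := hz
    have k : ∀ x : ℕ, (if x = 0 then 0 else 1) = 0 → x = 0 := fun x hx => by
      by_contra hc; rw [if_neg hc] at hx; omega
    refine ⟨m, ?_, by rw [k _ h1, k _ h2, k _ h3, k _ h4, k _ h5, k _ h6, k _ h7]⟩
    by_contra hc
    rw [if_pos (by omega)] at h8
    omega

theorem trn_zero (Y : List ℕ) (hY : Y.length = 8) (hz : trn Y = [0, 0, 0, 0, 0, 0, 0, 0]) :
    Y = [0, 0, 0, 0, 0, 0, 0, 0] := by
  match Y, hY, hz with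
  | [m, b, c, d, e, f, g, a], _, hz =>
    simp only [trn, List.map_cons, List.map_nil, List.cons.injEq, and_true] at hz
    obtain ⟨h8, h2, h3, h4, h5, h6, h7, h1⟩ := hz
    have k : ∀ x : ℕ, (if x = 0 then 0 else 1) = 0 → x = 0 := fun x hx => by
      by_contra hc; rw [if_neg hc] at hx; omega
    rw [k _ h1, k _ h2, k _ h3, k _ h4, k _ h5, k _ h6, k _ h7, k _ h8]

theorem vals_last : ∀ r ∈ R8, ∀ m : ℕ, dotN r [0, 0, 0, 0, 0, 0, 0, m] = r.getD 7 0 * m := by
  intro r hr m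
  rw [dotN_eq 8 r _ (len8 r hr), Fin.sum_univ_eight]
  simp

theorem vals_first : ∀ r ∈ R8, ∀ m : ℕ, dotN r [m, 0, 0, 0, 0, 0, 0, 0] = r.getD 0 0 * m := by
  intro r hr m
  rw [dotN_eq 8 r _ (len8 r hr), Fin.sum_univ_eight]
  simp

theorem last_le : ∀ r ∈ R8, r.getD 7 0 ≤ 2 := by decide +kernel

theorem first_le : ∀ r ∈ R8, r.getD 0 0 ≤ 2 := by decide +kernel

theorem n_last0 : (R8.filter fun r => r.getD 7 0 == 0).length = 63 := by decide +kernel

theorem n_last1 : (R8.filter fun r => r.getD 7 0 == 1).length = 56 := by decide +kernel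

theorem n_last2 : (R8.filter fun r => r.getD 7 0 == 2).length = 1 := by decide +kernel

theorem n_first0 : (R8.filter fun r => r.getD 0 0 == 0).length = 42 := by decide +kernel

/-- **the zeros of a functional modulo an odd number** -/
theorem count_zero {N : ℕ} (hN : 1 < N) (ho : Odd N) {v : Fin 8 → ZMod N} (hv : v ≠ 0) :
    (ms chevE8 8 v).count 0 ≤ 84 ∨ ((ms chevE8 8 v).count 0 = 126 ∧ ∃ m : ZMod N, m ≠ 0 ∧
      56 ≤ (ms chevE8 8 v).count m ∧
      ∀ b, b ≠ 0 → b ≠ m → b ≠ -m → (ms chevE8 8 v).count b ≤ 2) := by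
  obtain ⟨Y, hYl, hYθ, hms, hY0⟩ := alcove8 (N := N) (by omega)
    (fun w => ms chevE8 8 w = ms chevE8 8 v ∧ w ≠ 0)
    (fun w j h => ⟨by rw [ms_srefl e8T, h.1], fun h0 => h.2 (srefl_eq_zero e8T h0)⟩) ⟨rfl, hv⟩
  have hNz : NeZero N := ⟨by omega⟩
  -- a value which vanishes is `0` or `N`
  have hval : ∀ r ∈ R8, ((dotN r Y : ℕ) : ZMod N) = 0 → dotN r Y = 0 ∨ dotN (dif r) Y = 0 ∧ dotN th8 Y = N := by
    intro r hr h0
    have h1 : N ∣ dotN r Y := (ZMod.natCast_eq_zero_iff _ _).1 h0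
    have h2 := dotN_add_dif hr Y
    obtain ⟨c, hc⟩ := h1
    rcases Nat.eq_zero_or_pos c with h3 | h3
    · left; rw [hc, h3, mul_zero]
    · right
      have h4 : N ≤ N * c := Nat.le_mul_of_pos_right N h3
      constructor <;> omega
  have hz0 : (ms chevE8 8 v).count 0 = 2 * (R8.filter fun r => decide (((dotN r Y : ℕ) : ZMod N) = 0)).length := by
    rw [← hms, count_eq_filter]
    simp only [neg_zero]
    omega
  have htrn : trn Y = [0, 0, 0, 0, 0, 0, 0, 0] ∨ trn Y = [0, 0, 0, 0, 0, 0, 0, 1] ∨ trn Y = [1, 0, 0, 0, 0, 0, 0, 0] ∨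
      aN (trn Y) + cN (trn Y) ≤ 42 := by
    have h1 := allLt_spec 2 8 _ check (trn Y) (by rw [trn, List.length_map, hYl]) (by
      intro x hx
      rw [trn, List.mem_map] at hx
      obtain ⟨y, -, rfl⟩ := hx
      split_ifs <;> omega)
    simp only [Bool.or_eq_true, beq_iff_eq, decide_eq_true_eq] at h1
    tauto
  rcases htrn with h1 | h1 | h1 | h1
  · exfalso
    refine hY0 ?_
    rw [trn_zero Y hYl h1]
    funext i
    fin_cases i <;> simp [vecOf]
  · -- `E7`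
    right
    obtain ⟨m, hm, rfl⟩ := dot_last Y hYl h1
    have hth : dotN th8 [0, 0, 0, 0, 0, 0, 0, m] = 2 * m := by simp [th8, dotN]
    have hmN : 2 * m < N := by
      rw [hth] at hYθ
      rcases hYθ.lt_or_eq with h2 | h2
      · exact h2
      · exfalso
        obtain ⟨k, hk⟩ := ho
        omega
    have hcast : ∀ k : ℕ, k < N → ((k : ℕ) : ZMod N) = 0 → k = 0 := fun k hk h0 =>
      Nat.eq_zero_of_dvd_of_lt ((ZMod.natCast_eq_zero_iff _ _).1 h0) hk
    refine ⟨?_, (m : ZMod N), fun h0 => by have := hcast m (by omega) h0; omega, ?_, ?_⟩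
    · rw [hz0]
      have h2 : (R8.filter fun r => decide (((dotN r [0, 0, 0, 0, 0, 0, 0, m] : ℕ) : ZMod N) = 0)).length = 63 := by
        rw [← n_last0]
        congr 1
        refine List.filter_congr fun r hr => ?_
        rw [vals_last r hr, Bool.eq_iff_iff, decide_eq_true_eq, beq_iff_eq]
        constructor
        · intro h3
          have h4 := last_le r hr
          have h5 := hcast _ (by nlinarith) h3
          rcases Nat.mul_eq_zero.1 h5 with h6 | h6 <;> omega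
        · intro h3; rw [h3]; simp
      rw [h2]
    · rw [← hms, count_eq_filter]
      refine le_add_right ?_
      rw [← n_last1]
      refine filter_length_le _ _ _ fun r hr h3 => ?_
      rw [beq_iff_eq] at h3
      rw [decide_eq_true_eq, vals_last r hr, h3, one_mul]
    · intro b hb0 hbm hbm'
      rw [← hms, count_eq_filter]
      have h3 : ∀ c : ZMod N, c ≠ 0 → c ≠ (m : ZMod N) →
          (R8.filter fun r => decide (((dotN r [0, 0, 0, 0, 0, 0, 0, m] : ℕ) : ZMod N) = c)).length ≤ 1 := by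
        intro c hc0 hcm
        rw [← n_last2]
        refine filter_length_le _ _ _ fun r hr h4 => ?_
        rw [decide_eq_true_eq, vals_last r hr] at h4
        rw [beq_iff_eq]
        have h5 := last_le r hr
        have h6 : r.getD 7 0 ≠ 0 := fun h7 => hc0 (by rw [← h4, h7]; simp)
        have h7 : r.getD 7 0 ≠ 1 := fun h7 => hcm (by rw [← h4, h7]; simp)
        omega
      have h4 := h3 b hb0 hbm
      have h5 := h3 (-b) (neg_ne_zero.2 hb0) (fun h6 => hbm' (by rw [← h6, _root_.neg_neg]))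
      omega
  · -- `D7`
    left
    obtain ⟨m, hm, rfl⟩ := dot_first Y hYl h1
    have hth : dotN th8 [m, 0, 0, 0, 0, 0, 0, 0] = 2 * m := by simp [th8, dotN]
    have hmN : 2 * m < N := by
      rw [hth] at hYθ
      rcases hYθ.lt_or_eq with h2 | h2
      · exact h2
      · exfalso
        obtain ⟨k, hk⟩ := ho
        omega
    rw [hz0]
    have h2 : (R8.filter fun r => decide (((dotN r [m, 0, 0, 0, 0, 0, 0, 0] : ℕ) : ZMod N) = 0)).length ≤ 42 := by
      rw [← n_first0]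
      refine filter_length_le _ _ _ fun r hr h3 => ?_
      rw [decide_eq_true_eq, vals_first r hr] at h3
      rw [beq_iff_eq]
      have h4 := first_le r hr
      have h5 : r.getD 0 0 * m = 0 := Nat.eq_zero_of_dvd_of_lt ((ZMod.natCast_eq_zero_iff _ _).1 h3) (by nlinarith)
      rcases Nat.mul_eq_zero.1 h5 with h6 | h6 <;> omega
    omega
  · left
    rw [hz0]
    have h2 : (R8.filter fun r => decide (((dotN r Y : ℕ) : ZMod N) = 0)).length ≤ aN (trn Y) + cN (trn Y) := by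
      refine filter_length_or _ _ _ _ fun r hr h3 => ?_
      rw [decide_eq_true_eq] at h3
      rcases hval r hr h3 with h4 | ⟨h4, -⟩
      · left; rw [beq_iff_eq]; exact (dotN_trn _ _).1 h4
      · right; rw [beq_iff_eq]; exact (dotN_trn _ _).1 h4
    omega

/-- at most `84` zeros when the values are invariant under the multiplication by `a ≠ ± 1` -/
theorem count_zero_le' {r : ℕ} (hr : r.Prime) (ho : Odd r) {v : Fin 8 → ZMod r} (hv : v ≠ 0) {a : ZMod r}
    (ha0 : a ≠ 0) (ha1 : a ≠ 1) (ha2 : a ≠ -1) (hinv : ms chevE8 8 v = (ms chevE8 8 v).map (fun b => a * b)) :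
    (ms chevE8 8 v).count 0 ≤ 84 := by
  have := Fact.mk hr
  rcases count_zero hr.one_lt ho hv with h1 | ⟨-, m, hm0, hm, hb⟩
  · exact h1
  · exfalso
    have h1 : (ms chevE8 8 v).count (a * m) = (ms chevE8 8 v).count m := by
      conv_lhs => rw [hinv]
      exact Multiset.count_map_eq_count' _ _ (mul_right_injective₀ ha0) _
    have h2 := hb (a * m) (mul_ne_zero ha0 hm0) (fun h3 => ha1 (mul_right_cancel₀ hm0 (by rw [h3, one_mul])))
      (fun h3 => ha2 (mul_right_cancel₀ hm0 (by rw [h3]; ring)))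
    omega

end Cfsg.Agent.H27.TS.E8Cnt

private theorem dce_78fb383e13ac : _root_.True := by
  try have : _root_.True := by simp only [_root_.Cfsg.Agent.H943.E8Tab.vecOf.eq_1]
  try have : _root_.True := by simp only [_root_.Cfsg.Agent.H27.TS.E8Cnt.trn.eq_1]
  exact _root_.True.intro
end

-- part: H27/TS/No143
section
set_option linter.all false
open scoped Cfsg.Agent.FastGrp

section
open Cfsg.Agent.H944.Tab (dotN sumH invB hh)

private noncomputable def fS (x : ℕ) (f : ℕ → ℕ) : ℕ := Nat.rec (f 0) (fun n _ => f (Nat.succ n)) x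

private noncomputable def zpS (B : ℕ) (r : List ℕ) : List ℕ → List ℕ :=
  List.rec (fun c => c.map (Nat.mul B)) (fun a _ ih c => Nat.add a (Nat.mul B (c.headD 0)) :: ih c.tail) r

private noncomputable def colS (B : ℕ) (R : List (List ℕ)) : List ℕ := List.rec [] (fun r _ ih => zpS B r ih) R

private noncomputable def pkS (B : ℕ) (y : List ℕ) (R : List (List ℕ)) : ℕ :=
  List.rec 0 (fun r _ ih => dotN r y + B * ih) R

private noncomputable def dgS (h : ℕ → ℕ) (R : List (List ℕ)) : ℕ → ℕ :=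
  List.rec (fun _ => 0) (fun _ _ ih D => Nat.add (fS (Nat.mod D 1048576) h) (ih (Nat.div D 1048576))) R

private noncomputable def sumS (h : ℕ → ℕ) (R : List (List ℕ)) (y : List ℕ) : ℕ :=
  cond (Nat.blt (dotN (colS 1 R) y) 1048576) (dgS h R (dotN (colS 1048576 R) y)) (sumH h R y)

private def gS (N q t : ℕ) : ℕ := Nat.add (hh N t) (Nat.mul 2305843009213693950 (hh N (q * t)))

private noncomputable def invS (N q : ℕ) (R : List (List ℕ)) (y : List ℕ) : Bool :=
  cond (Nat.beq (Nat.mod (sumS (gS N q) R y) 2305843009213693951) 0)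
    (Nat.beq (sumS (hh N) R y) (sumS (fun t => hh N (q * t)) R y)) false

private theorem sumS_eq : sumH = sumS := by
  have d0 : ∀ y, dotN [] y = 0 := fun y => by cases y <;> rfl
  have d1 : ∀ y, dotN y [] = 0 := fun y => by cases y <;> rfl
  have h0 : ∀ (B : ℕ) (c y : List ℕ), dotN (c.map (Nat.mul B)) y = B * dotN c y := fun B c => by
    induction c with
    | nil => exact fun y => (d0 y).trans (by rw [d0]; rfl)
    | cons b c ih =>
      intro y
      cases y with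
      | nil => exact (d1 _).trans (by rw [d1]; rfl)
      | cons x y =>
        show B * b * x + dotN (c.map (Nat.mul B)) y = B * (b * x + dotN c y)
        rw [ih, Nat.mul_add, Nat.mul_assoc]
  have h1 : ∀ (B : ℕ) (r c y : List ℕ), dotN (zpS B r c) y = dotN r y + B * dotN c y := fun B r => by
    induction r with
    | nil => exact fun c y => (h0 B c y).trans (by rw [d0, Nat.zero_add])
    | cons a r ih =>
      intro c y
      cases y with
      | nil => rw [d1, d1, d1]; rfl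
      | cons x y =>
        show (a + B * c.headD 0) * x + dotN (zpS B r c.tail) y = a * x + dotN r y + B * dotN c (x :: y)
        rw [ih]
        cases c with
        | nil =>
          show (a + B * 0) * x + (dotN r y + B * dotN [] y) = a * x + dotN r y + B * 0
          rw [d0, Nat.mul_zero, Nat.add_zero, Nat.add_zero, Nat.add_zero]
        | cons b c =>
          show (a + B * b) * x + (dotN r y + B * dotN c y) = a * x + dotN r y + B * (b * x + dotN c y)
          rw [Nat.add_mul, Nat.mul_add, Nat.mul_assoc, Nat.add_add_add_comm]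
  have h2 : ∀ (B : ℕ) (y : List ℕ) (R : List (List ℕ)), dotN (colS B R) y = pkS B y R := fun B y R => by
    induction R with
    | nil => exact d0 y
    | cons r R ih => exact (h1 B r (colS B R) y).trans (congrArg (fun z => dotN r y + B * z) ih)
  have h3 : ∀ (h : ℕ → ℕ) (y : List ℕ) (R : List (List ℕ)), pkS 1 y R < 1048576 →
      sumH h R y = dgS h R (pkS 1048576 y R) := fun h y R => by
    induction R with
    | nil => exact fun _ => rfl
    | cons r R ih =>
      intro hl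
      have e0 : dotN r y + 1 * pkS 1 y R < 1048576 := hl
      have e1 : (dotN r y + 1048576 * pkS 1048576 y R) % 1048576 = dotN r y := by omega
      have e2 : (dotN r y + 1048576 * pkS 1048576 y R) / 1048576 = pkS 1048576 y R := by omega
      show h (dotN r y) + sumH h R y = fS ((dotN r y + 1048576 * pkS 1048576 y R) % 1048576) h +
        dgS h R ((dotN r y + 1048576 * pkS 1048576 y R) / 1048576)
      rw [e1, e2, ih (by omega)]
      cases dotN r y <;> rfl
  funext h R y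
  delta sumS
  rw [h2, h2]
  cases e : Nat.blt (pkS 1 y R) 1048576 with
  | false => rfl
  | true => exact h3 h y R (Nat.blt_eq.mp e)

private theorem invS_eq : invB = invS := by
  have h0 : ∀ (N q : ℕ) (y : List ℕ) (R : List (List ℕ)), sumH (gS N q) R y =
      sumH (hh N) R y + 2305843009213693950 * sumH (fun t => hh N (q * t)) R y := fun N q y R => by
    induction R with
    | nil => rfl
    | cons r R ih =>
      show hh N (dotN r y) + 2305843009213693950 * hh N (q * dotN r y) + sumH (gS N q) R y =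
        hh N (dotN r y) + sumH (hh N) R y + 2305843009213693950 * (hh N (q * dotN r y) + sumH (fun t => hh N (q * t)) R y)
      rw [ih, Nat.mul_add, Nat.add_add_add_comm]
  funext N q R y
  delta invS invB
  rw [← sumS_eq, h0]
  cases e : Nat.beq (sumH (hh N) R y) (sumH (fun t => hh N (q * t)) R y) with
  | false => exact (Bool.cond_self _ _).symm
  | true =>
    rw [Nat.eq_of_beq_eq_true e]
    generalize sumH (fun t => hh N (q * t)) R y = s
    rw [show Nat.mod (s + 2305843009213693950 * s) 2305843009213693951 = 0 from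
      (show (s + 2305843009213693950 * s) % 2305843009213693951 = 0 by omega)]
    rfl

end


/-!
`E8(2)` has no elements of order `143 = 11 * 13` (S5745, rows `A13 ^ 2`, `A14 ^ 2` in `E8(2)`).

The root values `v : Fin 8 → ZMod 143` of such an element are invariant under the multiplication by `2`. Modulo `11`
there are `20` roots of value `0`, modulo `13` there are `24` or `12`; the orbits of `2` on `ZMod 143` have length
`1, 10, 12, 60`.
-/

set_option autoImplicit false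
set_option maxRecDepth 100000

namespace Cfsg.Agent.H27.TS.No143

open Cfsg.Agent.ChevalleyStructure.CoxeterGeom Cfsg.Agent.Tits.Roots
  Cfsg.Agent.Nodes.RGDChev
open Cfsg.Lie Cfsg.Agent.ChevalleyStructure Cfsg.Agent.ChevalleyStructure.Elts
  Cfsg.Agent.ChevalleyStructure.RootVec Cfsg.Agent.ChevalleyStructure.RootVecTab
  Cfsg.Agent.ChevalleyStructure.NPerm Cfsg.Agent.ChevalleyStructure.CoxeterGeomTypes
open Cfsg.Agent.H944.RootVals Cfsg.Agent.H944.Kac Cfsg.Agent.H944.Tab Cfsg.Agent.H943.E8Tab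
open Cfsg.Agent.H27.TS.E8Cnt

universe u

/-- the number of positive roots of value `0` -/
def zN (N : ℕ) (y : List ℕ) : ℕ := (R8.filter fun r => dotN r y % N == 0).length

/-- the zeros of an invariant functional, by a check over the alcove points -/
theorem count_of_check {N : ℕ} (hN : 0 < N) {q : ℕ} (c : ℕ → Bool)
    (hchk : allAlc th8 N (fun y => y == [0, 0, 0, 0, 0, 0, 0, 0] || !invB N q R8 y || c (zN N y)) = true)
    {v : Fin 8 → ZMod N} (hv : v ≠ 0) (hinv : ms chevE8 8 v = (ms chevE8 8 v).map (fun a => (q : ZMod N) * a)) :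
    ∃ k, c k = true ∧ (ms chevE8 8 v).count 0 = 2 * k := by
  obtain ⟨Y, hYl, hYθ, hms, hY0⟩ := alcove8 hN
    (fun w => ms chevE8 8 w = ms chevE8 8 v ∧ w ≠ 0)
    (fun w j h => ⟨by rw [ms_srefl e8T, h.1], fun h0 => h.2 (srefl_eq_zero e8T h0)⟩) ⟨rfl, hv⟩
  have h1 := allAlc_spec th8 N _ (by decide) hchk Y hYl hYθ
  simp only [Bool.or_eq_true, beq_iff_eq, Bool.not_eq_true'] at h1
  have hi : invB N q R8 Y = true := by
    refine invB_of hN tab8 len8 ?_
    have h2 : (fun i : Fin 8 => ((Y.getD i 0 : ℕ) : ZMod N)) = vecOf N Y := rfl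
    rw [h2, hms]
    exact hinv
  rcases h1 with (h1 | h1) | h1
  · exfalso
    refine hY0 ?_
    rw [h1]
    funext i
    fin_cases i <;> simp [vecOf]
  · rw [hi] at h1
    exact absurd h1 (by simp)
  · refine ⟨zN N Y, h1, ?_⟩
    rw [← hms, count_eq_filter]
    have h2 : (R8.filter fun r => decide (((dotN r Y : ℕ) : ZMod N) = 0)) = R8.filter fun r => dotN r Y % N == 0 := by
      refine List.filter_congr fun r _ => ?_
      rw [Bool.eq_iff_iff, decide_eq_true_eq, beq_iff_eq, ZMod.natCast_eq_zero_iff, Nat.dvd_iff_mod_eq_zero]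
    rw [_root_.neg_zero, h2, zN]
    omega

theorem check11 : allAlc th8 11 (fun y => y == [0, 0, 0, 0, 0, 0, 0, 0] || !invB 11 2 R8 y ||
    (zN 11 y == 10)) = true := by rw [invS_eq]; decide +kernel

theorem check13 : allAlc th8 13 (fun y => y == [0, 0, 0, 0, 0, 0, 0, 0] || !invB 13 2 R8 y ||
    (zN 13 y == 12 || zN 13 y == 6)) = true := by rw [invS_eq]; decide +kernel

/-- the elements of a multiset with a property -/
theorem card_filter_eq {α : Type*} [Fintype α] [DecidableEq α] (S : Multiset α) (p : α → Prop) [DecidablePred p] :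
    (S.filter p).card = ∑ a ∈ Finset.univ.filter p, S.count a := by
  induction S using Multiset.induction_on with
  | empty => simp
  | cons b S ih =>
    have h1 : ∀ a, (b ::ₘ S).count a = S.count a + if a = b then 1 else 0 := fun a => by
      rw [Multiset.count_cons]
    simp only [h1]
    rw [Finset.sum_add_distrib, ← ih]
    by_cases hb : p b
    · rw [Multiset.filter_cons_of_pos _ hb, Multiset.card_cons, Finset.sum_ite_eq', if_pos (by simp [hb])]
    · rw [Multiset.filter_cons_of_neg _ hb, Finset.sum_ite_eq', if_neg (by simp [hb]), add_zero]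

/-- no multiset of `240` such values -/
theorem no_ms {v : Fin 8 → ZMod 143} (hinv : ms chevE8 8 v = (ms chevE8 8 v).map (fun a => ((2 : ℕ) : ZMod 143) * a))
    (h11 : (fun i => ZMod.castHom (show 11 ∣ 143 by norm_num) (ZMod 11) (v i)) ≠ 0)
    (h13 : (fun i => ZMod.castHom (show 13 ∣ 143 by norm_num) (ZMod 13) (v i)) ≠ 0) : False := by
  set f₁ := ZMod.castHom (show 11 ∣ 143 by norm_num) (ZMod 11) with hf₁
  set f₂ := ZMod.castHom (show 13 ∣ 143 by norm_num) (ZMod 13) with hf₂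
  obtain ⟨k₁, hk₁, e₁⟩ := count_of_check (N := 11) (q := 2) (by norm_num) (fun k => k == 10) check11 h11 (inv_map f₁ hinv)
  obtain ⟨k₂, hk₂, e₂⟩ := count_of_check (N := 13) (q := 2) (by norm_num) (fun k => k == 12 || k == 6) check13 h13
    (inv_map f₂ hinv)
  simp only [beq_iff_eq, Bool.or_eq_true] at hk₁ hk₂
  have hstep : ∀ a : ZMod 143, (ms chevE8 8 v).count (2 * a) = (ms chevE8 8 v).count a := by
    intro a
    conv_lhs => rw [hinv]
    have hinj : Function.Injective (fun a : ZMod 143 => ((2 : ℕ) : ZMod 143) * a) := by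
      intro b c hbc
      have h1 : (72 : ZMod 143) * (((2 : ℕ) : ZMod 143) * b) = 72 * (((2 : ℕ) : ZMod 143) * c) := by
        simp only at hbc
        rw [hbc]
      have h2 : (72 : ZMod 143) * ((2 : ℕ) : ZMod 143) = 1 := by decide
      rwa [← mul_assoc, ← mul_assoc, h2, one_mul, one_mul] at h1
    have h3 : (2 : ZMod 143) * a = ((2 : ℕ) : ZMod 143) * a := by norm_num
    rw [h3]
    exact Multiset.count_map_eq_count' _ _ hinj _
  have hpow : ∀ (i : ℕ) (a : ZMod 143), (ms chevE8 8 v).count (2 ^ i * a) = (ms chevE8 8 v).count a := by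
    intro i
    induction i with
    | zero => intro a; rw [pow_zero, one_mul]
    | succ i ih => intro a; rw [pow_succ', mul_assoc, hstep, ih]
  have key : ∀ (m : ℕ) (f : ZMod 143 →+* ZMod m) (g : ZMod 143) (_ : DecidableEq (ZMod m)),
      (∀ a : ZMod 143, f a = 0 → a = 0 ∨ ∃ i < 12, a = 2 ^ i * g) →
      (ms chevE8 8 (fun i => f (v i))).count 0 =
        (ms chevE8 8 v).count 0 + ((Finset.univ.filter fun a : ZMod 143 => f a = 0).card - 1) *
          (ms chevE8 8 v).count g := by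
    intro m f g _ hfg
    have h1 : (ms chevE8 8 (fun i => f (v i))).count 0 = ((ms chevE8 8 v).filter fun a => f a = 0).card := by
      rw [ms_map, Multiset.count_map]
      congr 1
      refine Multiset.filter_congr fun a _ => ?_
      exact eq_comm
    rw [h1, card_filter_eq, ← Finset.add_sum_erase _ _ (show (0 : ZMod 143) ∈
      Finset.univ.filter (fun a : ZMod 143 => f a = 0) by simp)]
    congr 1
    rw [Finset.sum_congr rfl (g := fun _ => (ms chevE8 8 v).count g), Finset.sum_const, smul_eq_mul,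
      Finset.card_erase_of_mem (by simp)]
    intro a ha
    rw [Finset.mem_erase, Finset.mem_filter] at ha
    rcases hfg a ha.2.2 with h2 | ⟨i, -, rfl⟩
    · exact absurd h2 ha.1
    · exact hpow i g
  have g₁ := key 11 f₁ 11 inferInstance (by rw [hf₁]; decide +kernel)
  have g₂ := key 13 f₂ 13 inferInstance (by rw [hf₂]; decide +kernel)
  have c₁ : (Finset.univ.filter fun a : ZMod 143 => f₁ a = 0).card = 13 := by rw [hf₁]; decide +kernel
  have c₂ : (Finset.univ.filter fun a : ZMod 143 => f₂ a = 0).card = 11 := by rw [hf₂]; decide +kernel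
  rw [c₁] at g₁
  rw [c₂] at g₂
  rw [e₁] at g₁
  rw [e₂] at g₂
  omega

/-- **`E8(2)` has no elements of order `143`.** -/
theorem no143 {F : Type u} [Field F] [Finite F] (hF : Nat.card F = 2) (x : ↥(chevE8.group F)) : orderOf x ≠ 143 := by
  intro hx
  have : Fact (Nat.Prime 2) := ⟨Nat.prime_two⟩
  have hch : CharP F 2 := by
    have h1 : Fintype F := Fintype.ofFinite F
    have h2 : Fintype.card F = 2 := by rw [← Nat.card_eq_fintype_card]; exact hF
    obtain ⟨p, hp⟩ := CharP.exists F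
    obtain ⟨n, hpp, hn⟩ := FiniteField.card F p
    rw [h2] at hn
    have h3 : p ∣ 2 := by rw [hn]; exact dvd_pow_self p n.2.ne'
    have h4 : p = 2 := (Nat.prime_dvd_prime_iff_eq hpp Nat.prime_two).1 h3
    rwa [h4] at hp
  obtain ⟨v, hv⟩ := exists_vals (D := chevE8) (l := 8) e8T 2 (x := x) (N := 143) (by norm_num) (by norm_num)
    (by rw [← hx]; exact pow_orderOf_eq_one x)
  have hfrob := hv.frob
  rw [hF] at hfrob
  have hlift : ∀ (m k : ℕ) (hm : m ∣ 143) (_ : m * k = 143) (_ : k < 143) (_ : 0 < k),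
      (fun i => ZMod.castHom hm (ZMod m) (v i)) ≠ 0 := by
    intro m k hm hmk hk hk0 h0
    have h1 : x ^ k = 1 := by
      rw [← hv.ord k]
      intro i
      have h2 : ZMod.castHom hm (ZMod m) (v i) = 0 := congrFun h0 i
      have h3 : ((v i).val : ZMod m) = 0 := by
        rw [ZMod.castHom_apply] at h2
        rw [← h2, ZMod.cast_eq_val]
      rw [ZMod.natCast_eq_zero_iff] at h3
      obtain ⟨c, hc⟩ := h3
      have h4 : v i = (((v i).val : ℕ) : ZMod 143) := (ZMod.natCast_zmod_val _).symm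
      rw [h4, hc, ← Nat.cast_mul, ZMod.natCast_eq_zero_iff, ← mul_assoc, mul_comm k m, hmk]
      exact dvd_mul_right _ _
    have h5 := orderOf_dvd_of_pow_eq_one h1
    rw [hx] at h5
    exact absurd (Nat.le_of_dvd hk0 h5) (by omega)
  exact no_ms hfrob (hlift 11 13 _ (by norm_num) (by norm_num) (by norm_num))
    (hlift 13 11 _ (by norm_num) (by norm_num) (by norm_num))

end Cfsg.Agent.H27.TS.No143

private theorem dce_80f754162506 : _root_.True := by
  try have : _root_.True := by simp only [_root_.Cfsg.Agent.H27.TS.No143.zN.eq_1]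
  exact _root_.True.intro
end

-- part: H166/EP/CBound
section
prune_inst 0x201050000122000000180000a0003c4010000002004b80001000020004c2184000010621002009101030804000300040010004000000000000000000002406091002020080080000000000001000000000000000000000000000000000041000200400000
set_option linter.all false
open scoped Cfsg.Agent.FastGrp

/-!
# A bound for the centralisers of the elements of prime order (helper166, S5745)

`card_fixC_le` : `|fixC τ t| ≤ |T^τ| * q^m * (|PP t| * (q + 1)^m)`, `m` the number of the positive roots trivial on `t`.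
-/

set_option autoImplicit false
set_option linter.unusedSectionVars false

namespace Cfsg.Agent.H166.EP

open CoxeterSystem Cfsg Cfsg.Lie Cfsg.Lie.ChevalleyDatum
open Cfsg.Agent.ChevalleyStructure Cfsg.Agent.ChevalleyStructure.Elts Cfsg.Agent.ChevalleyStructure.CoxeterGeom
  Cfsg.Agent.ChevalleyStructure.CoxeterGeomTypes Cfsg.Agent.ChevalleyStructure.NPerm
open Cfsg.Agent.Tits.Roots Cfsg.Agent.Tits.Core Cfsg.Agent.Nodes Cfsg.Agent.Nodes.Reps Cfsg.Agent.Nodes.BNOf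
  Cfsg.Agent.Nodes.RGDChev Cfsg.Agent.Nodes.Bruhat Cfsg.Agent.Nodes.NormalForm
open Cfsg.Agent.KFacts.RgdField Cfsg.Agent.KFacts.RgdChevCoord
open Cfsg.Agent.BpExc Cfsg.Agent.BpExc.TorCent Cfsg.Agent.BpExc.TorChev Cfsg.Agent.BpExc.Tow
  Cfsg.Agent.BpExc.TowChev Cfsg.Agent.BpExc.Fr Cfsg.Agent.BpExc.Pair Cfsg.Agent.BpExc.LangFr Cfsg.Agent.GpExc.Field
  Cfsg.Agent.BpExc.NInst Cfsg.Agent.BpExc.NChev Cfsg.Agent.H461.E2.Sup Cfsg.Agent.H461.E2.Fix
  Cfsg.Agent.H461.E2.Cent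
open Cfsg.Agent.H378.TorDual Cfsg.Agent.H378.TorChar Cfsg.Agent.H378.TorFin
open scoped commutatorElement

universe u v

/-! ### The abstract counting -/

section Abs

variable {I W Y : Type*} [Fintype I] [DecidableEq I] [Group W] [Group Y] {M : CoxeterMatrix I}
  {cs : CoxeterSystem M W} {A : I → I → ℤ} {h : IsCartan M A} {p : ℕ} {T : Subgroup Y} {n : I → Y}
  {X : (I → ℤ) → Subgroup Y} {R : RGD cs h p T n X} {t : Y} {S : Set (I → ℤ)} {τ : MulAut Y}
  {g : (I → ℤ) ≃+ (I → ℤ)} (D : Dat R t S τ g)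

include D

/-- **The Bruhat form of `C_Y(t)^τ`** with the position of the right factor. -/
theorem exists_form' [Finite W] {c : Y} (hc : c ∈ fixC τ t) :
    ∃ u ∈ RGD.Sup X (SP S) ⊓ fixC τ t, ∃ w, ∃ k ∈ fixC τ t, Rp cs R.nsys w k ∧
      ∃ v ∈ RGD.Sup X (NW cs h w ∩ S) ⊓ fixC τ t, c = u * k * v := by
  obtain ⟨w, hw⟩ := (mem_GG R).1 (D.le hc)
  obtain ⟨u, hu, k, hk, v, hv, rfl⟩ := Cfsg.Agent.Nodes.NormalForm.exists_normal_form R hw
  obtain ⟨hτ, hct⟩ := mem_fixC.1 hc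
  obtain ⟨h1, h2, h3⟩ := centralizer_form R (S := {t}) (Set.singleton_subset_iff.2 D.mem) hu hk hv
    (Subgroup.mem_centralizer_singleton_iff.2 hct)
  have hu' : u ∈ RGD.Sup X (SP S) := by
    have h4 : u ∈ RGD.Sup (fun x => X x ⊓ Subgroup.centralizer {t}) (RGD.Pos cs h) := by
      rw [← centralizer_U R (Set.singleton_subset_iff.2 D.mem)]
      exact ⟨hu, h1⟩
    exact RGD.Sup_mono (S := RGD.Pos cs h ∩ S) (S' := SP S) (fun a ha => ⟨ha.2, ha.1.2⟩)
      (D.sup_cent _ (fun a ha => ha.1) h4)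
  have hv' : v ∈ RGD.Sup X (NW cs h w ∩ S) := by
    refine D.sup_cent _ (fun a ha => ha.1) ?_
    rw [NW_eq] at hv ⊢
    exact centralizer_PW R _ (Set.singleton_subset_iff.2 D.mem) hv h3
  obtain ⟨w', hk'⟩ := D.rp w k hk
  have hτv : τ v ∈ RGD.Sup X (NW cs h w') := by
    have h4 : RGD.Sup X (NW cs h w ∩ S) ≤ (RGD.Sup X (NW cs h w')).comap τ.toMonoidHom := by
      refine RGD.Sup_le fun a ha y hy => ?_
      refine RGD.le_Sup (S := NW cs h w') ⟨(D.fr.root a).2 ha.1.1, D.pos a ha.2 ha.1.2.1, ?_⟩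
        ((D.fr.map a ha.1.1 y).2 hy)
      rw [D.rep_g hk hk' ha.1.1]
      exact D.g_neg (D.act hk h2 ha.2) ha.1.2.2
    exact h4 hv'
  have e : τ u * τ k * τ v = u * k * v := by rw [← map_mul, ← map_mul]; exact hτ
  have hτu := D.U_le (D.map_U hu')
  have hB : ∀ {w : W} {v : Y}, v ∈ RGD.Sup X (NW cs h w) → v ∈ RGD.B cs h T X := fun hv =>
    RGD.U_le_B (RGD.Sup_mono (S := NW cs h _) (S' := RGD.Pos cs h) (fun x hx => ⟨hx.1, hx.2.1⟩) hv)
  have c1 : Cell R.nsys cs h X w (u * k * v) := ⟨u, RGD.U_le_B hu, k, hk, v, hB hv, rfl⟩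
  have c2 : Cell R.nsys cs h X w' (u * k * v) := ⟨τ u, RGD.U_le_B hτu, τ k, hk', τ v, hB hτv, e.symm⟩
  have hw : w = w' := Cell.unique R c1 c2
  subst hw
  obtain ⟨e1, e2, e3⟩ := Cfsg.Agent.Nodes.NormalForm.normal_form_unique R hτu hu hk' hk hτv hv e
  have hfu : u ∈ fixC τ t := mem_fixC.2 ⟨e1, Subgroup.mem_centralizer_singleton_iff.1 h1⟩
  have hfk : k ∈ fixC τ t := mem_fixC.2 ⟨e2, Subgroup.mem_centralizer_singleton_iff.1 h2⟩
  have hfv : v ∈ fixC τ t := mem_fixC.2 ⟨e3, Subgroup.mem_centralizer_singleton_iff.1 h3⟩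
  exact ⟨u, ⟨hu', hfu⟩, w, k, hfk, hk, v, ⟨hv', hfv⟩, rfl⟩

/-- the elements of `W` with a representative in `fixC τ t` -/
def Wt (R : RGD cs h p T n X) (t : Y) (τ : MulAut Y) : Set W := {w | ∃ k ∈ fixC τ t, Rp cs R.nsys w k}

/-- for `w ∈ Wt` the set `NW w ∩ S` is `g`-invariant -/
theorem g_inv [Finite W] {w : W} (hw : w ∈ Wt R t τ) {a : I → ℤ} (ha : a ∈ NW cs h w ∩ S) :
    g a ∈ NW cs h w ∩ S := by
  obtain ⟨k, hk, hkw⟩ := hw
  obtain ⟨hτk, hkt⟩ := mem_fixC.1 hk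
  refine ⟨⟨(D.fr.root a).2 ha.1.1, D.pos a ha.2 ha.1.2.1, ?_⟩, D.g_mem ha.2⟩
  have hk' : Rp cs R.nsys w (τ k) := by rw [hτk]; exact hkw
  rw [D.rep_g hkw hk' ha.1.1]
  exact D.g_neg (D.act hkw (Subgroup.mem_centralizer_singleton_iff.2 hkt) ha.2) ha.1.2.2

/-- **The count.** -/
theorem card_fixC_le_sum [Finite W] [Finite ↥(fixC τ t)] (b : Finset W) (hb : ∀ w ∈ Wt R t τ, w ∈ b) :
    Nat.card ↥(fixC τ t) ≤ ∑ w ∈ b, Nat.card ↥(RGD.Sup X (SP S) ⊓ fixC τ t) *
      (Nat.card ↥(T ⊓ fixC τ t) * Nat.card ↥(RGD.Sup X (NW cs h w ∩ S) ⊓ fixC τ t)) := by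
  classical
  have hfin : ∀ Q : Subgroup Y, Finite ↥(Q ⊓ fixC τ t) := fun Q =>
    Finite.of_injective (Subgroup.inclusion (inf_le_right : Q ⊓ fixC τ t ≤ fixC τ t))
      (Subgroup.inclusion_injective _)
  -- a representative for every element of `Wt`
  let κ : W → Y := fun w => if h : w ∈ Wt R t τ then h.choose else 1
  have hκ : ∀ w (h : w ∈ Wt R t τ), κ w ∈ fixC τ t ∧ Rp cs R.nsys w (κ w) := by
    intro w hw
    have e : κ w = hw.choose := dif_pos hw
    rw [e]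
    exact hw.choose_spec
  have hform : ∀ c : ↥(fixC τ t), ∃ x : (Σ w : ↥b, ↥(RGD.Sup X (SP S) ⊓ fixC τ t) × ↥(T ⊓ fixC τ t) ×
      ↥(RGD.Sup X (NW cs h w ∩ S) ⊓ fixC τ t)), (c : Y) = x.2.1.1 * (κ x.1 * x.2.2.1.1) * x.2.2.2.1 := by
    rintro ⟨c, hc⟩
    obtain ⟨u, hu, w, k, hk, hkw, v, hv, rfl⟩ := exists_form' D hc
    have hw : w ∈ Wt R t τ := ⟨k, hk, hkw⟩
    obtain ⟨h1, h2⟩ := hκ w hw
    refine ⟨⟨⟨w, hb w hw⟩, ⟨u, hu⟩, ⟨(κ w)⁻¹ * k, ?_, (fixC τ t).mul_mem ((fixC τ t).inv_mem h1) hk⟩, ⟨v, hv⟩⟩, ?_⟩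
    · exact h2.unique hkw
    · show u * k * v = u * (κ w * ((κ w)⁻¹ * k)) * v
      group
  choose f hf using hform
  have hinj : Function.Injective f := by
    intro a b hab
    apply Subtype.ext
    rw [hf a, hf b, hab]
  have : ∀ w : ↥b, Finite (↥(RGD.Sup X (SP S) ⊓ fixC τ t) × ↥(T ⊓ fixC τ t) ×
      ↥(RGD.Sup X (NW cs h w ∩ S) ⊓ fixC τ t)) := fun w => by
    have := hfin (RGD.Sup X (SP S))
    have := hfin T
    have := hfin (RGD.Sup X (NW cs h w ∩ S))
    infer_instance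
  refine (Nat.card_le_card_of_injective f hinj).trans (le_of_eq ?_)
  rw [Nat.card_sigma, ← Finset.sum_coe_sort b]
  exact Finset.sum_congr rfl fun w _ => by rw [Nat.card_prod, Nat.card_prod]

omit D in
/-- **The sum over the Weyl group.** -/
theorem sum_pow_le {b : Finset W} (P : Subgroup W) [Finite P] (hSf : (SP S).Finite)
    (hP : ∀ w ∈ b, ∀ w' ∈ b, NW cs h w ∩ S = NW cs h w' ∩ S → w' * w⁻¹ ∈ P) (q : ℕ) :
    ∑ w ∈ b, q ^ (NW cs h w ∩ S).ncard ≤ Nat.card P * (q + 1) ^ (SP S).ncard := by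
  classical
  let F : Finset (I → ℤ) := hSf.toFinset
  let f : W → Finset (I → ℤ) := fun w => F.filter (fun a => a ∈ NW cs h w)
  have hf : ∀ w, (f w : Set (I → ℤ)) = NW cs h w ∩ S := by
    intro w
    ext a
    simp only [f, F, Finset.coe_filter, Set.Finite.mem_toFinset, Set.mem_ofPred_eq]
    constructor
    · rintro ⟨h1, h2⟩
      exact ⟨h2, h1.1⟩
    · rintro ⟨h1, h2⟩
      exact ⟨⟨h2, h1.2.1⟩, h1⟩
  have hc : ∀ w, (NW cs h w ∩ S).ncard = (f w).card := fun w => by rw [← hf, Set.ncard_coe_finset]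
  have h1 : ∑ w ∈ b, q ^ (NW cs h w ∩ S).ncard =
      ∑ A ∈ F.powerset, ∑ w ∈ b.filter (fun w => f w = A), q ^ (NW cs h w ∩ S).ncard := by
    refine (Finset.sum_fiberwise_of_maps_to (fun w _ => ?_) _).symm
    exact Finset.mem_powerset.2 (Finset.filter_subset _ _)
  have h2 : ∀ A ∈ F.powerset, ∑ w ∈ b.filter (fun w => f w = A), q ^ (NW cs h w ∩ S).ncard ≤
      Nat.card P * q ^ A.card := by
    intro A _
    have h3 : ∑ w ∈ b.filter (fun w => f w = A), q ^ (NW cs h w ∩ S).ncard =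
        ∑ w ∈ b.filter (fun w => f w = A), q ^ A.card := by
      refine Finset.sum_congr rfl fun w hw => ?_
      rw [hc, (Finset.mem_filter.1 hw).2]
    rw [h3, Finset.sum_const, smul_eq_mul]
    refine Nat.mul_le_mul_right _ ?_
    rcases (b.filter (fun w => f w = A)).eq_empty_or_nonempty with h4 | ⟨w0, hw0⟩
    · rw [h4, Finset.card_empty]; exact Nat.zero_le _
    · obtain ⟨h5, h6⟩ := Finset.mem_filter.1 hw0
      have h7 : ∀ w ∈ b.filter (fun w => f w = A), w * w0⁻¹ ∈ P := by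
        intro w hw
        obtain ⟨h8, h9⟩ := Finset.mem_filter.1 hw
        refine hP w0 h5 w h8 ?_
        rw [← hf, ← hf, h6, h9]
      have h8 := Nat.card_le_card_of_injective (fun w : ↥(b.filter (fun w => f w = A)) =>
        (⟨w.1 * w0⁻¹, h7 w.1 w.2⟩ : P)) (fun x y hxy => Subtype.ext (mul_right_cancel (congrArg Subtype.val hxy)))
      rwa [Nat.card_eq_fintype_card, Fintype.card_coe] at h8
  rw [h1]
  refine (Finset.sum_le_sum h2).trans (le_of_eq ?_)
  rw [← Finset.mul_sum]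
  congr 1
  have h3 := Finset.sum_pow_mul_eq_add_pow q 1 F
  simp only [one_pow, mul_one] at h3
  rw [h3]
  congr 1
  rw [← Set.ncard_coe_finset]
  simp [F]

end Abs

/-! ### The Chevalley groups -/

section

variable {D : ChevalleyDatum} {l : ℕ} {M : CoxeterMatrix (Fin l)} (hp : IsType D l M) {k : Type u} [Field k]
  {W : Type*} [Group W] (cs : CoxeterSystem M W)

/-- The data of `fixC τ t` at a finite level. -/
theorem exists_dat [IsAlgClosed k] (hk : LocFin k) {r e : ℕ} [Fact r.Prime] [CharP k r]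
    {t : ↥(D.group k)} (ht : t ∈ TT D k) (he : 0 < e) {τ : MulAut ↥(D.group k)}
    (hτ : IsFrob r e τ) {g : (Fin l → ℤ) ≃+ (Fin l → ℤ)} (F : Fr cs hp.isCartan (TT D k) (XX D l k) τ g)
    (hτt : τ t = t) (hpos : ∀ a ∈ Sx cs hp.isCartan (ch hp) t, 0 ≤ a → 0 ≤ g a) [Finite ↥(fixC τ t)] :
    ∃ E : Lev k, Dat ((tow (k := k) hp cs hk r).rgd E) t (Sx cs hp.isCartan (ch hp) t) τ g := by
  have := finite_W hp cs
  have H := tow (k := k) hp cs hk r
  have C := coordsL (k := k) hp cs hk r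
  have hA := chAddL (k := k) hp cs hk r
  have hG := GG_eq_top (k := k) hp cs hk
  have hTL := TL_eq (k := k) hp hk
  have hXL := XL_eq (k := k) hp hk
  have F' : Fr cs hp.isCartan (TL (Tj hp (k := k))) (XL (Xj hp (k := k))) τ g := by rw [hTL, hXL]; exact F
  have hsep : ∀ a, IsRoot cs hp.isCartan a → ∃ s ∈ TL (Tj hp (k := k)), ∀ u ∈ XL (Xj hp (k := k)) a,
      u * s = s * u → u = 1 := by
    rw [hTL, hXL]
    exact fun a ha => sep hp cs hk r ha
  obtain ⟨E1, hE1⟩ := HX.fr_level hp cs hk hτ F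
  obtain ⟨E2, hE2⟩ := HX.exists_fixed_level hp cs hk he hτ F
  obtain ⟨E3, hE3⟩ := exists_TT hp hk ht
  obtain ⟨E4, hE4⟩ := exists_level_finite hp hk (S := (fixC τ t : Set ↥(D.group k))) (Set.toFinite _)
  obtain ⟨E5, a1, a2⟩ := dir_lev hk E1 E2
  obtain ⟨E6, a3, a4⟩ := dir_lev hk E3 E4
  obtain ⟨E, b1, b2⟩ := dir_lev hk E5 E6
  have FE := hE1 E (a1.trans b1)
  have hX : ∀ a, Xj hp E a ≤ XX D l k a := fun a => by rw [← hXL]; exact le_XL E a
  obtain ⟨t', ht', htt⟩ := hE3 E (a3.trans b2)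
  have htE : t ∈ Tj hp E := ⟨t', ht', htt⟩
  exact ⟨E,
    { mem := htE
      root := fun a ha => ha.1
      neg := fun a ha => chi_neg C ht hA ha
      cent := fun a ha => (hX a).trans (X_le_centralizer C ht ha)
      of_cent := fun a ha u hu hu1 hc => mem_Sx_of_centralizer C ht ha (hX a hu) hu1 hc
      fr := FE
      fix := hτt
      pos := hpos
      rp := fun w kk hkk => by
        obtain ⟨w', hw'⟩ := rp_fr H hG hsep F' (H.rp_up hkk)
        obtain ⟨k0, h0, h0'⟩ := H.exists_rp w'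
        have h1 : k0⁻¹ * τ kk ∈ TT D k := by
          rw [← hTL]
          exact h0'.unique hw'
        have h2 : k0⁻¹ * τ kk ∈ (emb hp.inList E.1.subtype).range := by
          rw [← GGj_eq hp cs]
          refine mul_mem (inv_mem ?_) (fr_GG FE ?_)
          · exact (mem_GG (H.rgd E)).2 ⟨w', cell_of_rp (h0 E)⟩
          · exact (mem_GG (H.rgd E)).2 ⟨w, cell_of_rp hkk⟩
        have h3 : k0⁻¹ * τ kk ∈ Tj hp E := (HX.mem_Tj hp cs hk r).2 ⟨h1, h2⟩
        have e : τ kk = k0 * (k0⁻¹ * τ kk) := by group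
        exact ⟨w', by rw [e]; exact (h0 E).mul_mem_right h3⟩
      comm := fun x hx y hy hxy hxy' a ha b hb => by
        have h1 := CommZ.comm_mem_Zj hp cs E hx.1 hy.1 hxy hxy' ha hb
        refine RGD.Sup_mono (S := CommZ.combZ cs hp x y) ?_ h1
        rintro z ⟨hz, i, j, hi, hj, e⟩
        obtain ⟨φ, h0, hadd, hφ⟩ := hA t ht
        have hn : ∀ (i : ℕ) (x : Fin l → ℤ), φ (i • x) = φ x ^ i := by
          intro i x
          induction i with
          | zero => rw [zero_smul, pow_zero, h0]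
          | succ i ih => rw [succ_nsmul, hadd, ih, pow_succ]
        refine ⟨⟨hz, ?_⟩, i, j, hi, hj, e⟩
        rw [hφ z hz, e, hadd, hn, hn, ← hφ x hx.1, ← hφ y hy.1, hx.2, hy.2, one_pow, one_pow, one_mul]
      fixed := fun a ha => hE2 E (a2.trans b1) a ha.1
      le := fun y hy => by
        rw [GGj_eq hp cs]
        exact hE4 E (a4.trans b2) hy }⟩

/-- `NW w ∩ S` is closed under integral combinations -/
theorem zcl_NW {r : ℕ} [Fact r.Prime] [CharP k r] (hk : LocFin k) {t : ↥(D.group k)} (ht : t ∈ TT D k) (w : W) :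
    ZCl cs hp.isCartan (NW cs hp.isCartan w ∩ Sx cs hp.isCartan (ch hp) t) := by
  have hA := chAddL (k := k) hp cs hk r
  rintro x ⟨⟨hx, hx0, hxw⟩, -, hx1⟩ y ⟨⟨hy, hy0, hyw⟩, -, hy1⟩ z hz ⟨i, j, hi, hj, e⟩
  obtain ⟨φ, h0, hadd, hφ⟩ := hA t ht
  have hn : ∀ (i : ℕ) (x : Fin l → ℤ), φ (i • x) = φ x ^ i := by
    intro i x
    induction i with
    | zero => rw [zero_smul, pow_zero, h0]
    | succ i ih => rw [succ_nsmul, hadd, ih, pow_succ]
  refine ⟨⟨hz, ?_, ?_⟩, hz, ?_⟩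
  · rw [e]
    exact add_nonneg (nsmul_nonneg hx0 i) (nsmul_nonneg hy0 j)
  · rw [e, map_add, map_nsmul, map_nsmul]
    exact add_nonpos (nsmul_nonpos hxw i) (nsmul_nonpos hyw j)
  · rw [hφ z hz, e, hadd, hn, hn, ← hφ x hx, ← hφ y hy, hx1, hy1, one_pow, one_pow, one_mul]

/-- **The bound for `fixC τ t`.** -/
theorem card_fixC_le [IsAlgClosed k] [Finite W] (hk : LocFin k) {r e : ℕ} [Fact r.Prime] [CharP k r]
    {t : ↥(D.group k)} (ht : t ∈ TT D k) (he : 0 < e) {τ : MulAut ↥(D.group k)}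
    (hτ : IsFrob r e τ) {g : (Fin l → ℤ) ≃+ (Fin l → ℤ)} (F : Fr cs hp.isCartan (TT D k) (XX D l k) τ g)
    (hτt : τ t = t) (hpos : ∀ a ∈ Sx cs hp.isCartan (ch hp) t, 0 ≤ a → 0 ≤ g a) [Finite ↥(fixC τ t)]
    [Finite ↥(TT D k ⊓ fixedSubgroup τ)] :
    Nat.card ↥(fixC τ t) ≤ (r ^ e) ^ (SP (Sx cs hp.isCartan (ch hp) t)).ncard *
      (Nat.card ↥(TT D k ⊓ fixedSubgroup τ) * (Nat.card ↥(PP cs hp.isCartan (ch hp) t) *
        (r ^ e + 1) ^ (SP (Sx cs hp.isCartan (ch hp) t)).ncard)) := by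
  classical
  have H := tow (k := k) hp cs hk r
  have C := coordsL (k := k) hp cs hk r
  have hTL := TL_eq (k := k) hp hk
  have hXL := XL_eq (k := k) hp hk
  obtain ⟨E, Dt⟩ := exists_dat hp cs hk ht he hτ F hτt hpos
  set S := Sx cs hp.isCartan (ch hp) t with hS
  let _ : Fintype W := Fintype.ofFinite W
  let b : Finset W := Finset.univ.filter (fun w => w ∈ Wt (H.rgd E) t τ)
  have hX : ∀ a, Xj hp E a ≤ XX D l k a := fun a => by rw [← hXL]; exact le_XL E a
  have hT : Tj hp E ≤ TT D k := by rw [← hTL]; exact le_TL E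
  have hq : 0 < r ^ e := pow_pos (Fact.out : r.Prime).pos e
  -- the unipotent parts
  have hU : ∀ Ψ : Set (Fin l → ℤ), Ψ ⊆ RGD.Pos cs hp.isCartan → ZCl cs hp.isCartan Ψ → (∀ a ∈ Ψ, g a ∈ Ψ) →
      Nat.card ↥(RGD.Sup (Xj hp E) Ψ ⊓ fixC τ t) ≤ (r ^ e) ^ Ψ.ncard := by
    intro Ψ h1 h2 h3
    have h4 := card_fix (hp := hp) (cs := cs) hk r he hτ F h1 h2 h3
    rw [← h4]
    have h5 : Finite ↥(RGD.Sup (XX D l k) Ψ ⊓ fixedSubgroup τ) := Nat.finite_of_card_ne_zero (by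
      rw [h4]; exact (pow_pos hq _).ne')
    refine Nat.card_le_card_of_injective (Subgroup.inclusion ?_) (Subgroup.inclusion_injective _)
    rintro y ⟨h6, h7⟩
    refine ⟨?_, (mem_fixC.1 h7).1⟩
    have h8 := Sup_le_SupL E Ψ h6
    rwa [hXL] at h8
  have hTT : Nat.card ↥(Tj hp E ⊓ fixC τ t) ≤ Nat.card ↥(TT D k ⊓ fixedSubgroup τ) :=
    have h0 : Tj hp E ⊓ fixC τ t ≤ TT D k ⊓ fixedSubgroup τ := fun y hy => ⟨hT hy.1, (mem_fixC.1 hy.2).1⟩
    Nat.card_le_card_of_injective (Subgroup.inclusion h0) (Subgroup.inclusion_injective _)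
  have h1 := card_fixC_le_sum Dt b (fun w hw => Finset.mem_filter.2 ⟨Finset.mem_univ _, hw⟩)
  refine h1.trans ?_
  have h2 : ∀ w ∈ b, Nat.card ↥(RGD.Sup (Xj hp E) (SP S) ⊓ fixC τ t) *
      (Nat.card ↥(Tj hp E ⊓ fixC τ t) * Nat.card ↥(RGD.Sup (Xj hp E) (NW cs hp.isCartan w ∩ S) ⊓ fixC τ t)) ≤
      (r ^ e) ^ (SP S).ncard * (Nat.card ↥(TT D k ⊓ fixedSubgroup τ) *
        (r ^ e) ^ (NW cs hp.isCartan w ∩ S).ncard) := by
    intro w hw
    have hw' := (Finset.mem_filter.1 hw).2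
    refine Nat.mul_le_mul ?_ (Nat.mul_le_mul hTT ?_)
    · exact hU _ Dt.SP_le (zcl_Sx (r := r) hp cs hk ht) (fun a ha => ⟨Dt.g_mem ha.1, Dt.pos a ha.1 ha.2⟩)
    · exact hU _ (fun a ha => ⟨ha.1.1, ha.1.2.1⟩) (zcl_NW (r := r) hp cs hk ht w) (fun a ha => g_inv Dt hw' ha)
  refine (Finset.sum_le_sum h2).trans ?_
  rw [← Finset.mul_sum, ← Finset.mul_sum]
  refine Nat.mul_le_mul_left _ (Nat.mul_le_mul_left _ ?_)
  have hroots : {a | IsRoot cs hp.isCartan a}.Finite := RGD.finite_roots (cs := cs) (h := hp.isCartan)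
  refine sum_pow_le (PP cs hp.isCartan (ch hp) t) (hroots.subset fun a ha => ha.1.1) ?_ _
  -- the fibres
  have C' : Coords cs hp.isCartan (TL (Tj hp (k := k))) (nc hp k) (XL (Xj hp (k := k))) (xc hp) (ch hp) := by
    rw [hTL, hXL]; exact C
  have ht' : t ∈ TL (Tj hp (k := k)) := by rw [hTL]; exact ht
  have hchi : ∀ w ∈ b, ∀ a, IsRoot cs hp.isCartan a → ch hp (rep cs hp.isCartan w a) t = ch hp a t := by
    intro w hw a ha
    obtain ⟨kk, hkf, hkk⟩ := (Finset.mem_filter.1 hw).2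
    have h1 := C'.chi_rp H.nsys (H.rp_up hkk) ha ht'
    have h2 : kk * t * kk⁻¹ = t := by rw [(mem_fixC.1 hkf).2]; group
    rwa [h2] at h1
  have hmem : ∀ w ∈ b, ∀ a, IsRoot cs hp.isCartan a → (rep cs hp.isCartan w a ∈ S ↔ a ∈ S) := by
    intro w hw a ha
    constructor
    · rintro ⟨-, h2⟩
      exact ⟨ha, by rw [← hchi w hw a ha]; exact h2⟩
    · rintro ⟨-, h2⟩
      exact ⟨ha.act w, by rw [hchi w hw a ha]; exact h2⟩
  intro w hw w' hw' hNW
  refine mem_PP.2 ⟨fun a ha => ?_, fun a ha h0 => ?_⟩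
  · rw [rep_mul_apply, hchi w' hw' _ (ha.act w⁻¹), ← hchi w hw _ (ha.act w⁻¹), rep_apply_inv]
  · rw [rep_mul_apply]
    set c := rep cs hp.isCartan w⁻¹ a with hc
    have hcr : IsRoot cs hp.isCartan c := ha.1.act w⁻¹
    have hwc : rep cs hp.isCartan w c = a := rep_apply_inv _ _ _ _
    have hcS : c ∈ S := (hmem w hw c hcr).1 (by rw [hwc]; exact ha)
    rcases hcr.pos_or_neg with h3 | h3
    · -- `c > 0`, `w c = a > 0`
      rcases (hcr.act w').pos_or_neg with h4 | h4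
      · exact h4
      · exfalso
        have h5 : c ∈ NW cs hp.isCartan w' ∩ S := ⟨⟨hcr, h3, h4⟩, hcS⟩
        rw [← hNW] at h5
        have h6 := h5.1.2.2
        rw [hwc] at h6
        exact ha.1.not_pos_neg h0 h6
    · have h5 : -c ∈ NW cs hp.isCartan w ∩ S := by
        refine ⟨⟨hcr.neg, neg_nonneg.2 h3, ?_⟩, Dt.neg c hcS⟩
        rw [map_neg, hwc]
        exact neg_nonpos.2 h0
      rw [hNW] at h5
      have h6 := h5.1.2.2
      rw [map_neg] at h6
      exact neg_nonpos.1 h6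

end

/-! ### The determinant of `g - q` -/

/-- **The determinant of `g - q`, `g` of finite order.** -/
theorem det_mat_le {n : ℕ} (A : Matrix (Fin n) (Fin n) ℤ) {m : ℕ} (hm : m ≠ 0) (hA : A ^ m = 1) (q : ℕ) :
    (A - (q : ℤ) • (1 : Matrix (Fin n) (Fin n) ℤ)).det.natAbs ≤ (q + 1) ^ n := by
  classical
  set B : Matrix (Fin n) (Fin n) ℂ := A.map (Int.castRingHom ℂ) with hB
  have hBm : B ^ m = 1 := by
    have h1 : (Int.castRingHom ℂ).mapMatrix (A ^ m) = (Int.castRingHom ℂ).mapMatrix 1 := by rw [hA]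
    rw [map_pow, map_one] at h1
    exact h1
  have hroot : ∀ α ∈ B.charpoly.roots, ‖(q : ℂ) - α‖ ≤ q + 1 := by
    intro α hα
    have h1 : B.charpoly.eval α = 0 := (Polynomial.mem_roots'.1 hα).2
    rw [Matrix.eval_charpoly] at h1
    obtain ⟨v, hv, hv'⟩ := Matrix.exists_mulVec_eq_zero_iff.2 h1
    have h2 : B.mulVec v = α • v := by
      rw [Matrix.sub_mulVec, sub_eq_zero] at hv'
      rw [← hv']
      simp [Matrix.scalar_apply]
    have h3 : ∀ j : ℕ, (B ^ j).mulVec v = α ^ j • v := by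
      intro j
      induction j with
      | zero => simp
      | succ j ih => rw [pow_succ', ← Matrix.mulVec_mulVec, ih, Matrix.mulVec_smul, h2, smul_smul, pow_succ]
    have h4 := h3 m
    rw [hBm, Matrix.one_mulVec] at h4
    have h5 : α ^ m = 1 := by
      by_contra h6
      apply hv
      have h7 : (α ^ m - 1) • v = 0 := by rw [sub_smul, ← h4, one_smul, sub_self]
      exact (smul_eq_zero.1 h7).resolve_left (sub_ne_zero.2 h6)
    have h6 : ‖α‖ = 1 := by
      have h7 : ‖α‖ ^ m = 1 := by rw [← norm_pow, h5, norm_one]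
      exact (pow_eq_one_iff_of_nonneg (norm_nonneg _) hm).1 h7
    calc ‖(q : ℂ) - α‖ ≤ ‖(q : ℂ)‖ + ‖α‖ := norm_sub_le _ _
      _ = q + 1 := by rw [h6]; simp
  have h1 : ‖((Matrix.scalar (Fin n)) (q : ℂ) - B).det‖ ≤ (q + 1 : ℝ) ^ n := by
    rw [← Matrix.eval_charpoly,
      (IsAlgClosed.splits B.charpoly).eval_eq_prod_roots_of_monic (Matrix.charpoly_monic B)]
    have h2 : Multiset.card B.charpoly.roots = n := by
      rw [← (IsAlgClosed.splits B.charpoly).natDegree_eq_card_roots, Matrix.charpoly_natDegree_eq_dim,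
        Fintype.card_fin]
    have h3 : ∀ s : Multiset ℂ, (∀ α ∈ s, ‖(q : ℂ) - α‖ ≤ q + 1) →
        ‖(s.map fun α => (q : ℂ) - α).prod‖ ≤ (q + 1 : ℝ) ^ Multiset.card s := by
      intro s
      induction s using Multiset.induction with
      | empty => simp
      | cons a s ih =>
        intro h
        rw [Multiset.map_cons, Multiset.prod_cons, norm_mul, Multiset.card_cons, pow_succ']
        exact mul_le_mul (h a (Multiset.mem_cons_self a s)) (ih fun α hα => h α (Multiset.mem_cons_of_mem hα))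
          (norm_nonneg _) (by positivity)
    have h4 := h3 _ hroot
    rwa [h2] at h4
  have h2 : ‖(((A - (q : ℤ) • (1 : Matrix (Fin n) (Fin n) ℤ)).det : ℤ) : ℂ)‖ =
      ‖((Matrix.scalar (Fin n)) (q : ℂ) - B).det‖ := by
    have h3 : (((A - (q : ℤ) • (1 : Matrix (Fin n) (Fin n) ℤ)).det : ℤ) : ℂ) =
        (-((Matrix.scalar (Fin n)) (q : ℂ) - B)).det := by
      have h4 := (Int.castRingHom ℂ).map_det (A - (q : ℤ) • (1 : Matrix (Fin n) (Fin n) ℤ))
      rw [show (((A - (q : ℤ) • (1 : Matrix (Fin n) (Fin n) ℤ)).det : ℤ) : ℂ) =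
        (Int.castRingHom ℂ) (A - (q : ℤ) • (1 : Matrix (Fin n) (Fin n) ℤ)).det from rfl, h4]
      congr 1
      ext i j
      simp only [RingHom.mapMatrix_apply, Matrix.map_apply, Matrix.sub_apply, Matrix.smul_apply, Matrix.neg_apply,
        Matrix.scalar_apply, Matrix.diagonal_apply, Matrix.one_apply, hB, smul_eq_mul, map_sub, map_mul]
      split_ifs <;> simp
    rw [h3, Matrix.det_neg, norm_mul, norm_pow, norm_neg, norm_one, one_pow, one_mul]
  rw [← h2, Complex.norm_intCast] at h1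
  have h3 : (((A - (q : ℤ) • (1 : Matrix (Fin n) (Fin n) ℤ)).det.natAbs : ℕ) : ℝ) ≤ ((q + 1) ^ n : ℕ) := by
    push_cast
    rw [Nat.cast_natAbs, Int.cast_abs]
    exact h1
  exact_mod_cast h3

/-- **The same for endomorphisms of `ℤ^l`.** -/
theorem det_end_le {l : ℕ} (g : Module.End ℤ (Fin l → ℤ)) {m : ℕ} (hm : m ≠ 0) (hg : g ^ m = 1) (q : ℕ) :
    (LinearMap.det (g - (q : ℤ) • (1 : Module.End ℤ (Fin l → ℤ)))).natAbs ≤ (q + 1) ^ l := by
  have h1 := det_mat_le (LinearMap.toMatrixAlgEquiv' g) hm (by rw [← map_pow, hg, map_one]) q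
  refine le_trans (le_of_eq ?_) h1
  congr 1
  rw [← LinearMap.det_toMatrix']
  congr 1
  show LinearMap.toMatrixAlgEquiv' (g - (q : ℤ) • (1 : Module.End ℤ (Fin l → ℤ))) = _
  rw [map_sub, map_smul, map_one]

/-! ### The fixed points of the torus -/

section Tor

variable {D : ChevalleyDatum} {l : ℕ} {M : CoxeterMatrix (Fin l)} (hp : IsType D l M) {k : Type u} [Field k]
  {W : Type*} [Group W] (cs : CoxeterSystem M W)

/-- an additive automorphism as an endomorphism -/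
def en (g : (Fin l → ℤ) ≃+ (Fin l → ℤ)) : Module.End ℤ (Fin l → ℤ) := g.toAddMonoidHom.toIntLinearMap

theorem en_apply (g : (Fin l → ℤ) ≃+ (Fin l → ℤ)) (x : Fin l → ℤ) : en g x = g x := rfl

theorem en_pow_apply (g : (Fin l → ℤ) ≃+ (Fin l → ℤ)) (j : ℕ) (x : Fin l → ℤ) : (en g ^ j) x = g^[j] x := by
  induction j with
  | zero => rfl
  | succ j ih => rw [pow_succ', Module.End.mul_apply, ih, Function.iterate_succ_apply', en_apply]

theorem end_ext {f f' : Module.End ℤ (Fin l → ℤ)} (h : ∀ i, f (sr i) = f' (sr i)) : f = f' := by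
  refine LinearMap.ext fun x => ?_
  rw [sum_sr x, map_sum, map_sum]
  exact Finset.sum_congr rfl fun i _ => by rw [map_smul, map_smul, h i]

/-- **`g` has finite order.** -/
theorem exists_pow [Finite W] {A : Fin l → Fin l → ℤ} (h : IsCartan M A) {g : (Fin l → ℤ) ≃+ (Fin l → ℤ)}
    (hg : ∀ a, IsRoot cs h (g a) ↔ IsRoot cs h a) : ∃ m, m ≠ 0 ∧ en g ^ m = 1 := by
  have : Finite ↥{a | IsRoot cs h a} := (RGD.finite_roots (cs := cs) (h := h)).to_subtype
  let σ : Equiv.Perm ↥{a | IsRoot cs h a} := g.toEquiv.subtypeEquiv fun a => (hg a).symm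
  have h1 : ∀ (j : ℕ) (a : ↥{a | IsRoot cs h a}), ((σ ^ j) a).1 = g^[j] a.1 := by
    intro j a
    induction j with
    | zero => rfl
    | succ j ih =>
      rw [pow_succ', Equiv.Perm.mul_apply, Function.iterate_succ_apply', ← ih]
      rfl
  refine ⟨orderOf σ, (orderOf_pos σ).ne', end_ext fun i => ?_⟩
  rw [en_pow_apply, Module.End.one_apply]
  have h2 := h1 (orderOf σ) ⟨sr i, isRoot_sr cs h i⟩
  rw [pow_orderOf_eq_one] at h2
  exact h2.symm

/-- **`ch (g a) (τ t) = (ch a t)^q`.** -/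
theorem ch_fr [IsAlgClosed k] (hk : LocFin k) {r e : ℕ} [Fact r.Prime] [CharP k r] {τ : MulAut ↥(D.group k)}
    (hτ : IsFrob r e τ) {g : (Fin l → ℤ) ≃+ (Fin l → ℤ)} (F : Fr cs hp.isCartan (TT D k) (XX D l k) τ g)
    {t : ↥(D.group k)} (ht : t ∈ TT D k) {a : Fin l → ℤ} (ha : IsRoot cs hp.isCartan a) :
    ch hp (g a) (τ t) = ch hp a t ^ r ^ e := by
  have C := coordsL (k := k) hp cs hk r
  obtain ⟨c, hc, h⟩ := HX.fr_xc hp cs hτ F ha
  have h1 := (C.coord a ha).act t ht 1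
  have h2 := congrArg τ h1
  rw [map_mul, map_mul, map_inv, h, h, (C.coord (g a) ((F.root a).2 ha)).act _ ((F.tor t).2 ht), mul_one, one_pow,
    mul_one] at h2
  have h3 := (C.coord (g a) ((F.root a).2 ha)).inj h2
  rw [mul_comm c] at h3
  exact mul_right_cancel₀ hc h3

/-- the fixed points of `τ` give characters in the kernel of `g - q` -/
theorem tchar_mem [IsAlgClosed k] (hk : LocFin k) {r e : ℕ} [Fact r.Prime] [CharP k r] {τ : MulAut ↥(D.group k)}
    (hτ : IsFrob r e τ) {g : (Fin l → ℤ) ≃+ (Fin l → ℤ)} (F : Fr cs hp.isCartan (TT D k) (XX D l k) τ g)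
    {t : ↥(TT D k)} (hτt : τ t.1 = t.1) :
    tchar hp t ∈ KerOf k (en g - ((r ^ e : ℕ) : ℤ) • (1 : Module.End ℤ (Fin l → ℤ))) := by
  set f := en g - ((r ^ e : ℕ) : ℤ) • (1 : Module.End ℤ (Fin l → ℤ)) with hf
  have h1 : (tchar hp t).comp (AddMonoidHom.toMultiplicative f.toAddMonoidHom) = 1 := by
    refine ext_sr fun i => ?_
    show tchar hp t (Multiplicative.ofAdd (f (sr i))) = 1
    have h2 : f (sr i) = g (sr i) - ((r ^ e : ℕ) : ℤ) • sr i := rfl
    rw [h2, ofAdd_sub, map_div, ofAdd_zsmul, map_zpow, div_eq_one, zpow_natCast]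
    apply Units.ext
    have h3 := isRoot_sr cs hp.isCartan i
    rw [Units.val_pow_eq_pow_val, tchar_apply hp cs hk r t ((F.root _).2 h3), tchar_apply hp cs hk r t h3,
      ← ch_fr hp cs hk hτ F t.2 h3, hτt]
  intro x
  exact congrArg (fun ψ : Ch l k => ψ (Multiplicative.ofAdd x)) h1

/-- **The number of the fixed points of the torus.** -/
theorem card_T_le_det [IsAlgClosed k] (hk : LocFin k) {r e : ℕ} [Fact r.Prime] [CharP k r] (he : 0 < e)
    {τ : MulAut ↥(D.group k)}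
    (hτ : IsFrob r e τ) {g : (Fin l → ℤ) ≃+ (Fin l → ℤ)} (F : Fr cs hp.isCartan (TT D k) (XX D l k) τ g) :
    Finite ↥(TT D k ⊓ fixedSubgroup τ) ∧ Nat.card ↥(TT D k ⊓ fixedSubgroup τ) ≤
      (LinearMap.det (en g - ((r ^ e : ℕ) : ℤ) • (1 : Module.End ℤ (Fin l → ℤ)))).natAbs := by
  have hdet : ((LinearMap.det (en g - ((r ^ e : ℕ) : ℤ) • (1 : Module.End ℤ (Fin l → ℤ))) : ℤ) : k) ≠ 0 := by
    refine det_ne_zero (w' := en g.symm) ?_ ?_
    · refine LinearMap.ext fun x => ?_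
      rw [Module.End.mul_apply, en_apply, en_apply, AddEquiv.apply_symm_apply, Module.End.one_apply]
    · rw [Int.cast_natCast, Nat.cast_pow, CharP.cast_eq_zero, zero_pow he.ne']
  have hcard := card_kerOf k hdet
  have hfin : Finite ↥(KerOf k (en g - ((r ^ e : ℕ) : ℤ) • (1 : Module.End ℤ (Fin l → ℤ)))) := by
    apply Nat.finite_of_card_ne_zero
    rw [hcard]
    intro h0
    rw [Int.natAbs_eq_zero] at h0
    rw [h0, Int.cast_zero] at hdet
    exact hdet rfl
  let f : ↥(TT D k ⊓ fixedSubgroup τ) → ↥(KerOf k (en g - ((r ^ e : ℕ) : ℤ) • (1 : Module.End ℤ (Fin l → ℤ)))) :=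
    fun t => ⟨tchar hp ⟨t.1, t.2.1⟩, tchar_mem hp cs hk hτ F t.2.2⟩
  have hf : Function.Injective f := by
    intro a b hab
    have h1 := tchar_injective hp (congrArg Subtype.val hab)
    exact Subtype.ext (congrArg (fun t : ↥(TT D k) => t.1) h1)
  exact ⟨Finite.of_injective f hf, hcard ▸ Nat.card_le_card_of_injective f hf⟩

theorem card_T_le [IsAlgClosed k] [Finite W] (hk : LocFin k) {r e : ℕ} [Fact r.Prime] [CharP k r] (he : 0 < e)
    {τ : MulAut ↥(D.group k)}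
    (hτ : IsFrob r e τ) {g : (Fin l → ℤ) ≃+ (Fin l → ℤ)} (F : Fr cs hp.isCartan (TT D k) (XX D l k) τ g) :
    Nat.card ↥(TT D k ⊓ fixedSubgroup τ) ≤ (r ^ e + 1) ^ l := by
  obtain ⟨m, hm, hgm⟩ := exists_pow cs hp.isCartan F.root
  exact (card_T_le_det hp cs hk he hτ F).2.trans (det_end_le _ hm hgm _)

theorem card_T_le_one [IsAlgClosed k] (hk : LocFin k) {r e : ℕ} [Fact r.Prime] [CharP k r] (he : 0 < e)
    {τ : MulAut ↥(D.group k)}
    (hτ : IsFrob r e τ) {g : (Fin l → ℤ) ≃+ (Fin l → ℤ)} (F : Fr cs hp.isCartan (TT D k) (XX D l k) τ g)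
    (hg : ∀ x, g x = x) :
    Nat.card ↥(TT D k ⊓ fixedSubgroup τ) ≤ (r ^ e - 1) ^ l := by
  refine (card_T_le_det hp cs hk he hτ F).2.trans (le_of_eq ?_)
  have h1 : en g - ((r ^ e : ℕ) : ℤ) • (1 : Module.End ℤ (Fin l → ℤ)) =
      (1 - ((r ^ e : ℕ) : ℤ)) • (1 : Module.End ℤ (Fin l → ℤ)) := by
    refine LinearMap.ext fun x => ?_
    show g x - _ = _
    rw [hg, sub_smul, one_smul]
    rfl
  rw [h1, LinearMap.det_smul, map_one, mul_one, Int.natAbs_pow]
  congr 1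
  · have h2 : 1 ≤ r ^ e := Nat.one_le_pow _ _ (Fact.out : r.Prime).pos
    omega
  · rw [Module.finrank_fin_fun]

end Tor

end Cfsg.Agent.H166.EP

private theorem dce_ca179cc38294 : _root_.True := by
  try have : _root_.True := by simp only [_root_.Cfsg.Agent.Nodes.NormalForm.NW.congr_simp]
  exact _root_.True.intro
end

-- part: H166/EP/CData
section
set_option linter.all false
open scoped Cfsg.Agent.FastGrp

/-!
# The centralisers of the elements of prime order of the untwisted groups (helper166, S5745)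

* `CD hp cs x ℓ f r e t g N` : `t` is a torus element over the algebraic closure conjugate to `x`, `g` the action of the
  Frobenius on the root lattice (`ch (g a) t = (ch a t)^q`, `g` preserves the positive roots trivial on `t`), and
  `|C_G(x)| ≤ q^m * (N * (|PP t| * (q + 1)^m))`, `m = mS t`, `N ≤ (q + 1)^l`, `N ≤ (q - 1)^l` if `g = 1`;
* `exists_cd` : it exists.
-/

set_option autoImplicit false
set_option linter.unusedSectionVars false
namespace Cfsg.Agent.H166.EP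

open CoxeterSystem Cfsg Cfsg.Lie Cfsg.Lie.ChevalleyDatum
open Cfsg.Agent.ChevalleyStructure Cfsg.Agent.ChevalleyStructure.Elts Cfsg.Agent.ChevalleyStructure.CoxeterGeom
  Cfsg.Agent.ChevalleyStructure.CoxeterGeomTypes Cfsg.Agent.ChevalleyStructure.NPerm
open Cfsg.Agent.Tits.Roots Cfsg.Agent.Tits.Core Cfsg.Agent.Nodes Cfsg.Agent.Nodes.Reps Cfsg.Agent.Nodes.BNOf
  Cfsg.Agent.Nodes.RGDChev Cfsg.Agent.Nodes.Bruhat Cfsg.Agent.Nodes.NormalForm
open Cfsg.Agent.KFacts.RgdField Cfsg.Agent.KFacts.RgdChevCoord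
open Cfsg.Agent.BpExc Cfsg.Agent.BpExc.TorCent Cfsg.Agent.BpExc.TorChev Cfsg.Agent.BpExc.Tow
  Cfsg.Agent.BpExc.TowChev Cfsg.Agent.BpExc.Fr Cfsg.Agent.BpExc.Pair Cfsg.Agent.BpExc.LangFr Cfsg.Agent.GpExc.Field
  Cfsg.Agent.BpExc.NInst Cfsg.Agent.BpExc.NChev Cfsg.Agent.H461.E2.Sup Cfsg.Agent.H461.E2.Fix
  Cfsg.Agent.H461.E2.Cent
open Cfsg.Agent.H378.TorDual Cfsg.Agent.H378.TorChar Cfsg.Agent.H378.TorFin

universe u

/-! ### The untwisted finite groups -/

section Fin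

open Cfsg.Agent.H129.TorusUntw (phi phi_emb isFrob_phi fr_phi)

variable {D : ChevalleyDatum} {l : ℕ} {M : CoxeterMatrix (Fin l)} (hp : IsType D l M)
  {W : Type*} [Group W] [Finite W] (cs : CoxeterSystem M W)

/-- the number of the positive roots trivial on `t` -/
noncomputable def mS {k : Type u} [Field k] (t : ↥(D.group k)) : ℕ := (SP (Sx cs hp.isCartan (ch hp) t)).ncard

/-- The data of an element `x` of prime order `ℓ` of `D.group F`: a torus element `t` conjugate to `x` over the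
algebraic closure, the action `g` of the Frobenius on the roots; and the bound for the centraliser. -/
structure CD {F : Type u} [Field F] [Finite F] (x : ↥(D.group F)) (ℓ : ℕ) {k : Type u} [Field k] [IsAlgClosed k]
    (f : F →+* k) (r e : ℕ) [Fact r.Prime] [CharP k r] (t : ↥(D.group k)) (g : (Fin l → ℤ) ≃+ (Fin l → ℤ))
    (N : ℕ) : Prop where
  locfin : LocFin k
  halg : TorAll.HAlg r k
  card : Nat.card F = r ^ e
  epos : 0 < e
  ne : ℓ ≠ r
  mem : t ∈ TT D k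
  conj : ∃ z, z⁻¹ * emb hp.inList f x * z = t
  pow : t ^ ℓ = 1
  root : ∀ a, IsRoot cs hp.isCartan (g a) ↔ IsRoot cs hp.isCartan a
  chg : ∀ a, IsRoot cs hp.isCartan a → ch hp (g a) t = ch hp a t ^ Nat.card F
  pos : ∀ a ∈ Sx cs hp.isCartan (ch hp) t, 0 ≤ a → 0 ≤ g a
  isP : IsPGroup ℓ ↥(PP cs hp.isCartan (ch hp) t)
  bound : Nat.card ↥(Subgroup.centralizer {x}) ≤ Nat.card F ^ mS hp cs t * (N * (Nat.card
    ↥(PP cs hp.isCartan (ch hp) t) * (Nat.card F + 1) ^ mS hp cs t))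
  le : N ≤ (Nat.card F + 1) ^ l
  le_one : (∀ y, g y = y) → N ≤ (Nat.card F - 1) ^ l

/-- **The centralisers of the elements of prime order.** -/
theorem exists_cd {F : Type u} [Field F] [Finite F] {ℓ : ℕ} (hℓ : ℓ.Prime) (hℓF : (ℓ : F) ≠ 0)
    (x : ↥(D.group F)) (hx : x ^ ℓ = 1) :
    ∃ (k : Type u) (_ : Field k) (_ : IsAlgClosed k) (f : F →+* k) (r e : ℕ) (_ : Fact r.Prime) (_ : CharP k r)
      (t : ↥(D.group k)) (g : (Fin l → ℤ) ≃+ (Fin l → ℤ)) (N : ℕ), CD hp cs x ℓ f r e t g N := by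
  have := Fintype.ofFinite F
  obtain ⟨k, _, _, f, r, _, _, e, hk, hA, he, hF⟩ := exists_closure F
  have hℓr : ℓ ≠ r := by
    rintro rfl
    apply hℓF
    apply f.injective
    rw [map_natCast, map_zero, CharP.cast_eq_zero]
  have hq : Fintype.card F = r ^ e := by rw [← Nat.card_eq_fintype_card]; exact hF
  have hxe : (emb hp.inList f x) ^ ℓ = 1 := by rw [← map_pow, hx, map_one]
  obtain ⟨z, hz⟩ := TorAll.exists_toral hp r hA hℓ hℓr hxe
  set t := z⁻¹ * emb hp.inList f x * z with ht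
  have htℓ : t ^ ℓ = 1 := by
    have e1 : t = z⁻¹ * emb hp.inList f x * z⁻¹⁻¹ := by rw [inv_inv]
    rw [e1, conj_pow, hxe, mul_one, inv_inv, inv_mul_cancel]
  have hfix : phi D k r e (emb hp.inList f x) = emb hp.inList f x := phi_emb hp f hq x
  obtain ⟨τ, g, h1, h2, h3, h4, ⟨E⟩⟩ := exists_pair' hp cs hk he (isFrob_phi (D := D) (k := k) (p := r) (e := e))
    (fr_phi hp cs) hfix (z := z) (t := t) rfl hz
  have hfin : Finite ↥(fixC (phi D k r e) (emb hp.inList f x)) := by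
    have := Sig.finite_fixed hk he (isFrob_phi (D := D) (k := k) (p := r) (e := e))
    exact Finite.of_injective (fun y : ↥(fixC (phi D k r e) (emb hp.inList f x)) =>
      (⟨y.1, (mem_fixC.1 y.2).1⟩ : ↥(fixedSubgroup (phi D k r e))))
      (fun a b hab => Subtype.ext (congrArg (fun w : ↥(fixedSubgroup (phi D k r e)) => (w : ↥(D.group k))) hab))
  have hfin' : Finite ↥(fixC τ t) := Finite.of_equiv _ E.symm.toEquiv
  obtain ⟨hTf, hTd⟩ := card_T_le_det hp cs hk he h1 h2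
  have hb := card_fixC_le hp cs hk hz he h1 h2 h3 h4
  refine ⟨k, inferInstance, inferInstance, f, r, e, inferInstance, inferInstance, t, g,
    Nat.card ↥(TT D k ⊓ fixedSubgroup τ), hk, hA, hF, he, hℓr, hz, ⟨z, rfl⟩, htℓ, h2.root, ?_, h4, ?_, ?_, ?_, ?_⟩
  · intro a ha
    rw [hF, ← ch_fr hp cs hk h1 h2 hz ha, h3]
  · refine isPGroup_PP (T := TT D k) (chAddL hp cs hk r) hz hℓ fun a ha => ?_
    have h5 := tchar_apply hp cs hk r ⟨t, hz⟩ ha
    have h6 : (⟨t, hz⟩ : ↥(TT D k)) ^ ℓ = 1 := Subtype.ext htℓ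
    rw [← h5, ← Units.val_pow_eq_pow_val, ← MonoidHom.pow_apply, ← map_pow, h6, map_one]
    rfl
  · have h5 : Nat.card ↥(Subgroup.centralizer {x}) ≤ Nat.card ↥(fixC τ t) := by
      rw [Nat.card_congr E.toEquiv]
      let Φ : ↥(Subgroup.centralizer {x}) → ↥(fixC (phi D k r e) (emb hp.inList f x)) := fun y =>
        ⟨emb hp.inList f y.1, mem_fixC.2 ⟨phi_emb hp f hq _, by
          rw [← map_mul, ← map_mul, Subgroup.mem_centralizer_singleton_iff.1 y.2]⟩⟩
      refine Nat.card_le_card_of_injective Φ fun a b hab => ?_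
      apply Subtype.ext
      apply emb_injective hp.inList f
      exact congrArg (fun w : ↥(fixC (phi D k r e) (emb hp.inList f x)) => (w : ↥(D.group k))) hab
    rw [hF]
    exact h5.trans hb
  · rw [hF]
    exact card_T_le hp cs hk he h1 h2
  · intro hg
    rw [hF]
    exact card_T_le_one hp cs hk he h1 h2 hg

end Fin

end Cfsg.Agent.H166.EP
end

-- part: H737/EPO/TwoB
section
prune_inst 0x2200000000000000000000000000000010400000
set_option linter.all false
open scoped Cfsg.Agent.FastGrp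

-- part: H737/EPO/Two
section
/-!
# S5745 / S3499, OWN characteristic, `q = 2`: one type only, lines of size 2 (helper737)

Abstract part (no root group data): `one_type`, `line_two`.
-/

set_option autoImplicit false
set_option linter.unusedSectionVars false

namespace Cfsg.Agent.H737.EPO

open Cfsg.Agent.H284
open scoped Pointwise

section

variable {G : Type*} [Group G] [Finite G] {H R P D M W : Subgroup G} {p : ℕ}

/-- a two point stabiliser above another one -/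
theorem two_eq (h : EP H) {x y : G} (hx : x ∉ H) (hy : y ∉ H) (h1 : H ⊓ cj x H ≤ cj y H) :
    H ⊓ cj y H = H ⊓ cj x H := by
  rcases h.two x hx (H ⊓ cj y H) (le_inf inf_le_left h1) inf_le_left with h2 | h2
  · exact h2
  · exact absurd (inf_eq_left.1 h2) (h.not_le_cj hy)

/-- two points of the line of `H`, `H^x` -/
theorem line_eq' (h : EP H) {x y : G} (hx : x ∉ H) (hxy : x⁻¹ * y ∉ H) (h1 : H ⊓ cj x H ≤ cj y H) :
    cj x H ⊓ cj y H = H ⊓ cj x H := by
  have hx' : x⁻¹ ∉ H := fun e => hx (by rw [← inv_inv x]; exact inv_mem e)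
  have e1 : cj x⁻¹ (cj x H ⊓ cj y H) = H ⊓ cj (x⁻¹ * y) H := by rw [cj_inf, cj_inv_cj, ← cj_mul]
  have e2 : cj x⁻¹ (H ⊓ cj x H) = H ⊓ cj x⁻¹ H := by rw [cj_inf, cj_inv_cj, inf_comm]
  have h2 : H ⊓ cj (x⁻¹ * y) H = H ⊓ cj x⁻¹ H := by
    apply two_eq h hx' hxy
    rw [← e2, cj_mul]
    exact cj_mono h1
  have h3 := congrArg (cj x) (e1.trans (h2.trans e2.symm))
  rwa [cj_cj_inv, cj_cj_inv] at h3

theorem two_le (h : EP H) (hM : M ∈ EP.twoSet H) {M' : Subgroup G} (hM' : M' ∈ EP.twoSet H) (h1 : M' ≤ M) : M = M' := by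
  obtain ⟨x, hx, rfl⟩ := hM
  obtain ⟨y, hy, rfl⟩ := hM'
  exact two_eq h hy hx (h1.trans inf_le_right)

theorem stab_wd (hDH : D ≤ H) {w d : G} (hd : d ∈ D) : cj (w * d) H = cj w H := by
  rw [cj_mul, cj_eq_self (hDH hd)]

/-- vectors fixed by `R` normalise `R` -/
theorem norm_of_fix (v : VecB H P D W p) (hPH : P ≤ H) (hRP : R ≤ P) (hDR : D ≤ R) {w : G} (hw : w ∈ W)
    (hR : R ≤ cj w H) : ∀ r ∈ R, w * r * w⁻¹ ∈ R := by
  intro r hr
  have h1 : w⁻¹ * (r * w * r⁻¹) ∈ D := (v.stab_iff hPH hw (hRP hr)).2 (hR hr)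
  have h2 := v.WD w hw _ (inv_mem h1)
  have e1 : w * r * w⁻¹ = (w * (w⁻¹ * (r * w * r⁻¹))⁻¹ * w⁻¹) * r := by group
  rw [e1]
  exact mul_mem (hDR h2) hr

/-- **Claim C**, refined: `P` fixes no vector. -/
theorem claimC' (h : EP H) (hPH : P ≤ H) (hRP : R ≤ P) (hDR : D ≤ R)
    (np : ∀ x ∉ H, R ≤ cj x H → ∀ g ∈ cj x H, (∀ r ∈ R, g * r * g⁻¹ ∈ R) → g ∈ H)
    (v : VecB H P D W p) (hP2 : P ∈ EP.twoSet H) (hM : M ∈ EP.twoSet H) (hRM : R ≤ M) (hPM : M ≠ P)
    (hpq : ∀ M' ∈ EP.twoSet H, P ⊓ M ≤ M' → M' = M ∨ M' = P) {w : G} (hw : w ∈ W) (hwD : w ∉ D) : ¬ P ≤ cj w H := by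
  intro hPw
  have hwH := v.notMem_H hw hwD
  -- `w` centralises `P` mod `D`
  have hfix : ∀ g ∈ P, w⁻¹ * (g * w * g⁻¹) ∈ D := fun g hg => (v.stab_iff hPH hw hg).2 (hPw hg)
  have hcj : ∀ L : Subgroup G, D ≤ L → L ≤ P → cj w L = L := by
    intro L hDL hLP
    have h1 : cj w⁻¹ L = L := by
      apply cj_eq_of_nm
      intro g hg
      have e1 : w⁻¹ * g * w⁻¹⁻¹ = w⁻¹ * (g * w * g⁻¹) * g := by group
      rw [e1]
      exact mul_mem (hDL (hfix g (hLP hg))) hg
    conv_lhs => rw [← h1]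
    rw [cj_cj_inv]
  have hcj' : ∀ L : Subgroup G, D ≤ L → L ≤ P → cj w⁻¹ L = L := by
    intro L hDL hLP
    conv_lhs => rw [← hcj L hDL hLP]
    rw [cj_inv_cj]
  have hRw : ∀ r ∈ R, w * r * w⁻¹ ∈ R := norm_of_fix v hPH hRP hDR hw (hRP.trans hPw)
  have hPe : H ⊓ cj w H = P := two_le h ⟨w, hwH, rfl⟩ hP2 (le_inf hPH hPw)
  have hwP : cj w P = P := hcj P (hDR.trans hRP) le_rfl
  have hwP' : cj w⁻¹ P = P := hcj' P (hDR.trans hRP) le_rfl
  have hPnM : ¬ P ≤ M := fun e => hPM (two_le h hM hP2 e)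
  obtain ⟨y, hy, rfl⟩ := hM
  have hDL : D ≤ P ⊓ (H ⊓ cj y H) := le_inf (hDR.trans hRP) (hDR.trans hRM)
  have hL1 := hcj _ hDL inf_le_left
  have hL2 := hcj' _ hDL inf_le_left
  have hPy : ¬ P ≤ cj y H := fun e => hPnM (le_inf hPH e)
  have key : ∀ z : G, cj z P = P → cj z⁻¹ P = P → cj z (P ⊓ (H ⊓ cj y H)) = P ⊓ (H ⊓ cj y H) →
      z * y ∉ H ∧ H ⊓ cj (z * y) H = H ⊓ cj y H := by
    intro z hz hz' hzL
    have hnP : ¬ P ≤ cj (z * y) H := by
      intro e1
      apply hPy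
      rw [cj_mul] at e1
      have h1 := cj_mono (x := z⁻¹) e1
      rwa [hz', cj_inv_cj] at h1
    have h1 : z * y ∉ H := by
      intro h1
      apply hnP
      rw [cj_eq_self h1]
      exact hPH
    refine ⟨h1, ?_⟩
    rcases hpq (H ⊓ cj (z * y) H) ⟨_, h1, rfl⟩ (le_inf (inf_le_left.trans hPH) (by
      rw [← hzL, cj_mul]
      exact cj_mono (inf_le_right.trans inf_le_right))) with h2 | h2
    · exact h2
    · exact absurd (h2.ge.trans inf_le_right) hnP
  obtain ⟨h1, h2⟩ := key w hwP hwP' hL1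
  obtain ⟨h3, h4⟩ := key w⁻¹ hwP' (by rw [inv_inv]; exact hwP) hL2
  -- `b ≠ b'`
  have hb : y⁻¹ * (w * y) ∉ H := by
    intro h5
    apply hwH
    refine np y hy (hRM.trans inf_le_right) w ?_ hRw
    rw [mem_cj, mul_assoc]
    exact h5
  have h5 : cj y H ⊓ cj (w * y) H = H ⊓ cj y H := line_eq' h hy hb (h2.ge.trans inf_le_right)
  have h6 : cj w H ⊓ cj y H = cj w (H ⊓ cj y H) := by
    have e1 : cj w (H ⊓ cj (w⁻¹ * y) H) = cj w H ⊓ cj y H := by rw [cj_inf, ← cj_mul, mul_inv_cancel_left]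
    rw [← e1, h4]
  have h7 : cj w H ⊓ cj (w * y) H = cj w (H ⊓ cj y H) := by rw [cj_inf, ← cj_mul]
  have h8 : cj w (H ⊓ cj y H) ≤ H ⊓ cj y H :=
    (le_inf (h6.ge.trans inf_le_right) (h7.ge.trans inf_le_right)).trans h5.le
  have h9 : cj w (H ⊓ cj y H) = H ⊓ cj y H := Subgroup.eq_of_le_of_card_ge h8 (by rw [card_cj])
  have h10 : H ⊓ cj y H ≤ cj w H := by
    rw [← h9, ← h6]; exact inf_le_left
  have h11 := two_le h ⟨w, hwH, rfl⟩ ⟨y, hy, rfl⟩ (le_inf inf_le_left h10)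
  exact hPM (h11.symm.trans hPe)

/-- **one type only** -/
theorem one_type (h : EP H) (hPH : P ≤ H) (hRP : R ≤ P) (hDR : D ≤ R) (hD1 : D ≠ ⊥)
    (hDn : ∀ g ∈ P, ∀ d ∈ D, g * d * g⁻¹ ∈ D)
    (np : ∀ x ∉ H, R ≤ cj x H → ∀ g ∈ cj x H, (∀ r ∈ R, g * r * g⁻¹ ∈ R) → g ∈ H)
    (v : VecB H P D W p) (hWD : W ≠ D) (hP2 : P ∈ EP.twoSet H)
    (par : ∀ M' ∈ EP.twoSet H, D ≤ M' → ∃ g ∈ P, R ≤ cj g M')
    (hpq : ∀ M ∈ EP.twoSet H, R ≤ M → ∀ M' ∈ EP.twoSet H, P ⊓ M ≤ M' → M' = M ∨ M' = P)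
    (hM : M ∈ EP.twoSet H) (hRM : R ≤ M) : M = P := by
  by_contra hPM
  have hC : ∀ w ∈ W, w ∉ D → ¬ P ≤ cj w H := fun w hw hwD =>
    claimC' h hPH hRP hDR np v hP2 hM hRM hPM (hpq M hM hRM) hw hwD
  have hDH : D ≤ H := (hDR.trans hRP).trans hPH
  -- a vector fixed by `R`
  obtain ⟨w, hw, hwD, hRw⟩ : ∃ w ∈ W, w ∉ D ∧ R ≤ cj w H := by
    obtain ⟨w, hw, hwD⟩ : ∃ w ∈ W, w ∉ D := by
      by_contra hcon
      push Not at hcon
      exact hWD (le_antisymm hcon v.DW)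
    have hDw : D ≤ H ⊓ cj w H := by
      refine le_inf hDH ?_
      rw [← cj_eq_of_nm (v.WD w hw)]
      exact cj_mono hDH
    obtain ⟨g, hg, hR⟩ := par _ ⟨w, v.notMem_H hw hwD, rfl⟩ hDw
    rw [PanelB.cj_two (hPH hg)] at hR
    refine ⟨g * w * g⁻¹, v.Wn g hg w hw, ?_, hR.trans inf_le_right⟩
    intro h1
    apply hwD
    have := hDn g⁻¹ (inv_mem hg) _ h1
    have e2 : g⁻¹ * (g * w * g⁻¹) * g⁻¹⁻¹ = w := by group
    rwa [e2] at this
  clear hM hRM hPM
  have hwH := v.notMem_H hw hwD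
  set M := H ⊓ cj w H with hMdef
  have hM : M ∈ EP.twoSet H := ⟨w, hwH, rfl⟩
  have hRM : R ≤ M := le_inf (hRP.trans hPH) hRw
  have hPM : M ≠ P := fun e1 => hC w hw hwD (by rw [← e1]; exact inf_le_right)
  have hwiD : w⁻¹ ∉ D := fun e1 => hwD (by rw [← inv_inv w]; exact inv_mem e1)
  have hPwi : ¬ P ≤ cj w⁻¹ H := hC w⁻¹ (inv_mem hw) hwiD
  have hfix : ∀ g ∈ P, g ∈ M → w⁻¹ * (g * w * g⁻¹) ∈ D := fun g hg hgM => (v.stab_iff hPH hw hg).2 hgM.2
  obtain ⟨y, hy, hyP⟩ := hP2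
  -- `w y`
  have h1 : P ⊓ M ≤ cj (w * y) H := by
    rintro g ⟨hgP, hgM⟩
    rw [cj_mul, mem_cj]
    have h2 : w⁻¹ * g * w ∈ P := by
      have e1 : w⁻¹ * g * w = w⁻¹ * (g * w * g⁻¹) * g := by group
      rw [e1]
      exact mul_mem (hRP (hDR (hfix g hgP hgM))) hgP
    rw [hyP] at h2
    exact h2.2
  have h2 : w * y ∉ H := by
    intro h3
    apply hPwi
    have h4 : cj y H = cj w⁻¹ H := by
      have e1 : y = w⁻¹ * (w * y) := by group
      rw [e1, cj_mul, cj_eq_self h3]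
    rw [← h4, hyP]
    exact inf_le_right
  rcases hpq M hM hRM _ ⟨w * y, h2, rfl⟩ (le_inf (inf_le_left.trans hPH) h1) with h3 | h3
  · -- the line of `w a`, `w b` is the line of `a`, `w a`
    have h4 : cj w H ⊓ cj (w * y) H = H ⊓ cj w H := line_eq' h hwH (by rwa [inv_mul_cancel_left]) (by
      rw [← hMdef, ← h3]; exact inf_le_right)
    have h5 : cj w P = M := by
      rw [hMdef, ← h4, hyP, cj_inf, ← cj_mul]
    apply hPwi
    rw [← cj_le_iff, h5]
    exact inf_le_left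
  · -- `P` fixes `b` and `w b`
    have hyP' : P ≤ cj y H := hyP.le.trans inf_le_right
    have h4 : ∀ g ∈ P, w⁻¹ * (g * w * g⁻¹) ∈ D := by
      intro g hg
      have h5 : g ∈ cj (w * y) H := h3.ge.trans inf_le_right hg
      rw [cj_mul, mem_cj] at h5
      have hu : w⁻¹ * (g * w * g⁻¹) ∈ cj y H := by
        have e1 : w⁻¹ * (g * w * g⁻¹) = w⁻¹ * g * w * g⁻¹ := by group
        rw [e1]
        exact mul_mem h5 (inv_mem (hyP' hg))
      have huW : w⁻¹ * (g * w * g⁻¹) ∈ W := mul_mem (inv_mem hw) (v.Wn g hg w hw)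
      -- `u ∈ W ∩ H^y` normalises `D`
      have hy' : y⁻¹ ∉ H := fun e1 => hy (by rw [← inv_inv y]; exact inv_mem e1)
      have h6 : y⁻¹ * (w⁻¹ * (g * w * g⁻¹)) * y ∈ cj y⁻¹ H := by
        apply h.norm hy' (X := cj y⁻¹ D)
        · refine le_inf ?_ (cj_mono hDH)
          rw [cj_le_iff, inv_inv]
          exact (hDR.trans hRP).trans hyP'
        · rintro m hm _ ⟨d, hd, rfl⟩
          have h7 : y * m * y⁻¹ ∈ P := by
            rw [hyP]
            refine ⟨?_, conj_mem_cj hm.1⟩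
            have := mem_cj.1 hm.2
            rwa [inv_inv] at this
          have h8 := hDn _ h7 d hd
          refine ⟨_, h8, ?_⟩
          show y⁻¹ * (y * m * y⁻¹ * d * (y * m * y⁻¹)⁻¹) * y⁻¹⁻¹ = m * (y⁻¹ * d * y⁻¹⁻¹) * m⁻¹
          group
        · intro h7
          exact hD1 (cj_eq_bot_iff.1 h7)
        · exact mem_cj.1 hu
        · rintro _ ⟨d, hd, rfl⟩
          have h8 := v.WD _ huW d hd
          refine ⟨_, h8, ?_⟩
          show y⁻¹ * (w⁻¹ * (g * w * g⁻¹) * d * (w⁻¹ * (g * w * g⁻¹))⁻¹) * y⁻¹⁻¹ =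
            y⁻¹ * (w⁻¹ * (g * w * g⁻¹)) * y * (y⁻¹ * d * y⁻¹⁻¹) * (y⁻¹ * (w⁻¹ * (g * w * g⁻¹)) * y)⁻¹
          group
      have h7 : w⁻¹ * (g * w * g⁻¹) ∈ H := by
        rw [mem_cj] at h6
        have e1 : y⁻¹⁻¹ * (y⁻¹ * (w⁻¹ * (g * w * g⁻¹)) * y) * y⁻¹ = w⁻¹ * (g * w * g⁻¹) := by group
        rwa [e1] at h6
      rw [← v.WH]
      exact ⟨huW, h7⟩
    apply hC w hw hwD
    intro g hg
    exact (v.stab_iff hPH hw hg).1 (h4 g hg)

/-- **lines of size 2** -/
theorem line_two (c : PanelB H R P D M 2) (v : VecB H P D W 2) (hV : Nat.card v.Vec = 4)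
    (hR2 : Nat.card (v.fix c.Dn R) = 2) (hall : ∀ M' ∈ EP.twoSet H, D ≤ M' → ∃ g ∈ P, M' = cj g M) {w : G}
    (hw : w ∈ W) (hwD : w ∉ D) (hwM : H ⊓ cj w H = M) {x : G} (hx : M ≤ cj x H) : x ∈ H ∨ w⁻¹ * x ∈ H := by
  classical
  by_contra hcon
  push Not at hcon
  obtain ⟨hxH, hwx⟩ := hcon
  have h := c.ep
  have hDH := c.DH
  have hPH := c.PH
  have hRP := c.RP
  have hwH := v.notMem_H hw hwD
  have hmk : ∀ (u : G) (hu : u ∈ W), v.vec ⟨u, hu⟩ ∈ v.fix c.Dn R ↔ R ≤ cj u H := by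
    intro u hu
    rw [v.vec_mem_fix c.Dn hPH, inf_eq_left.2 hRP]
  have hRw : R ≤ cj w H := by
    have := c.RM
    rw [← hwM] at this
    exact this.trans inf_le_right
  -- a second vector
  obtain ⟨w₂, hw₂, hRw₂⟩ : ∃ w₂ ∈ W, ¬ R ≤ cj w₂ H := by
    by_contra hcon
    push Not at hcon
    have h1 : v.fix c.Dn R = ⊤ := by
      rw [eq_top_iff]
      intro z _
      obtain ⟨⟨u, hu⟩, rfl⟩ := v.vec_surjective z
      exact (hmk u hu).2 (hcon u hu)
    rw [h1, Subgroup.card_top] at hR2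
    omega
  have hdd : ∀ u ∈ W, ∀ u' ∈ W, u⁻¹ * u' ∈ D → cj u' H = cj u H := by
    intro u _ u' _ hd
    have e1 : u' = u * (u⁻¹ * u') := by group
    rw [e1, stab_wd hDH hd]
  have hww : w * w ∈ D := by have := v.pow w hw; rwa [pow_two] at this
  have hww₂ : w₂ * w₂ ∈ D := by have := v.pow w₂ hw₂; rwa [pow_two] at this
  have hwD' : ∀ u ∈ W, ∀ d ∈ D, u⁻¹ * d * u ∈ D := by
    intro u hu d hd
    have := v.WD u⁻¹ (inv_mem hu) d hd
    rwa [inv_inv] at this
  have hw₂D : w₂ ∉ D := fun e1 => hRw₂ (by rw [cj_eq_self (hDH e1)]; exact c.RH)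
  have hw₁₂ : w⁻¹ * w₂ ∉ D := fun e1 => hRw₂ (by rw [hdd w hw w₂ hw₂ e1]; exact hRw)
  have hfixmul : ∀ u ∈ W, ∀ u' ∈ W, R ≤ cj u H → R ≤ cj (u * u') H → R ≤ cj u' H := by
    intro u hu u' hu' h1 h2
    have h3 := (hmk u hu).2 h1
    have h4 := (hmk (u * u') (mul_mem hu hu')).2 h2
    have e1 : v.vec ⟨u * u', mul_mem hu hu'⟩ = v.vec ⟨u, hu⟩ * v.vec ⟨u', hu'⟩ := by
      rw [← map_mul]
      rfl
    rw [e1] at h4
    exact (hmk u' hu').1 (((v.fix c.Dn R).mul_mem_cancel_left h3).1 h4)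
  have hw₃D : w * w₂ ∉ D := by
    intro e1
    apply hRw₂
    apply hfixmul w hw w₂ hw₂ hRw
    rw [cj_eq_self (hDH e1)]
    exact c.RH
  -- the four vectors
  have hfour : ∀ u ∈ W, u ∉ D → w⁻¹ * u ∈ D ∨ w₂⁻¹ * u ∈ D ∨ (w * w₂)⁻¹ * u ∈ D := by
    intro u hu huD
    by_contra hcon
    push Not at hcon
    obtain ⟨g1, g2, g3⟩ := hcon
    let f : Fin 5 → v.Vec := ![1, v.vec ⟨w, hw⟩, v.vec ⟨w₂, hw₂⟩, v.vec ⟨w * w₂, mul_mem hw hw₂⟩, v.vec ⟨u, hu⟩]
    have hinj : Function.Injective f := by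
      have a01 : (1 : v.Vec) ≠ v.vec ⟨w, hw⟩ := fun e1 => hwD (v.vec_eq_one.1 e1.symm)
      have a02 : (1 : v.Vec) ≠ v.vec ⟨w₂, hw₂⟩ := fun e1 => hw₂D (v.vec_eq_one.1 e1.symm)
      have a03 : (1 : v.Vec) ≠ v.vec ⟨w * w₂, mul_mem hw hw₂⟩ := fun e1 => hw₃D (v.vec_eq_one.1 e1.symm)
      have a04 : (1 : v.Vec) ≠ v.vec ⟨u, hu⟩ := fun e1 => huD (v.vec_eq_one.1 e1.symm)
      have a12 : v.vec ⟨w, hw⟩ ≠ v.vec ⟨w₂, hw₂⟩ := fun e1 => hw₁₂ (v.vec_eq_iff.1 e1)
      have a13 : v.vec ⟨w, hw⟩ ≠ v.vec ⟨w * w₂, mul_mem hw hw₂⟩ := fun e1 => hw₂D (by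
        have := v.vec_eq_iff.1 e1
        have e2 : w⁻¹ * (w * w₂) = w₂ := by group
        have e3 : w⁻¹ * (w * w₂) ∈ D := this
        rwa [e2] at e3)
      have a23 : v.vec ⟨w₂, hw₂⟩ ≠ v.vec ⟨w * w₂, mul_mem hw hw₂⟩ := fun e1 => hwD (by
        have e3 : w₂⁻¹ * (w * w₂) ∈ D := v.vec_eq_iff.1 e1
        have e4 := v.WD w₂ hw₂ _ e3
        have e2 : w₂ * (w₂⁻¹ * (w * w₂)) * w₂⁻¹ = w := by group
        rwa [e2] at e4)
      have a14 : v.vec ⟨w, hw⟩ ≠ v.vec ⟨u, hu⟩ := fun e1 => g1 (v.vec_eq_iff.1 e1)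
      have a24 : v.vec ⟨w₂, hw₂⟩ ≠ v.vec ⟨u, hu⟩ := fun e1 => g2 (v.vec_eq_iff.1 e1)
      have a34 : v.vec ⟨w * w₂, mul_mem hw hw₂⟩ ≠ v.vec ⟨u, hu⟩ := fun e1 => g3 (v.vec_eq_iff.1 e1)
      intro i j hij
      fin_cases i <;> fin_cases j <;> first | rfl | exact absurd hij ‹_› | exact absurd hij.symm ‹_›
    have h1 := Nat.card_le_card_of_injective f hinj
    rw [hV, Nat.card_fin] at h1
    omega
  -- two point stabilisers above `D`
  have hthree : ∀ M' ∈ EP.twoSet H, D ≤ M' → M' = M ∨ M' = H ⊓ cj w₂ H ∨ M' = H ⊓ cj (w * w₂) H := by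
    intro M' hM' hDM'
    obtain ⟨g, hg, rfl⟩ := hall M' hM' hDM'
    have h1 : cj g M = H ⊓ cj (g * w * g⁻¹) H := by rw [← hwM, PanelB.cj_two (hPH hg)]
    have hu := v.Wn g hg w hw
    have huD : g * w * g⁻¹ ∉ D := by
      intro h2
      apply hwD
      have := c.Dn g⁻¹ (inv_mem hg) _ h2
      have e2 : g⁻¹ * (g * w * g⁻¹) * g⁻¹⁻¹ = w := by group
      rwa [e2] at this
    rw [h1]
    rcases hfour _ hu huD with h2 | h2 | h2
    · left
      rw [hdd w hw _ hu h2, hwM]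
    · right; left
      rw [hdd w₂ hw₂ _ hu h2]
    · right; right
      rw [hdd (w * w₂) (mul_mem hw hw₂) _ hu h2]
  have hRn : ∀ r ∈ R, w * r * w⁻¹ ∈ R := norm_of_fix v hPH hRP c.DR hw hRw
  -- `w` normalises `M`
  have hwwH : cj (w * w) H = H := cj_eq_self (hDH hww)
  have hwMM : cj w M = M := by
    rw [← hwM, cj_inf, ← cj_mul, hwwH, inf_comm]
  have hwMM' : cj w⁻¹ M = M := by
    conv_lhs => rw [← hwMM]
    rw [cj_inv_cj]
  have hMH : M ≤ H := c.MH
  have hDM : D ≤ M := c.DR.trans c.RM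
  have hMx : H ⊓ cj x H = M := two_le h ⟨x, hxH, rfl⟩ c.M2 (le_inf hMH hx)
  have hMw₂ : H ⊓ cj w₂ H ≠ M := fun e1 => hRw₂ (c.RM.trans (e1.ge.trans inf_le_right))
  have hw₂H := v.notMem_H hw₂ hw₂D
  -- `y = w₂⁻¹ x`
  have hyH : w₂⁻¹ * x ∉ H := by
    intro e1
    apply hRw₂
    have e2 : cj x H = cj w₂ H := by
      have e3 : x = w₂ * (w₂⁻¹ * x) := by group
      rw [e3, cj_mul, cj_eq_self e1]
    rw [← e2]
    exact c.RM.trans hx
  have hcDw₂ : cj w₂⁻¹ D = D := cj_eq_of_nm (v.WD w₂⁻¹ (inv_mem hw₂))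
  have hDy : D ≤ cj (w₂⁻¹ * x) H := by
    rw [cj_mul, ← hcDw₂]
    exact cj_mono (hDM.trans hx)
  have hw₂w₂H : cj (w₂ * w₂) H = H := cj_eq_self (hDH hww₂)
  have hback : cj w₂ (H ⊓ cj (w₂⁻¹ * x) H) = cj w₂ H ⊓ cj x H := by
    rw [cj_inf, ← cj_mul, mul_inv_cancel_left]
  rcases hthree _ ⟨_, hyH, rfl⟩ (le_inf hDH hDy) with h1 | h1 | h1
  · -- `x` is on `a₂ a₃`, so fixed by `w`
    have hu : w₂⁻¹ * w * w₂ ∈ W := mul_mem (mul_mem (inv_mem hw₂) hw) hw₂
    have hud : w⁻¹ * (w₂⁻¹ * w * w₂) ∈ D := by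
      have h2 := v.comm w⁻¹ (inv_mem hw) w₂⁻¹ (inv_mem hw₂)
      rw [inv_inv, inv_inv] at h2
      have e1 : w⁻¹ * (w₂⁻¹ * w * w₂) = w⁻¹ * w₂⁻¹ * w * w₂ := by group
      rw [e1]
      exact h2
    have huM : cj (w₂⁻¹ * w * w₂) M = M := by
      have e1 : w₂⁻¹ * w * w₂ = w * (w⁻¹ * (w₂⁻¹ * w * w₂)) := by group
      rw [e1, cj_mul, cj_eq_self (hDM hud), hwMM]
    have h2 : M ≤ cj (w₂⁻¹ * (w * x)) H := by
      have e1 : w₂⁻¹ * (w * x) = (w₂⁻¹ * w * w₂) * (w₂⁻¹ * x) := by group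
      rw [e1, cj_mul, ← huM]
      apply cj_mono
      rw [← h1]
      exact inf_le_right
    have h3 : M ≤ cj (w * x) H := by
      rw [cj_mul, ← hwMM]
      exact cj_mono hx
    have h4 : x⁻¹ * w * x ∈ H := by
      by_contra h5
      have h5' : x⁻¹ * (w * x) ∉ H := by rwa [← mul_assoc]
      have h6 : cj x H ⊓ cj (w * x) H = M := by
        rw [← hMx]
        exact line_eq' h hxH h5' (by rw [hMx]; exact h3)
      have h7 : cj (w₂⁻¹ * x) H ⊓ cj (w₂⁻¹ * (w * x)) H = M := by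
        rw [← h1]
        refine line_eq' h hyH ?_ (by rw [h1]; exact h2)
        have e1 : (w₂⁻¹ * x)⁻¹ * (w₂⁻¹ * (w * x)) = x⁻¹ * (w * x) := by group
        rwa [e1]
      have h8 : cj w₂ M = M := by
        have h9 := congrArg (cj w₂) h7
        rw [cj_inf, ← cj_mul, ← cj_mul, mul_inv_cancel_left, mul_inv_cancel_left, h6] at h9
        exact h9.symm
      apply hRw₂
      refine c.RM.trans ?_
      rw [← h8]
      exact cj_mono hMH
    exact hwH (c.norm_point hxH (c.RM.trans hx) (mem_cj.2 h4) hRn)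
  · -- `x` on the line of `a`, `a₂`
    rw [h1, cj_inf, ← cj_mul, hw₂w₂H] at hback
    have h2 : H ⊓ cj w₂ H ≤ cj x H := by
      rw [inf_comm, hback]
      exact inf_le_right
    have h3 := two_eq h hw₂H hxH h2
    exact hMw₂ (h3.symm.trans hMx)
  · -- `x` on the line of `a₁`, `a₂`
    have h2 : cj (w₂ * (w * w₂)) H = cj w H := by
      apply hdd w hw _ (mul_mem hw₂ (mul_mem hw hw₂))
      have h3 := v.comm w⁻¹ (inv_mem hw) w₂ hw₂
      rw [inv_inv] at h3
      have e1 : w⁻¹ * (w₂ * (w * w₂)) = w⁻¹ * w₂ * w * w₂⁻¹ * (w₂ * w₂) := by group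
      rw [e1]
      exact mul_mem h3 hww₂
    rw [h1, cj_inf, ← cj_mul, h2] at hback
    have h3 : cj x H ⊓ cj w H = M := by
      rw [← hMx]
      apply line_eq' h hxH
      · intro e1
        apply hwx
        have := inv_mem e1
        rwa [mul_inv_rev, inv_inv] at this
      · rw [hMx, ← hwM]
        exact inf_le_right
    have h4 : cj w₂ H ⊓ cj w H ≤ M := by
      rw [← h3]
      exact le_inf (hback.le.trans inf_le_right) inf_le_right
    have h5 : H ⊓ cj (w⁻¹ * w₂) H ≤ M := by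
      have h6 := cj_mono (x := w⁻¹) h4
      rwa [cj_inf, ← cj_mul, cj_inv_cj, hwMM', inf_comm] at h6
    have hn : w⁻¹ * w₂ ∉ H := fun e1 => hw₁₂ (by
      rw [← v.WH]; exact ⟨W.mul_mem (W.inv_mem hw) hw₂, e1⟩)
    have h6 := two_le h c.M2 ⟨_, hn, rfl⟩ h5
    have h7 : R ≤ cj (w⁻¹ * w₂) H := c.RM.trans (h6.le.trans inf_le_right)
    apply hRw₂
    apply hfixmul w⁻¹ (inv_mem hw) w₂ hw₂ _ h7
    have h8 := cj_mono (x := w⁻¹) (c.RM)
    have h9 : R ≤ M := c.RM
    rw [← hwMM', ] at h9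
    refine h9.trans (cj_mono hMH)

end

end Cfsg.Agent.H737.EPO
end

-- part: H737/EPO/TwoB
section
/-!
# S5745 / S3499, OWN characteristic, `q = 2`: one type only, lines of size 2, modules (helper737)

`own_two` : relative rank at least two: `p = 2`, `k = 1` and there is exactly one type `{i}ᶜ` of two point
stabilisers above `R`, their lines have size 2.
`card_vec_K` : for every type `K ≠ I`: the vectors over `V_K` are the vertices of type `i` of the residue and `0`.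
-/

set_option autoImplicit false
set_option linter.unusedSectionVars false

namespace Cfsg.Agent.H737.EPO

open Cfsg.Agent.H284 Cfsg.Agent.H209.EPX
open scoped Pointwise

section

variable {G Y : Type*} [Group G] [Finite G] [Group Y] [Finite Y] {H N R : Subgroup G} {k : ℕ}
  (e : N ≃* (Fin k → Y)) {p : ℕ} {I : Type*} {S : PSys Y p I} [Fact p.Prime]

variable [IsSimpleGroup Y] (hY : ∃ a b : Y, a * b ≠ b * a)

include hY

/-- **relative rank at least two**: one type only and lines of size 2 -/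
theorem own_two [Nonempty I] (hS : Rk S) (h : EP H) (hN : MinN N H) (hR : SylIn H R p)
    (hRN : R ⊓ N = VV e S fun _ => ∅) (hDQ : ∀ J : Fin k → Set I, VV e S J ≠ ⊥ → DQ H e S J)
    {J₀ : Fin k → Set I} (hJ₀ : Inv H e S J₀) {i₀ i₁ : Fin k} (h0 : J₀ i₀ ≠ ∅) (h1 : J₀ i₁ ≠ Set.univ) :
    p = 2 ∧ k = 1 ∧ ∃ (i : I) (t : G), t ∉ H ∧ (S.V {i}).relIndex (S.V ∅) = 2 ∧ Inv H e S (fun _ => {i}) ∧
      H ⊓ cj t H = PH H e S (fun _ => {i}ᶜ) ∧ (∀ r ∈ R, t * r * t⁻¹ ∈ R) ∧
      (∀ x, PH H e S (fun _ => {i}ᶜ) ≤ cj x H → x ∈ H ∨ t⁻¹ * x ∈ H) ∧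
      ∀ M' ∈ EP.twoSet H, R ≤ M' → M' = PH H e S (fun _ => {i}ᶜ) := by
  obtain ⟨hp, hk, ⟨M, hM, hRM⟩, hall⟩ := own_B e hY hS h hN hR hRN hDQ hJ₀ h0 h1
  refine ⟨hp, hk, ?_⟩
  subst hp
  subst hk
  obtain ⟨j, hj2, hjI, hMj⟩ := hall M hM hRM
  have hRBH : R ≤ BH H e S := fun r hr => R_le_BH e S hN.nrm hRN (hR.le hr) fun s hs =>
    mul_mem (mul_mem hr hs) (inv_mem hr)
  -- `{j} ≠ I`
  have hMle := hM
  obtain ⟨y₀, hy₀, hMy₀⟩ := hMle
  have hMH : M ≤ H := by rw [hMy₀]; exact inf_le_left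
  have hju : ({j} : Set I) ≠ Set.univ := by
    intro e1
    have hI : ∀ K : Set I, K = ∅ ∨ K = Set.univ := by
      intro K
      by_cases hK : j ∈ K
      · right
        rw [← Set.univ_subset_iff, ← e1]
        intro a ha
        rw [Set.mem_singleton_iff] at ha
        rwa [ha]
      · left
        rw [Set.eq_empty_iff_forall_notMem]
        intro a ha
        have h2 : a ∈ ({j} : Set I) := by rw [e1]; trivial
        rw [Set.mem_singleton_iff] at h2
        exact hK (h2 ▸ ha)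
    have hi : i₀ = i₁ := Subsingleton.elim _ _
    rcases hI (J₀ i₀) with h2 | h2
    · exact h0 h2
    · exact h1 (hi ▸ h2)
  have hju' : ({j}ᶜ : Set I) ≠ Set.univ := by
    rw [Ne, Set.compl_univ_iff]
    exact Set.singleton_ne_empty j
  have hjc : Inv H e S (fun _ => {j}ᶜ) := Inv.compl e S hN.nrm hjI
  have hPHle : ∀ {K L : Set I}, Inv H e S (fun _ => L) → (PH H e S (fun _ => K) ≤ PH H e S (fun _ => L) ↔ K ⊆ L) := by
    intro K L hK
    exact ⟨fun h2 => (PH_le_iff e S hN.nrm hN.le hK).1 h2 0, fun h2 => (PH_le_iff e S hN.nrm hN.le hK).2 fun _ => h2⟩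
  -- the panel data for `{j}`
  obtain ⟨D₁, Q₁, hVD₁, hDP₁, hDp₁, hDn₁, hQp₁, hQn₁, hDQ₁, hQH₁, hQD₁⟩ := hDQ (fun _ => {j}) (VV_ne_bot e (i := 0) hju)
  have hRP₁ : R ≤ PH H e S (fun _ => {j}) := hRBH.trans (BH_le_PH e S hjI)
  have hDR₁ : D₁ ≤ R := le_R_of_normal hR inf_le_left hRP₁ hDP₁ hDp₁ hDn₁
  have c : PanelB H R (PH H e S fun _ => {j}) D₁ M 2 := by
    refine panelB_of e S hY h hN hR hRN hM hRM hjI (fun _ => hju) hDR₁ hVD₁ hDn₁ ?_ ?_
    · rw [hMj, hPHle hjc]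
      intro h2
      exact h2 (Set.mem_singleton j) (Set.mem_singleton j)
    · intro M' hM' hRM' hPM'
      obtain ⟨o, -, hoI, hMo⟩ := hall M' hM' hRM'
      rw [hMo, hPHle (Inv.compl e S hN.nrm hoI), Set.subset_compl_singleton_iff, Set.mem_singleton_iff, not_not] at hPM'
      rw [hMo, hMj, hPM']
  have np : ∀ x ∉ H, R ≤ cj x H → ∀ g ∈ cj x H, (∀ r ∈ R, g * r * g⁻¹ ∈ R) → g ∈ H := fun x hx hRx g hg hgR =>
    c.norm_point hx hRx hg hgR
  -- one type
  have huniq : ∀ M' ∈ EP.twoSet H, R ≤ M' → M' = PH H e S (fun _ => {j}ᶜ) := by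
    intro M' hM' hRM'
    obtain ⟨D, Q, hVD, hDP, hDp, hDn, hQp, hQn, hDQ', hQH, hQD⟩ := hDQ (fun _ => {j}ᶜ) (VV_ne_bot e (i := 0) hju')
    have hRP : R ≤ PH H e S (fun _ => {j}ᶜ) := hRBH.trans (BH_le_PH e S hjc)
    have hDR : D ≤ R := le_R_of_normal hR inf_le_left hRP hDP hDp hDn
    obtain ⟨W, -, hWD, v⟩ := exists_vecB (Fact.out : (2 : ℕ).Prime) hDn hQp hQn hDQ' hQH hQD
    refine one_type h inf_le_left hRP hDR (fun e1 => VV_ne_bot e (i := 0) (J := fun _ => {j}ᶜ) hju' (le_bot_iff.1 (e1 ▸ hVD)))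
      hDn np v hWD (hMj ▸ hM) ?_ ?_ hM' hRM'
    · intro M'' hM'' hDM''
      obtain ⟨a, ha, h2, -⟩ := par e S hY hN (K := fun _ => {j}ᶜ) (fun _ => hju') (mx_of_two h hN hM'') (hVD.trans hDM'')
      exact ⟨a, PP_le_PH e S hN.le _ ha, hRBH.trans h2⟩
    · intro M₁ hM₁ hRM₁ M₂ hM₂ hle
      obtain ⟨o, -, hoI, hMo⟩ := hall M₁ hM₁ hRM₁
      have hRM₂ : R ≤ M₂ := (le_inf hRP hRM₁).trans hle
      obtain ⟨o', -, hoI', hMo'⟩ := hall M₂ hM₂ hRM₂
      have h2 : PP e S (fun _ => {j}ᶜ ∩ {o}ᶜ) ≤ PP e S (fun _ => {o'}ᶜ) := by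
        rw [← PP_inf, ← PH_inf e S hN.le (fun _ => {o'}ᶜ)]
        refine le_inf ?_ (inf_le_left.trans (PP_le e S _))
        rw [← hMo']
        refine le_trans ?_ hle
        rw [hMo]
        exact inf_le_inf (PP_le_PH e S hN.le _) (PP_le_PH e S hN.le _)
      have h3 := (PP_le_iff e S).1 h2 0
      by_cases ho1 : o' = j
      · right
        rw [hMo', ho1]
      · by_cases ho2 : o' = o
        · left
          rw [hMo', hMo, ho2]
        · exfalso
          have h4 : o' ∈ ({j}ᶜ ∩ {o}ᶜ : Set I) := ⟨ho1, ho2⟩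
          exact h3 h4 rfl
  -- lines
  obtain ⟨W, -, hWD, v⟩ := exists_vecB (Fact.out : (2 : ℕ).Prime) hDn₁ hQp₁ hQn₁ hDQ₁ hQH₁ hQD₁
  have hsgl : sgl (0 : Fin 1) j = fun _ => {j} := by
    funext i'
    have : i' = 0 := Subsingleton.elim _ _
    rw [this, sgl_same]
  obtain ⟨-, -, h4, hR2⟩ := node_two e hS hN.nrm hN.le hjc hMj c v hWD (i := 0) (j := j) rfl (fun h2 => h2 rfl)
  rw [hsgl] at h4
  have htop : v.fix c.Dn (VV e S fun _ => {j}) = ⊤ := by
    rw [eq_top_iff]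
    intro z _
    obtain ⟨w, rfl⟩ := v.vec_surjective z
    rw [v.vec_mem_fix c.Dn c.PH]
    refine inf_le_left.trans ?_
    have h2 : D₁ ≤ cj (w : G) H := by
      rw [← cj_eq_of_nm (v.WD w w.2)]
      exact cj_mono c.DH
    exact hVD₁.trans h2
  have hV4 : Nat.card v.Vec = 4 := by
    rw [htop, Subgroup.card_top] at h4
    exact h4
  obtain ⟨t, htW, htD, htM⟩ := c.exists_vec v hWD
  have htH := v.notMem_H htW htD
  have hRt : R ≤ cj t H := by
    have := c.RM
    rw [← htM] at this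
    exact this.trans inf_le_right
  refine ⟨j, t, htH, hj2, hjI, htM.trans hMj, norm_of_fix v c.PH c.RP c.DR htW hRt, fun x hx => ?_, huniq⟩
  refine line_two c v hV4 hR2 ?_ htW htD htM (by rw [hMj]; exact hx)
  intro M' hM' hDM'
  obtain ⟨g, hg, hRg⟩ := c.par M' hM' hDM'
  have h2 := huniq _ (PanelB.cj_mem_twoSet hM' (c.PH hg)) hRg
  refine ⟨g⁻¹, inv_mem hg, ?_⟩
  rw [hMj, ← h2, cj_inv_cj]

omit [Finite Y] [IsSimpleGroup Y] hY in
/-- the number of vectors -/
theorem card_vec_of {A P D W M : Subgroup G} (v : VecB H P D W p) (hWD : W ≠ D) (hAP : A ≤ P) (hPH : P ≤ H)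
    (hDn : ∀ g ∈ P, ∀ d ∈ D, g * d * g⁻¹ ∈ D)
    (hconj : ∀ w ∈ W, w ∉ D → ∃ a ∈ A, H ⊓ cj w H = cj a M)
    (hline : ∀ w ∈ W, ∀ w' ∈ W, w ∉ D → w' ∉ D → H ⊓ cj w H = M → H ⊓ cj w' H = M → w⁻¹ * w' ∈ D) :
    Nat.card v.Vec = 1 + M.relIndex A := by
  classical
  have hcD : ∀ a ∈ A, ∀ w, w ∉ D → a * w * a⁻¹ ∉ D := by
    intro a ha w hwD h1
    apply hwD
    have := hDn a⁻¹ (inv_mem (hAP ha)) _ h1
    have e2 : a⁻¹ * (a * w * a⁻¹) * a⁻¹⁻¹ = w := by group
    rwa [e2] at this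
  obtain ⟨w₀, hw₀, hw₀D, hw₀M⟩ : ∃ w ∈ W, w ∉ D ∧ H ⊓ cj w H = M := by
    obtain ⟨w, hw, hwD⟩ : ∃ w ∈ W, w ∉ D := by
      by_contra hcon
      push Not at hcon
      exact hWD (le_antisymm hcon v.DW)
    obtain ⟨a, ha, h1⟩ := hconj w hw hwD
    refine ⟨a⁻¹ * w * a⁻¹⁻¹, v.Wn _ (inv_mem (hAP ha)) w hw, hcD _ (inv_mem ha) w hwD, ?_⟩
    rw [← PanelB.cj_two (inv_mem (hPH (hAP ha))), h1, cj_inv_cj]
  let ρ : A →* MulAut v.Vec := (v.act hDn).comp (Subgroup.inclusion hAP)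
  letI : MulAction A v.Vec := MulAction.compHom v.Vec ρ
  have hsmul : ∀ (a : A) (z : v.Vec), a • z = v.act hDn ⟨a, hAP a.2⟩ z := fun _ _ => rfl
  have hst : MulAction.stabilizer A (v.vec ⟨w₀, hw₀⟩) = M.subgroupOf A := by
    ext a
    rw [MulAction.mem_stabilizer_iff, hsmul, v.act_fix_iff hDn hPH, Subgroup.mem_subgroupOf, ← hw₀M]
    exact ⟨fun h1 => ⟨hPH (hAP a.2), h1⟩, fun h1 => h1.2⟩
  have horb : MulAction.orbit A (v.vec ⟨w₀, hw₀⟩) = {(1 : v.Vec)}ᶜ := by
    ext z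
    constructor
    · rintro ⟨a, rfl⟩
      show a • v.vec ⟨w₀, hw₀⟩ ≠ 1
      rw [hsmul]
      intro h1
      rw [map_eq_one_iff _ (MulEquiv.injective _)] at h1
      exact hw₀D (v.vec_eq_one.1 h1)
    · intro hz
      obtain ⟨⟨w, hw⟩, rfl⟩ := v.vec_surjective z
      have hwD : w ∉ D := fun h1 => hz (v.vec_eq_one.2 h1)
      obtain ⟨a, ha, h1⟩ := hconj w hw hwD
      refine ⟨⟨a, ha⟩, ?_⟩
      show (⟨a, ha⟩ : A) • v.vec ⟨w₀, hw₀⟩ = v.vec ⟨w, hw⟩
      rw [hsmul, v.act_vec, v.vec_eq_iff]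
      show (a * w₀ * a⁻¹)⁻¹ * w ∈ D
      have h2 : H ⊓ cj (a⁻¹ * w * a⁻¹⁻¹) H = M := by
        rw [← PanelB.cj_two (inv_mem (hPH (hAP ha))), h1, cj_inv_cj]
      have h3 := hline w₀ hw₀ _ (v.Wn _ (inv_mem (hAP ha)) w hw) hw₀D (hcD _ (inv_mem ha) w hwD) hw₀M h2
      have h4 := hDn a (hAP ha) _ h3
      have e1 : a * (w₀⁻¹ * (a⁻¹ * w * a⁻¹⁻¹)) * a⁻¹ = (a * w₀ * a⁻¹)⁻¹ * w := by group
      rwa [e1] at h4
  have h1 : M.relIndex A = ({(1 : v.Vec)}ᶜ : Set v.Vec).ncard := by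
    rw [← horb, Subgroup.relIndex, ← hst, MulAction.index_stabilizer]
  have h2 := Set.ncard_add_ncard_compl ({(1 : v.Vec)} : Set v.Vec)
  rw [Set.ncard_singleton] at h2
  rw [h1, ← h2]

end

/-! ### The state after `own_two` -/

/-- the state after `own_two` -/
structure Q2 {G Y : Type*} [Group G] [Group Y] {I : Type*} (H : Subgroup G) {N : Subgroup G} (R : Subgroup G)
    (e : N ≃* (Fin 1 → Y)) (S : PSys Y 2 I) (i : I) (t : G) : Prop where
  ep : EP H
  minN : MinN N H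
  syl : SylIn H R 2
  RN : R ⊓ N = VV e S fun _ => ∅
  dq : ∀ J : Fin 1 → Set I, VV e S J ≠ ⊥ → DQ H e S J
  tH : t ∉ H
  idx : (S.V {i}).relIndex (S.V ∅) = 2
  inv : Inv H e S (fun _ => {i})
  two : H ⊓ cj t H = PH H e S (fun _ => {i}ᶜ)
  tR : ∀ r ∈ R, t * r * t⁻¹ ∈ R
  line : ∀ x, PH H e S (fun _ => {i}ᶜ) ≤ cj x H → x ∈ H ∨ t⁻¹ * x ∈ H
  uniq : ∀ M' ∈ EP.twoSet H, R ≤ M' → M' = PH H e S (fun _ => {i}ᶜ)

namespace Q2

variable {G Y : Type*} [Group G] [Finite G] [Group Y] [Finite Y] {H N R : Subgroup G}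
  {e : N ≃* (Fin 1 → Y)} {I : Type*} {S : PSys Y 2 I} [IsSimpleGroup Y] (hY : ∃ a b : Y, a * b ≠ b * a)
  {i : I} {t : G} (q : Q2 H R e S i t)

include q

theorem nonempty : Nonempty I := ⟨i⟩

theorem RBH : R ≤ BH H e S := fun _ hr => R_le_BH e S q.minN.nrm q.RN (q.syl.le hr) fun _ hs =>
  mul_mem (mul_mem hr hs) (inv_mem hr)

theorem twoM : PH H e S (fun _ => {i}ᶜ) ∈ EP.twoSet H := ⟨t, q.tH, q.two.symm⟩

include hY

/-- two point stabilisers above `V_K` -/
theorem conj_M {K : Fin 1 → Set I} (hK : ∀ j, K j ≠ Set.univ) {M' : Subgroup G} (hM' : M' ∈ EP.twoSet H)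
    (hV : VV e S K ≤ M') : ∃ a ∈ PP e S K, M' = cj a (PH H e S fun _ => {i}ᶜ) := by
  have := q.nonempty
  obtain ⟨a, ha, h1, -⟩ := par e S hY q.minN hK (mx_of_two q.ep q.minN hM') hV
  have haH : a ∈ H := q.minN.le (PP_le e S K ha)
  have h2 := q.uniq _ (PanelB.cj_mem_twoSet hM' haH) (q.RBH.trans h1)
  exact ⟨a⁻¹, inv_mem ha, by rw [← h2, cj_inv_cj]⟩

omit hY [Finite Y] [IsSimpleGroup Y] in
theorem line' {w w' : G} (hw : w ∉ H) (hw' : w' ∉ H) (h1 : H ⊓ cj w H = PH H e S fun _ => {i}ᶜ)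
    (h2 : H ⊓ cj w' H = PH H e S fun _ => {i}ᶜ) : w⁻¹ * w' ∈ H := by
  have h3 := (q.line w (h1.ge.trans inf_le_right)).resolve_left hw
  have h4 := (q.line w' (h2.ge.trans inf_le_right)).resolve_left hw'
  have e1 : w⁻¹ * w' = (t⁻¹ * w)⁻¹ * (t⁻¹ * w') := by group
  rw [e1]
  exact mul_mem (inv_mem h3) h4

/-- **the vectors over `V_K`** -/
theorem card_vec {K : Fin 1 → Set I} (hK : K 0 ≠ Set.univ) {D W : Subgroup G} (hVD : VV e S K ≤ D)
    (hDP : D ≤ PH H e S K) (hDn : ∀ g ∈ PH H e S K, ∀ d ∈ D, g * d * g⁻¹ ∈ D)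
    (v : VecB H (PH H e S K) D W 2) (hWD : W ≠ D) :
    Nat.card v.Vec = 1 + (PP e S fun j => {i}ᶜ ∩ K j).relIndex (PP e S K) := by
  have hK' : ∀ j, K j ≠ Set.univ := fun j => by
    have : j = 0 := Subsingleton.elim _ _
    rw [this]; exact hK
  have hDH : D ≤ H := hDP.trans inf_le_left
  rw [card_vec_of (H := H) (A := PP e S K) (M := PH H e S fun _ => {i}ᶜ) v hWD (PP_le_PH e S q.minN.le K) inf_le_left hDn]
  · rw [M_relIndex e q.minN.nrm q.minN.le (Inv.compl e S q.minN.nrm q.inv) rfl]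
  · intro w hw hwD
    apply q.conj_M hY hK' ⟨w, v.notMem_H hw hwD, rfl⟩
    refine hVD.trans (le_inf hDH ?_)
    rw [← cj_eq_of_nm (v.WD w hw)]
    exact cj_mono hDH
  · intro w hw w' hw' hwD hw'D h1 h2
    rw [← v.WH]
    exact ⟨W.mul_mem (W.inv_mem hw) hw', q.line' (v.notMem_H hw hwD) (v.notMem_H hw' hw'D) h1 h2⟩

/-- **(C)** for every `K ≠ I`: the number of `i`-vertices of the residue, plus 1, is a power of 2 -/
theorem res_pow {K : Fin 1 → Set I} (hK : K 0 ≠ Set.univ) :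
    ∃ s, (PP e S fun j => {i}ᶜ ∩ K j).relIndex (PP e S K) + 1 = 2 ^ s := by
  obtain ⟨D, Q, hVD, hDP, hDp, hDn, hQp, hQn, hDQ', hQH, hQD⟩ := q.dq K (VV_ne_bot e (i := 0) hK)
  obtain ⟨W, -, hWD, v⟩ := exists_vecB Nat.prime_two hDn hQp hQn hDQ' hQH hQD
  have h1 := q.card_vec hY hK hVD hDP hDn v hWD
  have := Fact.mk Nat.prime_two
  obtain ⟨s, hs⟩ := IsPGroup.iff_card.1 v.isPGroup
  exact ⟨s, by rw [add_comm, ← h1, hs]⟩

omit [Finite G] [Finite Y] [IsSimpleGroup Y] hY q in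
theorem _root_.Cfsg.Agent.H737.EPO.PP_map (K : Set I) : PP e S (fun _ => K) = (S.P K).map (sg e 0) := by
  apply le_antisymm
  · apply pk_le_of_sg
    intro j t ht
    have : j = 0 := Subsingleton.elim _ _
    rw [this]
    exact ⟨t, ht, rfl⟩
  · rintro _ ⟨t, ht, rfl⟩
    exact (sg_mem_pk e).2 ht

omit [Finite G] [Finite Y] [IsSimpleGroup Y] hY q in
theorem _root_.Cfsg.Agent.H737.EPO.sg_inj : Function.Injective (sg e 0) := by
  intro a b hab
  rw [← cp_sg e 0 a, hab, cp_sg]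

omit [Finite G] [Finite Y] [IsSimpleGroup Y] hY q in
theorem _root_.Cfsg.Agent.H737.EPO.PP_relIndex (J K : Set I) :
    (PP e S fun _ => J).relIndex (PP e S fun _ => K) = (S.P J).relIndex (S.P K) := by
  rw [PP_map, PP_map, Subgroup.relIndex_map_map_of_injective _ _ (sg_inj (e := e))]

/-- **(C)** in terms of `Y`: for every `K ≠ I`, `|P_K : P_{K - i}| + 1` is a power of 2 -/
theorem res_pow' {K : Set I} (hK : K ≠ Set.univ) : ∃ s, (S.P (K \ {i})).relIndex (S.P K) + 1 = 2 ^ s := by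
  obtain ⟨s, hs⟩ := q.res_pow hY (K := fun _ => K) hK
  refine ⟨s, ?_⟩
  rw [← hs, ← PP_relIndex (e := e)]
  congr 3
  funext _
  rw [Set.diff_eq, Set.inter_comm]

end Q2

end Cfsg.Agent.H737.EPO
end
end

-- part: H284/EPO/W3_mg
section
prune_inst 0xc0703001050000000004001260202085750000b20060800058c40f420046f3620902210044001d1c1208a601000500081000045000000000008404000024072900aa5204b308019120009600320f190c02200000000000000000000000041004210400000
set_option linter.all false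
open scoped Cfsg.Agent.FastGrp

-- part: H284/EPO/W3
section
/-!
# The maximal parabolic subgroup `W_J`, `J = I - i`, has three orbits on `W / W_J` (helper284, for helper869)

`W3 cs i` : `W = W_J ∪ W_J s_i W_J ∪ w W_J`. Proved for: `A_m`, `i` an end node; `A₃`, the middle node; `B_m`, the first
node (`m = 2` : both nodes); `D_m`, the first node; `D₄`, the three end nodes. Proof: the orbit of the fundamental weight
(the walks of helper965, helper35).
-/

set_option autoImplicit false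
set_option linter.unusedSectionVars false

namespace Cfsg.Agent.H284.TThree

open CoxeterSystem Cfsg.Agent.ChevalleyStructure.CoxeterGeom Cfsg.Agent.Tits.Roots Cfsg.Agent.Tits.Core
  Cfsg.Agent.Tits.RootComb Cfsg.Agent.Tits.Exchange Cfsg.Agent.Nodes.Comb Cfsg.Agent.Nodes.Reps
  Cfsg.Agent.Nodes.BNOf Cfsg.Agent.Nodes.StabComb Cfsg.Agent.Nodes.Bruhat Cfsg.Agent.Nodes.OppDec
  Cfsg.Agent.Nodes.LeviDec Cfsg.Agent.Nodes.NormalForm Cfsg.Agent.ChevalleyStructure.WeylAbstract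
  Cfsg.Agent.H35.Poin Cfsg.Agent.H965.XZ

/-- `W = W_J ∪ W_J s_i W_J ∪ w W_J`, `J = I - i` -/
def W3 {I W : Type*} [Group W] {M : CoxeterMatrix I} (cs : CoxeterSystem M W) (i : I) : Prop :=
  ∃ w : W, ∀ v : W, v ∈ WJ cs {i}ᶜ ∨ (∃ a ∈ WJ cs {i}ᶜ, ∃ b ∈ WJ cs {i}ᶜ, v = a * cs.simple i * b) ∨
    (∃ b ∈ WJ cs {i}ᶜ, v = w * b)

section RD

variable {ι Φ : Type*} [Fintype ι] [DecidableEq ι] (R : RData ι Φ)

/-- the stabiliser of the fundamental weight -/
theorem mem_of_co [Finite Φ] {k : ι} {w w' : Equiv.Perm Φ} (hw : w ∈ R.W Set.univ) (hw' : w' ∈ R.W Set.univ)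
    (h : ∀ r, R.co (w⁻¹ r) k = R.co (w'⁻¹ r) k) : w'⁻¹ * w ∈ R.W {k}ᶜ := by
  have hm : w'⁻¹ * w ∈ R.W Set.univ := mul_mem (inv_mem hw') hw
  obtain ⟨e, he, v, hv, heq⟩ := R.exists_D_mul (K := {k}ᶜ) (Set.subset_univ _) _ _ hm rfl
  have hstab : ∀ r, R.co ((w'⁻¹ * w) r) k = R.co r k := by
    intro r
    rw [Equiv.Perm.mul_apply, ← h (w r), Equiv.Perm.inv_def, Equiv.symm_apply_apply]
  have hvk : ∀ r, R.co (v r) k = R.co r k := fun r => R.co_of_mem hv r (by simp)
  have hek : ∀ r, R.co (e r) k = R.co r k := by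
    intro r
    have h1 := hstab (v⁻¹ r)
    rw [heq, Equiv.Perm.mul_apply] at h1
    have h2 : v (v⁻¹ r) = r := by rw [Equiv.Perm.inv_def, Equiv.apply_symm_apply]
    rw [h2] at h1
    rw [h1, ← hvk (v⁻¹ r), h2]
  have he1 : e = 1 := by
    apply R.eq_one_of_pos_all he.1
    intro r hr
    by_cases hs : R.Sub {k}ᶜ r
    · exact R.pos_of_D he hr hs
    · have hrk : R.co r k ≠ 0 := by
        intro h0
        apply hs
        intro i hi
        rw [Set.mem_compl_iff, Set.mem_singleton_iff, not_not] at hi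
        rw [hi, h0]
      apply R.pos_of_coord (i := k)
      rw [hek r]
      exact lt_of_le_of_ne (R.co_nonneg r hr k) (Ne.symm hrk)
  rw [heq, he1, one_mul]
  exact hv

/-- the weights of the middle orbit -/
def Mid (k : ι) (m : ι → ℤ) : Prop := ∃ a ∈ R.W {k}ᶜ, ∀ r, R.val m r = R.co ((a * R.refl k)⁻¹ r) k

theorem mid_one (k : ι) : Mid R k (R.act k (Pi.single k 1)) :=
  ⟨1, one_mem _, fun r => by rw [R.val_act, R.val_single, one_mul, R.refl_inv]⟩

theorem Mid.step {R : RData ι Φ} {k : ι} {m : ι → ℤ} (h : Mid R k m) {j : ι} (hj : j ≠ k) : Mid R k (R.act j m) := by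
  obtain ⟨a, ha, h1⟩ := h
  refine ⟨R.refl j * a, mul_mem (R.refl_mem_W hj) ha, fun r => ?_⟩
  rw [R.val_act, h1, mul_assoc, mul_inv_rev (R.refl j), Equiv.Perm.mul_apply, R.refl_inv]

theorem w3_of_weights [Finite Φ] {k : ι} {L : Set (ι → ℤ)} (h0 : Pi.single k 1 ∈ L)
    (hL : ∀ m ∈ L, ∀ j, R.act j m ∈ L) {z : ι → ℤ} (hz : R.Reach Set.univ k z)
    (h3 : ∀ m ∈ L, m = Pi.single k 1 ∨ Mid R k m ∨ m = z) :
    ∃ w ∈ R.W Set.univ, ∀ v ∈ R.W Set.univ, v ∈ R.W {k}ᶜ ∨
      (∃ a ∈ R.W {k}ᶜ, ∃ b ∈ R.W {k}ᶜ, v = a * R.refl k * b) ∨ ∃ b ∈ R.W {k}ᶜ, v = w * b := by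
  obtain ⟨w, hw, hwz⟩ := R.exists_of_reach hz
  refine ⟨w, hw, fun v hv => ?_⟩
  obtain ⟨m, hm, h1⟩ := R.mem_of_closed h0 (fun m hm j _ => hL m hm j) hv
  rcases h3 m hm with rfl | ⟨a, ha, h2⟩ | rfl
  · left
    have := mem_of_co R (k := k) hv (one_mem _) (fun r => by rw [← h1, R.val_single, inv_one, Equiv.Perm.one_apply])
    rwa [inv_one, one_mul] at this
  · right; left
    have hu : a * R.refl k ∈ R.W Set.univ :=
      mul_mem (R.W_mono (Set.subset_univ _) ha) (R.refl_mem_W (Set.mem_univ _))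
    have := mem_of_co R (k := k) hv hu (fun r => by rw [← h1, h2])
    exact ⟨a, ha, _, this, by group⟩
  · right; right
    have := mem_of_co R (k := k) hv hw (fun r => by rw [← h1, hwz])
    exact ⟨_, this, by group⟩

theorem reach_mu {J : Set ι} {u : ℕ → ι} {n : ℕ} (hu : ∀ t < n, u t ∈ J) : ∀ t ≤ n, R.Reach J (u 0) (mu R u t) := by
  intro t
  induction t with
  | zero => intro _; exact RData.Reach.base
  | succ t ih => intro ht; exact RData.Reach.step _ _ (hu t (by omega)) (ih (by omega))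

theorem mid_mu {u : ℕ → ι} {n : ℕ} (hu : ∀ t < n, 0 < t → u t ≠ u 0) : ∀ t ≤ n, 0 < t → Mid R (u 0) (mu R u t) := by
  intro t
  induction t with
  | zero => intro _ h; omega
  | succ t ih =>
    intro ht _
    rcases Nat.eq_zero_or_pos t with rfl | h0
    · exact mid_one R (u 0)
    · exact (ih (by omega) h0).step (hu t (by omega) h0)

end RD

/-! ### Transfer to the Coxeter group -/

section Tr

variable {I W : Type*} [Fintype I] [DecidableEq I] [Group W] {M : CoxeterMatrix I}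
  {cs : CoxeterSystem M W} {A : I → I → ℤ} (h : IsCartan M A)

include h

theorem w3_tr {i : I} (H : ∃ w ∈ (rdata cs h).W Set.univ, ∀ v ∈ (rdata cs h).W Set.univ, v ∈ (rdata cs h).W {i}ᶜ ∨
      (∃ a ∈ (rdata cs h).W {i}ᶜ, ∃ b ∈ (rdata cs h).W {i}ᶜ, v = a * (rdata cs h).refl i * b) ∨
        ∃ b ∈ (rdata cs h).W {i}ᶜ, v = w * b) : W3 cs i := by
  have hu : WJ cs (Set.univ : Set I) = ⊤ := by
    unfold WJ
    rw [Set.image_univ]
    exact cs.subgroup_closure_range_simple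
  obtain ⟨w, hw, H⟩ := H
  rw [W_eq, hu] at hw
  obtain ⟨w, -, rfl⟩ := hw
  refine ⟨w, fun v => ?_⟩
  have h1 := H (perm cs h v) (by rw [W_eq, hu]; exact ⟨v, trivial, rfl⟩)
  rw [W_eq] at h1
  rcases h1 with ⟨v', h2, h3⟩ | ⟨_, ⟨a, ha, rfl⟩, _, ⟨b, hb, rfl⟩, h3⟩ | ⟨_, ⟨b, hb, rfl⟩, h3⟩
  · left
    rwa [← perm_injective cs h h3]
  · right; left
    refine ⟨a, ha, b, hb, perm_injective cs h ?_⟩
    rw [h3, map_mul, map_mul]
    rfl
  · right; right
    refine ⟨b, hb, perm_injective cs h ?_⟩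
    rw [h3, map_mul]

variable [Finite W]

/-- a walk with exactly two or one steps at the node `u 0` (the first and the last) -/
theorem w3_walk {u : ℕ → I} {n : ℕ} (hW : Walk (rdata cs h) Set.univ u (n + 1)) (hu : ∀ t < n, 0 < t → u t ≠ u 0) :
    W3 cs (u 0) := by
  have : Finite (Rt cs h) := finite_rt cs h
  apply w3_tr h
  refine w3_of_weights (rdata cs h) (L := {m | ∃ t ≤ n + 1, mu (rdata cs h) u t = m}) ⟨0, by omega, rfl⟩ ?_
    (reach_mu _ (J := Set.univ) (n := n + 1) (fun _ _ => Set.mem_univ _) (n + 1) le_rfl) ?_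
  · rintro _ ⟨t, ht, rfl⟩ j
    by_cases h1 : t < n + 1 ∧ j = u t
    · refine ⟨t + 1, by omega, ?_⟩
      rw [h1.2]; rfl
    · by_cases h2 : 0 < t ∧ j = u (t - 1)
      · refine ⟨t - 1, by omega, ?_⟩
        obtain ⟨s, rfl⟩ : ∃ s, t = s + 1 := ⟨t - 1, by omega⟩
        rw [Nat.add_sub_cancel] at h2 ⊢
        rw [h2.2]
        exact (act_act (rdata cs h) _ _).symm
      · refine ⟨t, ht, (act_zero (rdata cs h) (hW.zero t (by omega) j (Set.mem_univ _) ?_ ?_)).symm⟩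
        · intro h3 h4; exact h1 ⟨h3, h4⟩
        · intro h3 h4; exact h2 ⟨h3, h4⟩
  · rintro _ ⟨t, ht, rfl⟩
    rcases (by omega : t = 0 ∨ (0 < t ∧ t ≤ n) ∨ t = n + 1) with rfl | ⟨h1, h2⟩ | rfl
    · exact Or.inl rfl
    · exact Or.inr (Or.inl (mid_mu _ hu t h2 h1))
    · exact Or.inr (Or.inr rfl)

theorem w3_bpath {c : ℕ → I} {k : ℕ} (hk : 2 ≤ k) (hP : BPath A Set.univ c k) : W3 cs (c 0) := by
  have hW := walk_of_bpath (R := rdata cs h) hP (by omega)
  obtain ⟨n, hn⟩ : ∃ n, 2 * k - 1 = n + 1 := ⟨2 * k - 2, by omega⟩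
  rw [hn] at hW
  have h0 : bk c k 0 = c 0 := bk_lt c (by omega)
  have := w3_walk h hW ?_
  · rwa [h0] at this
  · intro t ht ht0 e
    rw [h0] at e
    unfold bk at e
    split_ifs at e with h1
    · have := hP.inj t h1 0 (by omega) e
      omega
    · have := hP.inj _ (by omega) 0 (by omega) e
      omega

theorem w3_dpath {c : ℕ → I} {l : ℕ} (hP : DPath A Set.univ c l) : W3 cs (c 0) := by
  have : Finite (Rt cs h) := finite_rt cs h
  have h0 : dk c l 0 = c 0 := dk_lt c (by omega)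
  have hne : ∀ t < 2 * l + 3, 0 < t → dk c l t ≠ dk c l 0 := by
    intro t ht ht0 e
    rw [h0] at e
    unfold dk at e
    split_ifs at e with h1
    · have := hP.inj t h1 0 (by omega) e
      omega
    · have := hP.inj _ (by omega) 0 (by omega) e
      omega
  have hmid := mid_mu (rdata cs h) hne
  apply w3_tr h
  rw [← h0]
  have hr := reach_mu (rdata cs h) (J := Set.univ) (u := dk c l) (n := 2 * l + 4) (fun _ _ => Set.mem_univ _)
    (2 * l + 4) le_rfl
  refine w3_of_weights (rdata cs h) (L := {m | ∃ t < 2 * l + 6, nu (rdata cs h) c l t = m})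
    ⟨0, by omega, nu_lt (by omega)⟩ ?_ hr ?_
  · rintro _ ⟨t, ht, rfl⟩ j
    obtain ⟨s, hs, e⟩ := nud_closed (R := rdata cs h) hP ht (Set.mem_univ j)
    exact ⟨s, hs, e⟩
  · rintro _ ⟨t, ht, rfl⟩
    rcases (by omega : t = 0 ∨ (0 < t ∧ t ≤ 2 * l + 3) ∨ t = 2 * l + 4 ∨ t = 2 * l + 5) with rfl | ⟨h1, h2⟩ | rfl | rfl
    · left
      rw [nu_lt (by omega)]
      rfl
    · right; left
      rw [nu_lt (by omega)]
      exact hmid t h2 h1
    · right; right
      rw [nu_lt (by omega)]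
    · right; left
      rw [nu_last]
      refine (hmid (l + 1) (by omega) (by omega)).step ?_
      rw [h0]
      intro e
      have := hP.inj (l + 2) (by omega) 0 (by omega) e
      omega

theorem w3_apath {c : ℕ → I} {m : ℕ} (hm : 0 < m) (hP : APath A Set.univ c m) : W3 cs (c 0) := by
  have : Finite (Rt cs h) := finite_rt cs h
  have hmid := mid_mu (rdata cs h) (u := c) (n := m) (fun t ht h0 e => by
    have := hP.inj t ht 0 hm e
    omega)
  apply w3_tr h
  refine w3_of_weights (rdata cs h) (L := {x | ∃ t ≤ m, mu (rdata cs h) c t = x}) ⟨0, by omega, rfl⟩ ?_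
    (reach_mu _ (J := Set.univ) (n := m) (fun _ _ => Set.mem_univ _) m le_rfl) ?_
  · rintro _ ⟨t, ht, rfl⟩ j
    have h1 := mu_apply (rdata cs h) (J := Set.univ) hP hm t ht j (Set.mem_univ _)
    by_cases h2 : t < m ∧ j = c t
    · refine ⟨t + 1, by omega, ?_⟩
      rw [h2.2]; rfl
    · rw [if_neg h2] at h1
      by_cases h3 : 0 < t ∧ j = c (t - 1)
      · refine ⟨t - 1, by omega, ?_⟩
        obtain ⟨s, rfl⟩ : ∃ s, t = s + 1 := ⟨t - 1, by omega⟩
        rw [Nat.add_sub_cancel] at h3 ⊢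
        rw [h3.2]
        exact (act_act (rdata cs h) _ _).symm
      · rw [if_neg h3] at h1
        exact ⟨t, ht, (act_zero (rdata cs h) h1).symm⟩
  · rintro _ ⟨t, ht, rfl⟩
    rcases Nat.eq_zero_or_pos t with rfl | h1
    · exact Or.inl rfl
    · exact Or.inr (Or.inl (hmid t ht h1))

end Tr

/-! ### The families -/

/-- a component of type `D_3 = A_3` or `D_4` given by its nodes -/
theorem w3_three {I W : Type*} [Fintype I] [DecidableEq I] [Group W] [Finite W] {M : CoxeterMatrix I}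
    {cs : CoxeterSystem M W} {A : I → I → ℤ} (h : IsCartan M A) (a b c : I) (hall : ∀ j, j = a ∨ j = b ∨ j = c)
    (h1 : M a b = 3) (h2 : M a c = 3) (h3 : M b c = 2) : W3 cs a := by
  have ne : ∀ {x y : I} {q : ℕ}, M x y = q → q ≠ 1 → x ≠ y := by
    rintro x y q e hq rfl
    rw [M.diagonal] at e
    exact hq e.symm
  have n1 := ne h1 (by norm_num)
  have n2 := ne h2 (by norm_num)
  have n3 := ne h3 (by norm_num)
  obtain ⟨d, d0, d1, d2⟩ : ∃ d : ℕ → I, d 0 = a ∧ d 1 = b ∧ d 2 = c := ⟨c3 a b c, rfl, rfl, rfl⟩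
  have hP : DPath A Set.univ d 0 := by
    refine ⟨fun _ _ => Set.mem_univ _, fun t ht => ?_, ?_, fun s t h1 h2 => by omega, fun s hs => by omega, ?_,
      fun j _ hc => ?_, ?_⟩
    · have : t = 0 := by omega
      subst this
      rw [d0, zero_add, d1]
      exact cart3 h h1
    · rw [d0, zero_add, d2]
      exact cart3 h h2
    · rw [zero_add, zero_add, d1, d2]
      exact cart2 h h3
    · exfalso
      rcases hall j with e | e | e
      · exact hc 0 (by norm_num) (d0.trans e.symm)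
      · exact hc 1 (by norm_num) (d1.trans e.symm)
      · exact hc 2 (by norm_num) (d2.trans e.symm)
    · intro s hs t ht e
      interval_cases s <;> interval_cases t <;> simp only [d0, d1, d2] at e <;> first
        | rfl
        | exact (n1 e).elim
        | exact (n2 e).elim
        | exact (n3 e).elim
        | exact (n1 e.symm).elim
        | exact (n2 e.symm).elim
        | exact (n3 e.symm).elim
  have := w3_dpath h (cs := cs) hP
  rwa [d0] at this

theorem w3_four {I W : Type*} [Fintype I] [DecidableEq I] [Group W] [Finite W] {M : CoxeterMatrix I}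
    {cs : CoxeterSystem M W} {A : I → I → ℤ} (h : IsCartan M A) (a b c d : I)
    (hall : ∀ j, j = a ∨ j = b ∨ j = c ∨ j = d)
    (h1 : M a b = 3) (h2 : M b c = 3) (h3 : M b d = 3) (h4 : M a c = 2) (h5 : M a d = 2) (h6 : M c d = 2) :
    W3 cs a := by
  have ne : ∀ {x y : I} {q : ℕ}, M x y = q → q ≠ 1 → x ≠ y := by
    rintro x y q e hq rfl
    rw [M.diagonal] at e
    exact hq e.symm
  have n1 := ne h1 (by norm_num)
  have n2 := ne h2 (by norm_num)
  have n3 := ne h3 (by norm_num)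
  have n4 := ne h4 (by norm_num)
  have n5 := ne h5 (by norm_num)
  have n6 := ne h6 (by norm_num)
  obtain ⟨f, d0, d1, d2, d3⟩ : ∃ f : ℕ → I, f 0 = a ∧ f 1 = b ∧ f 2 = c ∧ f 3 = d :=
    ⟨fun t => if t = 0 then a else if t = 1 then b else if t = 2 then c else d, rfl, rfl, rfl, rfl⟩
  have hP : DPath A Set.univ f 1 := by
    refine ⟨fun _ _ => Set.mem_univ _, fun t ht => ?_, ?_, fun s t h7 h8 => ?_, fun s hs => ?_, ?_,
      fun j _ hc => ?_, ?_⟩
    · rcases (by omega : t = 0 ∨ t = 1) with rfl | rfl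
      · rw [d0, zero_add, d1]
        exact cart3 h h1
      · rw [d1, show 1 + 1 = 2 from rfl, d2]
        exact cart3 h h2
    · rw [d1, show 1 + 2 = 3 from rfl, d3]
      exact cart3 h h3
    · obtain rfl : s = 0 := by omega
      obtain rfl : t = 2 := by omega
      rw [d0, d2]
      exact cart2 h h4
    · obtain rfl : s = 0 := by omega
      rw [d0, show 1 + 2 = 3 from rfl, d3]
      exact cart2 h h5
    · rw [show 1 + 1 = 2 from rfl, show 1 + 2 = 3 from rfl, d2, d3]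
      exact cart2 h h6
    · exfalso
      rcases hall j with e | e | e | e
      · exact hc 0 (by norm_num) (d0.trans e.symm)
      · exact hc 1 (by norm_num) (d1.trans e.symm)
      · exact hc 2 (by norm_num) (d2.trans e.symm)
      · exact hc 3 (by norm_num) (d3.trans e.symm)
    · intro s hs t ht e
      interval_cases s <;> interval_cases t <;> simp only [d0, d1, d2, d3] at e <;> [rfl; exact (n1 e).elim; exact (n4 e).elim; exact (n5 e).elim; exact (n1 e.symm).elim; rfl; exact (n2 e).elim; exact (n3 e).elim;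
                                                                                     exact (n4 e.symm).elim; exact (n2 e.symm).elim; rfl; exact (n6 e).elim; exact (n5 e.symm).elim; exact (n3 e.symm).elim; exact (n6 e.symm).elim; rfl]
  have := w3_dpath h (cs := cs) hP
  rwa [d0] at this

theorem w3_two {I W : Type*} [Fintype I] [DecidableEq I] [Group W] [Finite W] {M : CoxeterMatrix I}
    {cs : CoxeterSystem M W} {A : I → I → ℤ} (h : IsCartan M A) (a b : I) (hall : ∀ j, j = a ∨ j = b)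
    (h1 : M a b = 4) : W3 cs a := by
  have hab : a ≠ b := by
    rintro rfl
    rw [M.diagonal] at h1
    omega
  obtain ⟨d, d0, d1⟩ : ∃ d : ℕ → I, d 0 = a ∧ d 1 = b := ⟨fun t => if t = 0 then a else b, rfl, rfl⟩
  have hP : BPath A Set.univ d 2 := by
    refine ⟨fun _ _ => Set.mem_univ _, fun t ht => by omega, fun t ht => ?_, fun s t h1 h2 => by omega,
      fun j _ hc => ?_, ?_⟩
    · have : t = 0 := by omega
      subst this
      rw [d0, zero_add, d1]
      exact cart4 h h1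
    · exfalso
      rcases hall j with e | e
      · exact hc 0 (by norm_num) (d0.trans e.symm)
      · exact hc 1 (by norm_num) (d1.trans e.symm)
    · intro s hs t ht e
      interval_cases s <;> interval_cases t <;> simp only [d0, d1] at e <;> first
        | rfl
        | exact (hab e).elim
        | exact (hab e.symm).elim
  have := w3_bpath h (cs := cs) le_rfl hP
  rwa [d0] at this

theorem w3_A3 {W : Type*} [Group W] [Finite W] {A : Fin 3 → Fin 3 → ℤ}
    {cs : CoxeterSystem (Cfsg.Agent.LieRecognition.BNCox.cA 3) W}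
    (h : IsCartan (Cfsg.Agent.LieRecognition.BNCox.cA 3) A) : W3 cs 1 :=
  w3_three h 1 0 2 (by decide) (by rw [Cfsg.Agent.LieRecognition.BNCox.cA_apply]; rfl)
    (by rw [Cfsg.Agent.LieRecognition.BNCox.cA_apply]; rfl) (by rw [Cfsg.Agent.LieRecognition.BNCox.cA_apply]; rfl)

theorem w3_B2 {W : Type*} [Group W] [Finite W] {A : Fin 2 → Fin 2 → ℤ}
    {cs : CoxeterSystem (CoxeterMatrix.B 2) W} (h : IsCartan (CoxeterMatrix.B 2) A) (i : Fin 2) : W3 cs i := by
  have hc : ∀ i : Fin 2, i = 0 ∨ i = 1 := by decide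
  rcases hc i with rfl | rfl
  · exact w3_two h 0 1 hc rfl
  · exact w3_two h 1 0 (fun j => (hc j).symm) rfl

/-- the end nodes of `D₄` -/
theorem w3_D4 {W : Type*} [Group W] [Finite W] {A : Fin (2 + 2) → Fin (2 + 2) → ℤ}
    {cs : CoxeterSystem (Cfsg.Agent.Nodes.TypeD.M 2) W} (h : IsCartan (Cfsg.Agent.Nodes.TypeD.M 2) A)
    {i : Fin (2 + 2)} (hi : (i : ℕ) ≠ 1) : W3 cs i := by
  have hc : ∀ i : Fin (2 + 2), (i : ℕ) ≠ 1 → i = 0 ∨ i = 2 ∨ i = 3 := by decide
  rcases hc i hi with rfl | rfl | rfl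
  · exact w3_four h 0 1 2 3 (by decide) (by decide) (by decide) (by decide) (by decide) (by decide) (by decide)
  · exact w3_four h 2 1 0 3 (by decide) (by decide) (by decide) (by decide) (by decide) (by decide) (by decide)
  · exact w3_four h 3 1 0 2 (by decide) (by decide) (by decide) (by decide) (by decide) (by decide) (by decide)

theorem w3_A {m : ℕ} {W : Type*} [Group W] [Finite W] {A : Fin m → Fin m → ℤ}
    {cs : CoxeterSystem (Cfsg.Agent.LieRecognition.BNCox.cA m) W}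
    (h : IsCartan (Cfsg.Agent.LieRecognition.BNCox.cA m) A) {i : Fin m} (hi : (i : ℕ) = 0 ∨ (i : ℕ) + 1 = m) :
    W3 cs i := by
  have hm : 0 < m := by have := i.2; omega
  have e3 : ∀ a b : Fin m, (a : ℕ) + 1 = b → Cfsg.Agent.LieRecognition.BNCox.cA m a b = 3 := by
    intro a b hab
    rw [Cfsg.Agent.LieRecognition.BNCox.cA_apply]
    show (if (a : ℕ) = b then 1 else if (a : ℕ) + 1 = b ∨ (b : ℕ) + 1 = a then 3 else 2) = 3
    rw [if_neg (by omega), if_pos (Or.inl hab)]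
  have e2 : ∀ a b : Fin m, (a : ℕ) + 1 < b → Cfsg.Agent.LieRecognition.BNCox.cA m a b = 2 := by
    intro a b hab
    rw [Cfsg.Agent.LieRecognition.BNCox.cA_apply]
    show (if (a : ℕ) = b then 1 else if (a : ℕ) + 1 = b ∨ (b : ℕ) + 1 = a then 3 else 2) = 2
    rw [if_neg (by omega), if_neg (by omega)]
  rcases hi with hi | hi
  · have hP : APath A Set.univ (nd hm) m := by
      refine ⟨fun _ _ => Set.mem_univ _, fun t ht => cart3 h (e3 _ _ ?_), fun s t h1 h2 => cart2 h (e2 _ _ ?_),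
        fun j _ hc => ?_, fun s hs t ht e => ?_⟩
      · rw [nd_val hm (by omega), nd_val hm ht]
      · rw [nd_val hm (by omega), nd_val hm h2]
        exact h1
      · exact (hc j j.2 (Fin.ext (nd_val hm j.2))).elim
      · have e := congrArg Fin.val e
        rwa [nd_val hm hs, nd_val hm ht] at e
    have h1 := w3_apath h (cs := cs) hm hP
    have h2 : nd hm 0 = i := Fin.ext (by rw [nd_val hm hm, hi])
    rwa [h2] at h1
  · have hv : ∀ t < m, ((nd hm (m - 1 - t) : Fin m) : ℕ) = m - 1 - t := fun t ht => nd_val hm (by omega)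
    have hP : APath A Set.univ (fun t => nd hm (m - 1 - t)) m := by
      refine ⟨fun _ _ => Set.mem_univ _, fun t ht => ?_, fun s t h1 h2 => ?_, fun j _ hc => ?_, fun s hs t ht e => ?_⟩
      · have := cart3 h (e3 (nd hm (m - 1 - (t + 1))) (nd hm (m - 1 - t)) (by rw [hv _ ht, hv _ (by omega)]; omega))
        exact ⟨this.2, this.1⟩
      · have := cart2 h (e2 (nd hm (m - 1 - t)) (nd hm (m - 1 - s)) (by rw [hv _ h2, hv _ (by omega)]; omega))
        exact ⟨this.2, this.1⟩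
      · have hj := j.2
        exact (hc (m - 1 - j) (by omega) (Fin.ext (by rw [hv _ (by omega)]; omega))).elim
      · have e := congrArg Fin.val e
        simp only [hv s hs, hv t ht] at e
        omega
    have h1 := w3_apath h (cs := cs) hm hP
    have h2 : nd hm (m - 1 - 0) = i := Fin.ext (by rw [hv 0 hm]; omega)
    rwa [h2] at h1


theorem w3_B {m : ℕ} {W : Type*} [Group W] [Finite W] {A : Fin m → Fin m → ℤ}
    {cs : CoxeterSystem (CoxeterMatrix.B m) W} (h : IsCartan (CoxeterMatrix.B m) A) (hm : 2 ≤ m) {i : Fin m}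
    (hi : (i : ℕ) = 0) : W3 cs i := by
  have hP := bpath_tail h (by omega : 0 < m) (le_refl m) (J := Set.univ) (fun j => by simp)
  have h1 := w3_bpath h (cs := cs) hm hP
  have h2 : nd (by omega : 0 < m) (m - m + 0) = i := Fin.ext (by rw [nd_val _ (by omega)]; omega)
  rwa [h2] at h1


theorem w3_D {k : ℕ} {W : Type*} [Group W] [Finite W] {A : Fin (k + 2) → Fin (k + 2) → ℤ}
    {cs : CoxeterSystem (Cfsg.Agent.Nodes.TypeD.M k) W} (h : IsCartan (Cfsg.Agent.Nodes.TypeD.M k) A) (hk : 1 ≤ k)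
    {i : Fin (k + 2)} (hi : (i : ℕ) = 0) : W3 cs i := by
  have adj : ∀ a b : Fin (k + 2), ((b : ℕ) < k + 1 ∧ (a : ℕ) + 1 = b ∨ (b : ℕ) = k + 1 ∧ (a : ℕ) + 2 = b) →
      A a b = -1 ∧ A b a = -1 := fun a b hab => cartD_adj h hab
  have far : ∀ a b : Fin (k + 2), a ≠ b → ¬ ((b : ℕ) < k + 1 ∧ (a : ℕ) + 1 = b ∨ (b : ℕ) = k + 1 ∧ (a : ℕ) + 2 = b) →
      ¬ ((a : ℕ) < k + 1 ∧ (b : ℕ) + 1 = a ∨ (a : ℕ) = k + 1 ∧ (b : ℕ) + 2 = a) → A a b = 0 ∧ A b a = 0 :=
    fun a b h1 h2 h3 => cartD_far h h1 h2 h3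
  have hm : 0 < k + 2 := by omega
  have hne : ∀ s t : ℕ, s < t → t < k + 2 → nd hm s ≠ nd hm t := by
    intro s t hs ht e
    have e := congrArg Fin.val e
    rw [nd_val hm (by omega), nd_val hm ht] at e
    omega
  obtain ⟨l, rfl⟩ : ∃ l, k = l + 1 := ⟨k - 1, by omega⟩
  have hP : DPath A Set.univ (nd hm) l := by
    refine ⟨fun _ _ => Set.mem_univ _, fun t ht => adj _ _ ?_, adj _ _ ?_, fun s t h1 h2 => far _ _ ?_ ?_ ?_,
      fun s hs => far _ _ ?_ ?_ ?_, far _ _ ?_ ?_ ?_, fun j _ hc => ?_, fun s hs t ht e => ?_⟩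
    · rw [nd_val hm (by omega), nd_val hm (by omega)]; omega
    · rw [nd_val hm (by omega), nd_val hm (by omega)]; omega
    · exact hne _ _ (by omega) (by omega)
    · rw [nd_val hm (by omega), nd_val hm (by omega)]; omega
    · rw [nd_val hm (by omega), nd_val hm (by omega)]; omega
    · exact hne _ _ (by omega) (by omega)
    · rw [nd_val hm (by omega), nd_val hm (by omega)]; omega
    · rw [nd_val hm (by omega), nd_val hm (by omega)]; omega
    · exact hne _ _ (by omega) (by omega)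
    · rw [nd_val hm (by omega), nd_val hm (by omega)]; omega
    · rw [nd_val hm (by omega), nd_val hm (by omega)]; omega
    · exact (hc j j.2 (Fin.ext (nd_val hm j.2))).elim
    · have e := congrArg Fin.val e
      rwa [nd_val hm hs, nd_val hm ht] at e
  have h1 := w3_dpath h (cs := cs) hP
  have h2 : nd hm 0 = i := Fin.ext (by rw [nd_val hm hm, hi])
  rwa [h2] at h1


end Cfsg.Agent.H284.TThree
end

-- part: H869/EPO/LG
section
/-!
# S5745 / S3499, OWN characteristic, `q = 2`: local geometry (helper869)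

`Loc G a perp L b` : the neighbours of the vertex `a` are labelled by the points of a space `P` of order two
(lines `L x y z` have three points) with the "one or all" axiom, planes `{a, b x, b y, b z}` are flipped by `G`.

* `Loc.diam` : the orbital graph has diameter at most two;
* `Loc.card_le` : at most `n (n + 1)` vertices, `n` the number of points.
-/

set_option autoImplicit false
set_option linter.unusedSectionVars false

namespace Cfsg.Agent.H869.EPO

open Cfsg.Agent.H284 MulAction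

section Loc

variable (G : Type*) [Group G] {Ω : Type*} [MulAction G Ω] (a : Ω) {P : Type*} (perp : P → P → Prop)
  (L : P → P → P → Prop) (b : P → Ω)

/-- the orbital graph -/
def Adj (x y : Ω) : Prop := ∃ (g : G) (p : P), g • a = x ∧ g • b p = y

/-- local data -/
structure Loc : Prop where
  inj : Function.Injective b
  ne : ∀ x, b x ≠ a
  stab : ∀ g : G, g • a = a → ∀ x, ∃ y, g • b x = b y
  sym : ∀ x, ∃ (g : G) (y : P), g • a = b x ∧ g • b y = a
  refl : ∀ x, perp x x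
  perp_symm : ∀ x y, perp x y → perp y x
  line : ∀ x y, x ≠ y → perp x y → ∃ z, L x y z
  flip : ∀ x y z, L x y z → ∃ g : G, g • a = b x ∧ g • b x = a ∧ g • b y = b z ∧ g • b z = b y
  oa : ∀ x y z u, L x y z → ¬ perp u x → (perp u y ∧ ¬ perp u z) ∨ (¬ perp u y ∧ perp u z)

end Loc

namespace Loc

variable {G : Type*} [Group G] {Ω : Type*} [MulAction G Ω] {a : Ω} {P : Type*} {perp : P → P → Prop}
  {L : P → P → P → Prop} {b : P → Ω}

local notation "A" => Adj G a b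

theorem adj_smul {x y : Ω} (g : G) (h : A x y) : A (g • x) (g • y) := by
  obtain ⟨k, p, rfl, rfl⟩ := h
  exact ⟨g * k, p, mul_smul _ _ _, mul_smul _ _ _⟩

theorem adj_smul_iff {x y : Ω} (g : G) : A (g • x) (g • y) ↔ A x y := by
  refine ⟨fun h => ?_, adj_smul g⟩
  have := adj_smul g⁻¹ h
  rwa [inv_smul_smul, inv_smul_smul] at this

variable (l : Loc G a perp L b)

include l

theorem adj_a {y : Ω} : A a y ↔ ∃ x, y = b x := by
  constructor
  · rintro ⟨g, p, h1, rfl⟩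
    exact l.stab g h1 p
  · rintro ⟨x, rfl⟩
    exact ⟨1, x, one_smul _ _, one_smul _ _⟩

theorem adj_b (x : P) : A a (b x) := l.adj_a.2 ⟨x, rfl⟩

theorem symm {x y : Ω} (h : A x y) : A y x := by
  obtain ⟨k, p, rfl, rfl⟩ := h
  rw [adj_smul_iff]
  obtain ⟨g, y, h1, h2⟩ := l.sym p
  exact ⟨g, y, h1, h2⟩

theorem ne_of_adj {x y : Ω} (h : A x y) : x ≠ y := by
  obtain ⟨k, p, rfl, rfl⟩ := h
  exact fun e => l.ne p (smul_left_cancel k e).symm

/-- collinear points are adjacent -/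
theorem adj_of_perp {x y : P} (hxy : x ≠ y) (h : perp x y) : A (b x) (b y) := by
  obtain ⟨z, hz⟩ := l.line x y hxy h
  obtain ⟨g, h1, h2, h3, h4⟩ := l.flip x y z hz
  rw [← h1, ← h4, adj_smul_iff]
  exact l.adj_b z

/-- planes -/
theorem five (hadj : ∀ x y, x ≠ y → A (b x) (b y) → perp x y) {x y z : P} (hL : L x y z) {c : Ω} (hc : c ≠ a)
    (hac : ¬ A a c) (hxc : A (b x) c) : (A c (b y) ∧ ¬ A c (b z)) ∨ (¬ A c (b y) ∧ A c (b z)) := by
  obtain ⟨g, h1, h2, h3, h4⟩ := l.flip x y z hL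
  -- `c = g • b u`
  rw [← h1] at hxc
  obtain ⟨u, hu⟩ : ∃ u, c = g • b u := by
    have h5 := adj_smul g⁻¹ hxc
    rw [inv_smul_smul] at h5
    obtain ⟨u, hu⟩ := l.adj_a.1 h5
    exact ⟨u, by rw [← hu, smul_inv_smul]⟩
  have hux : u ≠ x := by
    rintro rfl
    exact hc (hu.trans h2)
  have h6 : ¬ perp u x := by
    intro h7
    apply hac
    have h8 : A (g • b x) (g • b u) := adj_smul g (l.symm (l.adj_of_perp hux h7))
    rwa [h2, ← hu] at h8
  have key : ∀ v, u ≠ v → (A c (g • b v) ↔ perp u v) := by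
    intro v huv
    rw [hu, adj_smul_iff]
    exact ⟨hadj u v huv, l.adj_of_perp huv⟩
  have hself : ∀ v, u = v → ¬ A c (g • b v) := by
    rintro v rfl h7
    rw [hu] at h7
    exact l.ne_of_adj h7 rfl
  -- `u` is not on the line
  obtain ⟨g', h1', h2', h3', h4'⟩ := l.flip x y z hL
  have hxy : A (b x) (b y) := by
    rw [← h1, ← h4, adj_smul_iff]
    exact l.adj_b z
  have hxz : A (b x) (b z) := by
    rw [← h1, ← h3, adj_smul_iff]
    exact l.adj_b y
  have huy : u ≠ y := by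
    rintro rfl
    apply h6
    exact l.perp_symm _ _ (hadj _ _ (Ne.symm hux) hxy)
  have huz : u ≠ z := by
    rintro rfl
    apply h6
    exact l.perp_symm _ _ (hadj _ _ (Ne.symm hux) hxz)
  have h7 := key y huy
  have h8 := key z huz
  rw [h3] at h7
  rw [h4] at h8
  rw [h7, h8]
  rcases l.oa x y z u hL h6 with h9 | h9
  · exact Or.inr ⟨h9.2, h9.1⟩
  · exact Or.inl ⟨h9.2, h9.1⟩

/-- no vertex at distance three -/
theorem no_far (hadj : ∀ x y, x ≠ y → A (b x) (b y) → perp x y)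
    (conn : ∀ (e : P) (S : Set P), S.Nonempty → (∀ x ∈ S, ¬ perp e x) →
      (∀ x ∈ S, ∀ z, ¬ perp e z → perp x z → z ∈ S) → ∀ z, ¬ perp e z → z ∈ S)
    (oinj : ∀ e e' : P, (∃ x, ¬ perp e x) → (∀ x, perp e x ↔ perp e' x) → e = e')
    (hep : ∀ (c : Ω) (e : P), c ≠ a → (∀ g : G, g • a = a → g • c = c → g • b e = b e) → c = b e)
    {c : Ω} (hc : c ≠ a) (hac : ¬ A a c) {e x₀ : P} (h0 : A c (b x₀)) (h1 : ¬ A c (b e))
    (h2 : ∀ w, A c w → ¬ A (b e) w) : False := by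
  let S : Set P := {x | A c (b x)}
  have hS1 : ∀ x ∈ S, ¬ perp e x := by
    intro x hx h3
    have hne : e ≠ x := by
      rintro rfl
      exact h1 hx
    exact h2 _ hx (l.adj_of_perp hne h3)
  have hS2 : ∀ x ∈ S, ∀ z, ¬ perp e z → perp x z → z ∈ S := by
    intro x hx z hz hxz
    by_cases hne : x = z
    · rwa [← hne]
    obtain ⟨z', hz'⟩ := l.line x z hne hxz
    have h3 : perp e z' := by
      rcases l.oa x z z' e hz' (hS1 x hx) with h4 | h4
      · exact absurd h4.1 hz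
      · exact h4.2
    have h4 : ¬ A c (b z') := by
      intro h5
      exact hS1 z' h5 h3
    rcases l.five hadj hz' hc hac (l.symm hx) with h5 | h5
    · exact h5.1
    · exact absurd h5.2 h4
  have hS3 := conn e S ⟨x₀, h0⟩ hS1 hS2
  have hS : ∀ x, A c (b x) ↔ ¬ perp e x := fun x => ⟨hS1 x, hS3 x⟩
  have h5 : c = b e := by
    apply hep c e hc
    intro g hga hgc
    obtain ⟨e', he'⟩ := l.stab g hga e
    have hpe : ∀ x x', g • b x = b x' → (perp e x ↔ perp e' x') := by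
      intro x x' hx
      by_cases hne : e = x
      · subst hne
        have : e' = x' := l.inj (he'.symm.trans hx)
        subst this
        exact ⟨fun _ => l.refl _, fun _ => l.refl _⟩
      · have hne' : e' ≠ x' := by
          rintro rfl
          exact hne (l.inj (smul_left_cancel g (he'.trans hx.symm)))
        have h6 : A (b e) (b x) ↔ A (b e') (b x') := by rw [← he', ← hx, adj_smul_iff]
        constructor
        · intro h7
          exact hadj _ _ hne' (h6.1 (l.adj_of_perp hne h7))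
        · intro h7
          exact hadj _ _ hne (h6.2 (l.adj_of_perp hne' h7))
    have hall : ∀ x', ∃ x, g • b x = b x' := by
      intro x'
      have hga' : g⁻¹ • a = a := by rw [inv_smul_eq_iff, hga]
      obtain ⟨x, hx⟩ := l.stab g⁻¹ hga' x'
      exact ⟨x, by rw [← hx, smul_inv_smul]⟩
    have h6 : e = e' := by
      apply oinj e e' ⟨x₀, hS1 x₀ h0⟩
      intro x'
      obtain ⟨x, hx⟩ := hall x'
      have h7 := hS x
      have h8 := hS x'
      have h9 : A c (b x) ↔ A c (b x') := by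
        rw [← hx]
        conv_rhs => rw [← hgc]
        exact (adj_smul_iff g).symm
      have h10 := hpe x x' hx
      (clear * - h7 h8 h9 h10; tauto)
    rw [he', h6]
  exact hac (h5 ▸ l.adj_b e)

/-- the orbital graph has diameter at most two -/
theorem diam (hmax : ∀ K : Subgroup G, (∀ g : G, g • a = a → g ∈ K) → (∃ g ∈ K, g • a ≠ a) → K = ⊤)
    [IsPretransitive G Ω] [Nonempty P] (hadj : ∀ x y, x ≠ y → A (b x) (b y) → perp x y)
    (conn : ∀ (e : P) (S : Set P), S.Nonempty → (∀ x ∈ S, ¬ perp e x) →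
      (∀ x ∈ S, ∀ z, ¬ perp e z → perp x z → z ∈ S) → ∀ z, ¬ perp e z → z ∈ S)
    (oinj : ∀ e e' : P, (∃ x, ¬ perp e x) → (∀ x, perp e x ↔ perp e' x) → e = e')
    (hep : ∀ (c : Ω) (e : P), c ≠ a → (∀ g : G, g • a = a → g • c = c → g • b e = b e) → c = b e) (z : Ω) :
    z = a ∨ A a z ∨ ∃ y, A a y ∧ A y z := by
  let S : Set Ω := {z | z = a ∨ A a z ∨ ∃ y, A a y ∧ A y z}
  have hclosed : ∀ x ∈ S, ∀ y, A x y → y ∈ S := by
    intro x hx y hxy
    by_cases hxa : x = a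
    · exact Or.inr (Or.inl (hxa ▸ hxy))
    by_cases hax : A a x
    · exact Or.inr (Or.inr ⟨x, hax, hxy⟩)
    rcases hx with hx | hx | ⟨w, hw1, hw2⟩
    · exact absurd hx hxa
    · exact absurd hx hax
    by_contra hy
    have hya : y ≠ a := fun e => hy (Or.inl e)
    have hay : ¬ A a y := fun e => hy (Or.inr (Or.inl e))
    have hayw : ∀ w, A a w → ¬ A y w := fun w h1 h2 => hy (Or.inr (Or.inr ⟨w, h1, l.symm h2⟩))
    obtain ⟨g, e, hg1, hg2⟩ := hxy
    have t1 : ∀ u v, A (g⁻¹ • u) (g⁻¹ • v) ↔ A u v := fun u v => adj_smul_iff g⁻¹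
    have e1 : g⁻¹ • x = a := by rw [← hg1, inv_smul_smul]
    have e2 : g⁻¹ • y = b e := by rw [← hg2, inv_smul_smul]
    -- `w = g • b x₀`
    obtain ⟨x₀, hx₀⟩ : ∃ x₀, g⁻¹ • w = b x₀ := by
      have := (t1 x w).2 (l.symm hw2)
      rw [e1] at this
      exact l.adj_a.1 this
    refine l.no_far hadj conn oinj hep (c := g⁻¹ • a) (e := e) (x₀ := x₀) ?_ ?_ ?_ ?_ ?_
    · intro h3
      exact hxa (smul_left_cancel g⁻¹ (e1.trans h3.symm))
    · intro h3
      have h4 : A (g⁻¹ • x) (g⁻¹ • a) := by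
        rw [e1]
        exact h3
      exact hax (l.symm ((t1 _ _).1 h4))
    · rw [← hx₀, t1]
      exact hw1
    · rw [← e2, t1]
      exact hay
    · intro v hv1 hv2
      apply hayw (g • v)
      · have := adj_smul g hv1
        rwa [smul_inv_smul] at this
      · have := adj_smul g hv2
        rwa [← e2, smul_inv_smul] at this
  -- everything in `S` is connected to `a`
  have hstep : ∀ g : G, g • a ∈ S → ∀ x ∈ S, g • x ∈ S := by
    intro g hg x hx
    rcases hx with rfl | hx | ⟨y, h1, h2⟩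
    · exact hg
    · exact hclosed _ hg _ (adj_smul g hx)
    · exact hclosed _ (hclosed _ hg _ (adj_smul g h1)) _ (adj_smul g h2)
  have hstab : ∀ g : G, g • a ∈ S → g⁻¹ • a ∈ S := by
    intro g hg
    rcases hg with hg | hg | ⟨y, h1, h2⟩
    · left
      rw [inv_smul_eq_iff, hg]
    · right; left
      have := adj_smul g⁻¹ (l.symm hg)
      rwa [inv_smul_smul] at this
    · right; right
      refine ⟨g⁻¹ • y, ?_, adj_smul g⁻¹ (l.symm h1)⟩
      have := adj_smul g⁻¹ (l.symm h2)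
      rwa [inv_smul_smul] at this
  let K : Subgroup G :=
    { carrier := {g | g • a ∈ S}
      one_mem' := by
        show (1 : G) • a ∈ S
        rw [one_smul]
        exact Or.inl rfl
      mul_mem' := by
        intro g k hg hk
        show (g * k) • a ∈ S
        rw [mul_smul]
        exact hstep g hg _ hk
      inv_mem' := by
        intro g hg
        exact hstab g hg }
  have hK : K = ⊤ := by
    apply hmax K
    · intro g hg
      show g • a ∈ S
      rw [hg]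
      exact Or.inl rfl
    · obtain ⟨p⟩ := ‹Nonempty P›
      obtain ⟨g, y, h1, h2⟩ := l.sym p
      refine ⟨g, ?_, ?_⟩
      · show g • a ∈ S
        rw [h1]
        exact Or.inr (Or.inl (l.adj_b p))
      · rw [h1]
        exact l.ne p
  obtain ⟨g, rfl⟩ := IsPretransitive.exists_smul_eq (M := G) a z
  have : g ∈ K := by
    rw [hK]
    exact Subgroup.mem_top g
  exact this

/-- `A` complete on the neighbours: one more vertex only -/
theorem complete [Finite P] (hmax : ∀ K : Subgroup G, (∀ g : G, g • a = a → g ∈ K) → (∃ g ∈ K, g • a ≠ a) → K = ⊤)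
    [IsPretransitive G Ω] [Nonempty P] (hadj : ∀ x y, x ≠ y → A (b x) (b y)) (z : Ω) : z = a ∨ A a z := by
  let S : Set Ω := {z | z = a ∨ A a z}
  -- the neighbours of `b p`
  have hnb : ∀ p y, A (b p) y → y ∈ S := by
    intro p y hy
    obtain ⟨g, y₀, h1, h2⟩ := l.sym p
    obtain ⟨u, hu⟩ : ∃ u, g⁻¹ • y = b u := by
      have h3 := adj_smul g⁻¹ hy
      rw [← h1, inv_smul_smul] at h3
      exact l.adj_a.1 h3
    -- the map `x ↦ g⁻¹ • b x`, `p ↦ g⁻¹ • a`
    classical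
    have hf : ∀ x : P, ∃ u : P, g⁻¹ • (if x = p then a else b x) = b u := by
      intro x
      split_ifs with hx
      · have h3 := adj_smul g⁻¹ (l.symm (l.adj_b p))
        rw [← h1, inv_smul_smul] at h3
        exact l.adj_a.1 h3
      · have h3 := adj_smul g⁻¹ (hadj p x (Ne.symm hx))
        rw [← h1, inv_smul_smul] at h3
        exact l.adj_a.1 h3
    choose f hf using hf
    have hinj : Function.Injective f := by
      intro x x' hxx
      have h3 : (if x = p then a else b x) = (if x' = p then a else b x') := by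
        apply smul_left_cancel g⁻¹
        rw [hf, hf, hxx]
      split_ifs at h3 with h4 h5 h5
      · rw [h4, h5]
      · exact absurd h3.symm (l.ne x')
      · exact absurd h3 (l.ne x)
      · exact l.inj h3
    obtain ⟨x, hx⟩ := (Finite.injective_iff_surjective.1 hinj) u
    have h3 := hf x
    rw [hx, ← hu] at h3
    have h4 := smul_left_cancel g⁻¹ h3
    rw [← h4]
    split_ifs
    · exact Or.inl rfl
    · exact Or.inr (l.adj_b x)
  have hclosed : ∀ x ∈ S, ∀ y, A x y → y ∈ S := by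
    rintro x (rfl | hx) y hxy
    · exact Or.inr hxy
    · obtain ⟨p, rfl⟩ := l.adj_a.1 hx
      exact hnb p y hxy
  have hstep : ∀ g : G, g • a ∈ S → ∀ x ∈ S, g • x ∈ S := by
    intro g hg x hx
    rcases hx with rfl | hx
    · exact hg
    · exact hclosed _ hg _ (adj_smul g hx)
  have hstab : ∀ g : G, g • a ∈ S → g⁻¹ • a ∈ S := by
    intro g hg
    rcases hg with hg | hg
    · left
      rw [inv_smul_eq_iff, hg]
    · right
      have := adj_smul g⁻¹ (l.symm hg)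
      rwa [inv_smul_smul] at this
  let K : Subgroup G :=
    { carrier := {g | g • a ∈ S}
      one_mem' := by
        show (1 : G) • a ∈ S
        rw [one_smul]
        exact Or.inl rfl
      mul_mem' := by
        intro g k hg hk
        show (g * k) • a ∈ S
        rw [mul_smul]
        exact hstep g hg _ hk
      inv_mem' := by
        intro g hg
        exact hstab g hg }
  have hK : K = ⊤ := by
    apply hmax K
    · intro g hg
      show g • a ∈ S
      rw [hg]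
      exact Or.inl rfl
    · obtain ⟨p⟩ := ‹Nonempty P›
      obtain ⟨g, y, h1, h2⟩ := l.sym p
      refine ⟨g, ?_, ?_⟩
      · show g • a ∈ S
        rw [h1]
        exact Or.inr (l.adj_b p)
      · rw [h1]
        exact l.ne p
  obtain ⟨g, rfl⟩ := IsPretransitive.exists_smul_eq (M := G) a z
  have : g ∈ K := by
    rw [hK]
    exact Subgroup.mem_top g
  exact this

theorem card_complete [Finite P]
    (hmax : ∀ K : Subgroup G, (∀ g : G, g • a = a → g ∈ K) → (∃ g ∈ K, g • a ≠ a) → K = ⊤)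
    [IsPretransitive G Ω] [Nonempty P] (hadj : ∀ x y, x ≠ y → A (b x) (b y)) : Nat.card Ω = Nat.card P + 1 := by
  have h1 := l.complete hmax hadj
  let f : Option P → Ω := fun o => o.elim a b
  have hf : Function.Bijective f := by
    constructor
    · rintro (_ | x) (_ | y) hxy
      · rfl
      · exact absurd hxy.symm (l.ne y)
      · exact absurd hxy (l.ne x)
      · exact congrArg some (l.inj hxy)
    · intro z
      rcases h1 z with rfl | h2
      · exact ⟨none, rfl⟩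
      · obtain ⟨x, rfl⟩ := l.adj_a.1 h2
        exact ⟨some x, rfl⟩
  rw [← Nat.card_congr (Equiv.ofBijective f hf), Finite.card_option]

theorem card_le [Finite P] (hmax : ∀ K : Subgroup G, (∀ g : G, g • a = a → g ∈ K) → (∃ g ∈ K, g • a ≠ a) → K = ⊤)
    [IsPretransitive G Ω] [Nonempty P]
    (dich : (∀ x y, x ≠ y → A (b x) (b y)) ∨ (∀ x y, x ≠ y → A (b x) (b y) → perp x y))
    (conn : ∀ (e : P) (S : Set P), S.Nonempty → (∀ x ∈ S, ¬ perp e x) →
      (∀ x ∈ S, ∀ z, ¬ perp e z → perp x z → z ∈ S) → ∀ z, ¬ perp e z → z ∈ S)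
    (oinj : ∀ e e' : P, (∃ x, ¬ perp e x) → (∀ x, perp e x ↔ perp e' x) → e = e')
    (hep : ∀ (c : Ω) (e : P), c ≠ a → (∀ g : G, g • a = a → g • c = c → g • b e = b e) → c = b e) :
    Nat.card Ω ≤ Nat.card P * (Nat.card P + 1) := by
  have hpos : 0 < Nat.card P := Nat.card_pos
  rcases dich with hadj | hadj
  · rw [l.card_complete hmax hadj]
    nlinarith
  have h1 := l.diam hmax hadj conn oinj hep
  choose γ σ hγ hσ using l.sym
  let f : P × Option P → Ω := fun q => q.2.elim (b q.1) (fun x => γ q.1 • b x)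
  have hnb : ∀ x y, A (b x) y → ∃ q, f q = y := by
    intro x y hy
    have h2 := adj_smul (γ x)⁻¹ hy
    rw [← hγ x, inv_smul_smul] at h2
    obtain ⟨u, hu⟩ := l.adj_a.1 h2
    exact ⟨(x, some u), by
      show γ x • b u = y
      rw [← hu, smul_inv_smul]⟩
  have hf : Function.Surjective f := by
    intro z
    rcases h1 z with rfl | h2 | ⟨y, h2, h3⟩
    · obtain ⟨p⟩ := ‹Nonempty P›
      exact hnb p z (l.symm (l.adj_b p))
    · obtain ⟨x, rfl⟩ := l.adj_a.1 h2
      exact ⟨(x, none), rfl⟩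
    · obtain ⟨x, rfl⟩ := l.adj_a.1 h2
      exact hnb x z h3
  have h2 := Nat.card_le_card_of_surjective f hf
  rwa [Nat.card_prod, Finite.card_option] at h2

end Loc

/-! ## The group form -/

section TGeo

variable {G : Type*} [Group G]

/-- The points of `P` are the `T`-conjugates of the point stabiliser `T ∩ H^t`, the lines come from the panel
relations `t s t ∈ s' t H`. -/
structure TGeo (H T : Subgroup G) (t : G) {P : Type*} (ρ : T →* Equiv.Perm P) (p₀ : P) (perp : P → P → Prop)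
    (L : P → P → P → Prop) : Prop where
  ep : EP H
  TH : T ≤ H
  tH : t ∉ H
  tt : t * t ∈ H
  line2 : ∀ x, H ⊓ cj t H ≤ cj x H → x ∈ H ∨ t⁻¹ * x ∈ H
  fac : ∀ h ∈ H, ∃ g ∈ T, g⁻¹ * h ∈ cj t H
  trans : ∀ x : P, ∃ g : T, ρ g p₀ = x
  stab : ∀ g : T, ρ g p₀ = p₀ ↔ (g : G) ∈ cj t H
  refl : ∀ x, perp x x
  perp_symm : ∀ x y, perp x y → perp y x
  inv : ∀ (g : T) x y, perp x y → perp (ρ g x) (ρ g y)
  line : ∀ x y, x ≠ y → perp x y → ∃ z, L x y z
  oa : ∀ x y z u, L x y z → ¬ perp u x → (perp u y ∧ ¬ perp u z) ∨ (¬ perp u y ∧ perp u z)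
  pan : ∀ x y z, L x y z → ∃ g s s' : T, x = ρ g p₀ ∧ y = ρ (g * s) p₀ ∧ z = ρ (g * s') p₀ ∧
    ((s' : G) * t)⁻¹ * (t * s * t) ∈ H ∧ ((s : G) * t)⁻¹ * (t * s' * t) ∈ H
  opp : ∀ x y, ¬ perp p₀ x → ¬ perp p₀ y → ∃ g : T, ρ g p₀ = p₀ ∧ ρ g x = y

namespace TGeo

variable {H T : Subgroup G} {t : G} {P : Type*} {ρ : T →* Equiv.Perm P} {p₀ : P} {perp : P → P → Prop}
    {L : P → P → P → Prop} (h : TGeo H T t ρ p₀ perp L)

include h

/-- the vertices -/
noncomputable def b (x : P) : G ⧸ H := (((h.trans x).choose : G) * t : G)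

theorem b_eq (g : T) : h.b (ρ g p₀) = (((g : G) * t : G) : G ⧸ H) := by
  have h1 := (h.trans (ρ g p₀)).choose_spec
  have h2 : (((h.trans (ρ g p₀)).choose⁻¹ * g : T) : G) ∈ cj t H := by
    rw [← h.stab, map_mul, Equiv.Perm.mul_apply, map_inv, Equiv.Perm.inv_eq_iff_eq]
    exact h1.symm
  apply QuotientGroup.eq.2
  rw [mem_cj] at h2
  have e : ((((h.trans (ρ g p₀)).choose : T) : G) * t)⁻¹ * ((g : G) * t) =
    t⁻¹ * (((h.trans (ρ g p₀)).choose⁻¹ * g : T) : G) * t := by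
    push_cast
    group
  rw [e]
  exact h2

theorem smul_b (g : T) (x : P) : (g : G) • h.b x = h.b (ρ g x) := by
  obtain ⟨k, rfl⟩ := h.trans x
  rw [h.b_eq, ← Equiv.Perm.mul_apply, ← map_mul, h.b_eq]
  show (((g : G) * ((k : G) * t) : G) : G ⧸ H) = _
  congr 1
  push_cast
  group

omit h in
theorem smul_one_eq {g : G} : g • ((1 : G) : G ⧸ H) = ((1 : G) : G ⧸ H) ↔ g ∈ H := by
  show ((g * 1 : G) : G ⧸ H) = _ ↔ _
  rw [mul_one, QuotientGroup.eq, mul_one, inv_mem_iff]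

omit h in
theorem smul_eq_iff {g x : G} : g • ((x : G) : G ⧸ H) = ((x : G) : G ⧸ H) ↔ g ∈ cj x H := by
  show ((g * x : G) : G ⧸ H) = _ ↔ _
  rw [eq_comm, QuotientGroup.eq, mem_cj, mul_assoc]

theorem loc : Loc G ((1 : G) : G ⧸ H) perp L h.b where
  inj := by
    intro x y hxy
    obtain ⟨g, rfl⟩ := h.trans x
    obtain ⟨k, rfl⟩ := h.trans y
    rw [h.b_eq, h.b_eq] at hxy
    have h1 := QuotientGroup.eq.1 hxy
    have h2 : ((g⁻¹ * k : T) : G) ∈ cj t H := by
      rw [mem_cj]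
      have e : t⁻¹ * ((g⁻¹ * k : T) : G) * t = ((g : G) * t)⁻¹ * ((k : G) * t) := by
        push_cast
        group
      rw [e]
      exact h1
    rw [← h.stab, map_mul, Equiv.Perm.mul_apply, map_inv, Equiv.Perm.inv_eq_iff_eq] at h2
    exact h2.symm
  ne := by
    intro x hx
    obtain ⟨g, rfl⟩ := h.trans x
    rw [h.b_eq] at hx
    have h1 := QuotientGroup.eq.1 hx.symm
    rw [inv_one, one_mul] at h1
    exact h.tH ((H.mul_mem_cancel_left (h.TH g.2)).1 h1)
  stab := by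
    intro g hg x
    obtain ⟨k, rfl⟩ := h.trans x
    have h1 : g * k ∈ H := H.mul_mem (smul_one_eq.1 hg) (h.TH k.2)
    obtain ⟨g', hg', h2⟩ := h.fac _ h1
    refine ⟨ρ ⟨g', hg'⟩ p₀, ?_⟩
    rw [h.b_eq, h.b_eq]
    show ((g * ((k : G) * t) : G) : G ⧸ H) = _
    rw [eq_comm, QuotientGroup.eq]
    rw [mem_cj] at h2
    have e : (g' * t)⁻¹ * (g * ((k : G) * t)) = t⁻¹ * (g'⁻¹ * (g * k)) * t := by group
    show (g' * t)⁻¹ * (g * ((k : G) * t)) ∈ H
    rw [e]
    exact h2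
  sym := by
    intro x
    obtain ⟨g, rfl⟩ := h.trans x
    refine ⟨g * t, p₀, ?_, ?_⟩
    · rw [h.b_eq]
      show (((g : G) * t * 1 : G) : G ⧸ H) = _
      rw [mul_one]
    · have h1 := h.b_eq 1
      rw [map_one, Equiv.Perm.one_apply] at h1
      rw [h1]
      show (((g : G) * t * (((1 : T) : G) * t) : G) : G ⧸ H) = _
      rw [eq_comm, QuotientGroup.eq, inv_one, one_mul]
      have e : (g : G) * t * (((1 : T) : G) * t) = g * (t * t) := by
        push_cast
        group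
      rw [e]
      exact H.mul_mem (h.TH g.2) h.tt
  refl := h.refl
  perp_symm := h.perp_symm
  line := h.line
  flip := by
    intro x y z hL
    obtain ⟨g, s, s', rfl, rfl, rfl, h1, h2⟩ := h.pan x y z hL
    refine ⟨g * t * (g : G)⁻¹, ?_, ?_, ?_, ?_⟩
    · rw [h.b_eq]
      show (((g : G) * t * (g : G)⁻¹ * 1 : G) : G ⧸ H) = _
      rw [eq_comm, QuotientGroup.eq]
      have e : ((g : G) * t)⁻¹ * ((g : G) * t * (g : G)⁻¹ * 1) = (g : G)⁻¹ := by group
      rw [e]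
      exact H.inv_mem (h.TH g.2)
    · rw [h.b_eq]
      show (((g : G) * t * (g : G)⁻¹ * (g * t) : G) : G ⧸ H) = _
      rw [eq_comm, QuotientGroup.eq]
      have e : (1 : G)⁻¹ * ((g : G) * t * (g : G)⁻¹ * (g * t)) = (g : G) * (t * t) := by group
      rw [e]
      exact H.mul_mem (h.TH g.2) h.tt
    · rw [h.b_eq, h.b_eq]
      show (((g : G) * t * (g : G)⁻¹ * (((g * s : T) : G) * t) : G) : G ⧸ H) = _
      rw [eq_comm, QuotientGroup.eq]
      have e : (((g * s' : T) : G) * t)⁻¹ * ((g : G) * t * (g : G)⁻¹ * (((g * s : T) : G) * t)) =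
          ((s' : G) * t)⁻¹ * (t * s * t) := by
        push_cast
        group
      rw [e]
      exact h1
    · rw [h.b_eq, h.b_eq]
      show (((g : G) * t * (g : G)⁻¹ * (((g * s' : T) : G) * t) : G) : G ⧸ H) = _
      rw [eq_comm, QuotientGroup.eq]
      have e : (((g * s : T) : G) * t)⁻¹ * ((g : G) * t * (g : G)⁻¹ * (((g * s' : T) : G) * t)) =
          ((s : G) * t)⁻¹ * (t * s' * t) := by
        push_cast
        group
      rw [e]
      exact h2
  oa := h.oa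

theorem hmax (K : Subgroup G) (h1 : ∀ g : G, g • ((1 : G) : G ⧸ H) = ((1 : G) : G ⧸ H) → g ∈ K)
    (h2 : ∃ g ∈ K, g • ((1 : G) : G ⧸ H) ≠ ((1 : G) : G ⧸ H)) : K = ⊤ := by
  apply h.ep.max.2
  refine lt_of_le_of_ne (fun g hg => h1 g (smul_one_eq.2 hg)) ?_
  rintro rfl
  obtain ⟨g, hg, h3⟩ := h2
  exact h3 (smul_one_eq.2 hg)

theorem hep [Finite G] (c : G ⧸ H) (e : P) (hc : c ≠ ((1 : G) : G ⧸ H))
    (hg : ∀ g : G, g • ((1 : G) : G ⧸ H) = ((1 : G) : G ⧸ H) → g • c = c → g • h.b e = h.b e) : c = h.b e := by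
  obtain ⟨y, rfl⟩ := QuotientGroup.mk_surjective c
  obtain ⟨k, rfl⟩ := h.trans e
  rw [h.b_eq] at hg ⊢
  have hy : y ∉ H := by
    intro hy
    apply hc
    rw [eq_comm, QuotientGroup.eq, inv_one, one_mul]
    exact hy
  have hkt : (k : G) * t ∉ H := fun e => h.tH ((H.mul_mem_cancel_left (h.TH k.2)).1 e)
  have h1 : H ⊓ cj y H ≤ cj ((k : G) * t) H := by
    rintro g ⟨h1, h2⟩
    exact smul_eq_iff.1 (hg g (smul_one_eq.2 h1) (smul_eq_iff.2 h2))
  have h2 : H ⊓ cj ((k : G) * t) H = H ⊓ cj y H := by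
    rcases h.ep.two y hy (H ⊓ cj ((k : G) * t) H) (le_inf inf_le_left h1) inf_le_left with h2 | h2
    · exact h2
    · exact absurd (inf_eq_left.1 h2) (h.ep.not_le_cj hkt)
  have h3 : H ⊓ cj t H ≤ cj ((k : G)⁻¹ * y) H := by
    have h4 : cj (k : G)⁻¹ (H ⊓ cj ((k : G) * t) H) ≤ cj (k : G)⁻¹ (cj y H) :=
      cj_mono (h2.le.trans inf_le_right)
    rwa [cj_inf, ← cj_mul, ← cj_mul, inv_mul_cancel_left, cj_eq_self (H.inv_mem (h.TH k.2))] at h4
  rcases h.line2 _ h3 with h4 | h4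
  · exact absurd ((H.mul_mem_cancel_left (H.inv_mem (h.TH k.2))).1 h4) hy
  · rw [eq_comm, QuotientGroup.eq]
    have e1 : ((k : G) * t)⁻¹ * y = t⁻¹ * ((k : G)⁻¹ * y) := by group
    rw [e1]
    exact h4

theorem dich : (∀ x y, x ≠ y → Adj G ((1 : G) : G ⧸ H) h.b (h.b x) (h.b y)) ∨
    (∀ x y, x ≠ y → Adj G ((1 : G) : G ⧸ H) h.b (h.b x) (h.b y) → perp x y) := by
  by_cases hcon : ∃ x y, x ≠ y ∧ Adj G ((1 : G) : G ⧸ H) h.b (h.b x) (h.b y) ∧ ¬ perp x y
  · left
    obtain ⟨x, y, hxy, h1, h2⟩ := hcon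
    intro x' y' hxy'
    by_cases h3 : perp x' y'
    · exact h.loc.adj_of_perp hxy' h3
    obtain ⟨g, hg⟩ := h.trans x
    obtain ⟨g', hg'⟩ := h.trans x'
    have h4 : ∀ (g : T) (u v : P), ρ g p₀ = u → ¬ perp u v → ¬ perp p₀ (ρ g⁻¹ v) := by
      intro g u v hu h4 h5
      apply h4
      have := h.inv g _ _ h5
      rwa [hu, ← Equiv.Perm.mul_apply, ← map_mul, mul_inv_cancel, map_one, Equiv.Perm.one_apply] at this
    obtain ⟨k, hk1, hk2⟩ := h.opp _ _ (h4 g x y hg h2) (h4 g' x' y' hg' h3)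
    have h5 := Loc.adj_smul (a := ((1 : G) : G ⧸ H)) (b := h.b) ((g' * k * g⁻¹ : T) : G) h1
    rw [h.smul_b, h.smul_b] at h5
    have e1 : ρ (g' * k * g⁻¹) x = x' := by
      rw [← hg, map_mul, map_mul, Equiv.Perm.mul_apply, Equiv.Perm.mul_apply, map_inv,
        show (ρ g)⁻¹ (ρ g p₀) = p₀ from Equiv.symm_apply_apply _ _, hk1, hg']
    have e2 : ρ (g' * k * g⁻¹) y = y' := by
      rw [map_mul, map_mul, Equiv.Perm.mul_apply, Equiv.Perm.mul_apply, hk2, map_inv,
        show ρ g' ((ρ g')⁻¹ y') = y' from Equiv.apply_symm_apply _ _]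
    rwa [e1, e2] at h5
  · right
    push Not at hcon
    exact fun x y hxy h1 => hcon x y hxy h1

/-- **The index.** -/
theorem index_le [Finite G] [Finite P]
    (conn : ∀ (e : P) (S : Set P), S.Nonempty → (∀ x ∈ S, ¬ perp e x) →
      (∀ x ∈ S, ∀ z, ¬ perp e z → perp x z → z ∈ S) → ∀ z, ¬ perp e z → z ∈ S)
    (oinj : ∀ e e' : P, (∃ x, ¬ perp e x) → (∀ x, perp e x ↔ perp e' x) → e = e') :
    H.index ≤ Nat.card P * (Nat.card P + 1) := by
  have : Nonempty P := ⟨p₀⟩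
  exact h.loc.card_le h.hmax h.dich conn oinj h.hep

/-- **The index** if all points are collinear (`L_d(2)`) -/
theorem index_eq [Finite P] (hall : ∀ x y, perp x y) : H.index = Nat.card P + 1 := by
  have : Nonempty P := ⟨p₀⟩
  exact h.loc.card_complete h.hmax fun x y hxy => h.loc.adj_of_perp hxy (hall x y)

end TGeo

end TGeo

end Cfsg.Agent.H869.EPO
end

-- part: H869/EPO/Polar
section
/-!
# S5745 / S3499, OWN characteristic, `q = 2`: polar spaces of order two from rank three coset geometries (helper869)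

* `Pol` : points, lines of size three, one or all; `Pol.conn`, `Pol.oinj`;
* `CG P B Q s s'` : `P` maximal in `Y`, `Q = B ∪ s B ∪ s' B`, `Y = P ∪ P s P ∪ B w P`; the cosets of `P` are the points of
  a `Pol`, or all points are collinear.
-/

set_option autoImplicit false
set_option linter.unusedSectionVars false

namespace Cfsg.Agent.H869.EPO

/-- Polar space of order two, with lines as triples. -/
structure Pol {P : Type*} (perp : P → P → Prop) (L : P → P → P → Prop) : Prop where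
  refl : ∀ x, perp x x
  symm : ∀ x y, perp x y → perp y x
  line : ∀ x y, x ≠ y → perp x y → ∃ z, L x y z
  lp : ∀ x y z, L x y z → perp x y ∧ perp x z
  rot : ∀ x y z, L x y z → L y x z ∧ L x z y
  oa : ∀ x y z u, L x y z → ¬ perp u x → (perp u y ∧ ¬ perp u z) ∨ (¬ perp u y ∧ perp u z)
  nc : ∀ x, ∃ y z, perp x y ∧ perp x z ∧ ¬ perp y z
  no : ∀ x, ∃ y, ¬ perp y x

namespace Pol

variable {P : Type*} {perp : P → P → Prop} {L : P → P → P → Prop} (l : Pol perp L)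

include l

theorem third {x y z u : P} (hL : L x y z) (h1 : perp u x) (h2 : perp u y) : perp u z := by
  by_contra h3
  obtain ⟨-, h4⟩ := l.rot x y z hL
  obtain ⟨h5, -⟩ := l.rot x z y h4
  rcases l.oa z x y u h5 h3 with h6 | h6
  · exact h6.2 h2
  · exact h6.1 h1

theorem conn (e : P) (S : Set P) (hne : S.Nonempty) (hS : ∀ x ∈ S, ¬ perp e x)
    (hc : ∀ x ∈ S, ∀ z, ¬ perp e z → perp x z → z ∈ S) (z : P) (hz : ¬ perp e z) : z ∈ S := by
  by_contra hzS
  -- `{x, e}^⊥ = {x, x'}^⊥`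
  have key : ∀ (S : Set P), (∀ x ∈ S, ¬ perp e x) → (∀ x ∈ S, ∀ z, ¬ perp e z → perp x z → z ∈ S) →
      ∀ x ∈ S, ∀ x', ¬ perp e x' → x' ∉ S → ∀ w, perp x w → (perp e w ↔ perp x' w) := by
    intro S hS hc x hx x' hx' hx'S w hw
    have hxx' : ¬ perp x' x := fun h1 => hx'S (hc x hx x' hx' (l.symm _ _ h1))
    by_cases hxw : x = w
    · subst hxw
      exact ⟨fun h1 => absurd h1 (hS x hx), fun h1 => absurd h1 hxx'⟩
    obtain ⟨v, hv⟩ := l.line x w hxw hw
    have h1 : ∀ y, perp x y → ¬ perp e y → ¬ perp x' y := by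
      intro y hy hey h2
      exact hx'S (hc y (hc x hx y hey hy) x' hx' (l.symm _ _ h2))
    obtain ⟨h2, h3⟩ := l.lp x w v hv
    rcases l.oa x w v e hv (hS x hx) with h4 | h4
    · refine ⟨fun _ => ?_, fun _ => h4.1⟩
      rcases l.oa x w v x' hv hxx' with h5 | h5
      · exact h5.1
      · exact absurd h5.2 (h1 v h3 h4.2)
    · exact ⟨fun h5 => absurd h5 h4.1, fun h5 => absurd h5 (h1 w h2 h4.1)⟩
  have key1 := key S hS hc
  have key2 := key {x | ¬ perp e x ∧ x ∉ S} (fun x hx => hx.1) (fun x hx y hy hxy =>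
    ⟨hy, fun hyS => hx.2 (hc y hyS x hx.1 (l.symm _ _ hxy))⟩)
  obtain ⟨x, hx⟩ := hne
  -- `{x, e}^⊥` does not depend on `x ∈ S`
  have h1 : ∀ y ∈ S, ∀ w, perp e w → (perp y w ↔ perp z w) := by
    intro y hy w hw
    constructor
    · intro h2
      exact (key1 y hy z hz hzS w h2).1 hw
    · intro h2
      exact (key2 z ⟨hz, hzS⟩ y (hS y hy) (fun h3 => h3.2 hy) w h2).1 hw
  -- `{x, e}^⊥` is a clique
  have h2 : ∀ w v, perp x w → perp e w → perp x v → perp e v → perp v w := by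
    intro w v hw hew hv hev
    have hxw : x ≠ w := fun e1 => hS x hx (e1 ▸ hew)
    obtain ⟨y, hy⟩ := l.line x w hxw hw
    obtain ⟨-, h3⟩ := l.lp x w y hy
    have hey : ¬ perp e y := by
      rcases l.oa x w y e hy (hS x hx) with h4 | h4
      · exact h4.2
      · exact absurd hew h4.1
    have hyS := hc x hx y hey h3
    have h4 : perp y v := (h1 y hyS v hev).2 ((h1 x hx v hev).1 hv)
    exact l.third (l.rot x w y hy).2 (l.symm _ _ hv) (l.symm _ _ h4)
  obtain ⟨a, b, hxa, hxb, hab⟩ := l.nc x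
  have hxa' : x ≠ a := by rintro rfl; exact hab hxb
  have hxb' : x ≠ b := by rintro rfl; exact hab (l.symm _ _ hxa)
  obtain ⟨a', ha'⟩ := l.line x a hxa' hxa
  obtain ⟨b', hb'⟩ := l.line x b hxb' hxb
  -- no point `≠ x` of one line is collinear to a point `≠ x` of the other
  have h3 : ∀ c c' d : P, L x c c' → perp x d → ¬ perp c d → ¬ perp c' d := by
    intro c c' d hL hxd hcd h4
    exact hcd (l.symm _ _ (l.third (l.rot x c c' hL).2 (l.symm _ _ hxd) (l.symm _ _ h4)))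
  have hb1 := (l.lp x b b' hb').2
  have ha1 := (l.lp x a a' ha').2
  have g1 : ¬ perp a' b := h3 a a' b ha' hxb hab
  have g2 : ¬ perp b' a := h3 b b' a hb' hxa fun h4 => hab (l.symm _ _ h4)
  have g3 : ¬ perp a' b' := h3 a a' b' ha' hb1 fun h4 => g2 (l.symm _ _ h4)
  rcases l.oa x a a' e ha' (hS x hx) with h4 | h4 <;> rcases l.oa x b b' e hb' (hS x hx) with h5 | h5
  · exact hab (l.symm _ _ (h2 a b hxa h4.1 hxb h5.1))
  · exact g2 (h2 a b' hxa h4.1 hb1 h5.2)
  · exact g1 (l.symm _ _ (h2 a' b ha1 h4.2 hxb h5.1))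
  · exact g3 (l.symm _ _ (h2 a' b' ha1 h4.2 hb1 h5.2))

theorem oinj (e e' : P) (h : ∀ x, perp e x ↔ perp e' x) : e = e' := by
  by_contra hne
  have h1 : perp e e' := l.symm _ _ ((h e).1 (l.refl e))
  obtain ⟨f, hf⟩ := l.line e e' hne h1
  obtain ⟨x, hx⟩ := l.no f
  by_cases h2 : perp e x
  · exact hx (l.third hf (l.symm _ _ h2) (l.symm _ _ ((h x).1 h2)))
  · rcases l.oa e e' f x hf (fun h3 => h2 (l.symm _ _ h3)) with h3 | h3
    · exact h2 ((h x).2 (l.symm _ _ h3.1))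
    · exact hx h3.2

end Pol

/-! ### Coset geometries -/

section CG

variable {Y : Type*} [Group Y]

/-- `P ∪ P s P` -/
def D1 (P : Subgroup Y) (s : Y) : Set Y := {g | g ∈ P ∨ ∃ a ∈ P, ∃ b ∈ P, g = a * s * b}

/-- `P` maximal in `Y`, `Q = B ∪ s B ∪ s' B`, `Y = P ∪ P s P ∪ B w P` -/
structure CG (P B Q : Subgroup Y) (s s' : Y) : Prop where
  max : IsCoatom P
  BP : B ≤ P
  QP : Q ⊓ P ≤ B
  BQ : B ≤ Q
  sQ : s ∈ Q
  three : ∀ g ∈ Q, g ∈ B ∨ s⁻¹ * g ∈ B ∨ s'⁻¹ * g ∈ B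
  sB : s ∉ B
  ss : s * s ∈ B
  xs : ∃ x ∈ B, s' = x * s
  sx : s⁻¹ * s' ∉ B
  w : ∃ w, ∀ g, g ∈ D1 P s ∨ ∃ b ∈ B, ∃ c ∈ P, g = b * w * c

namespace CG

variable {P B Q : Subgroup Y} {s s' : Y} (c : CG P B Q s s')

include c

theorem s'Q : s' ∈ Q := by
  obtain ⟨x, hx, rfl⟩ := c.xs
  exact mul_mem (c.BQ hx) c.sQ

theorem s'B : s' ∉ B := by
  obtain ⟨x, hx, h1⟩ := c.xs
  rw [h1]
  exact fun h2 => c.sB ((B.mul_mem_cancel_left hx).1 h2)

theorem sP : s ∉ P := fun h => c.sB (c.QP ⟨c.sQ, h⟩)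

theorem ss' : s'⁻¹ * (s * s') ∈ B := by
  rcases c.three _ (mul_mem c.sQ c.s'Q) with h1 | h1 | h1
  · exfalso
    apply c.sx
    have e : s⁻¹ * s' = (s * s)⁻¹ * (s * s') := by group
    rw [e]
    exact mul_mem (inv_mem c.ss) h1
  · exfalso
    rw [inv_mul_cancel_left] at h1
    exact c.s'B h1
  · exact h1

theorem s's : s' * s ∈ B := by
  obtain ⟨x, hx, h1⟩ := c.xs
  rw [h1, mul_assoc]
  exact mul_mem hx c.ss

theorem s's' : s⁻¹ * (s' * s') ∈ B := by
  rcases c.three _ (mul_mem c.s'Q c.s'Q) with h1 | h1 | h1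
  · exfalso
    apply c.sx
    have e : s⁻¹ * s' = (s' * s)⁻¹ * (s' * s') := by group
    rw [e]
    exact mul_mem (inv_mem c.s's) h1
  · exact h1
  · exfalso
    rw [inv_mul_cancel_left] at h1
    exact c.s'B h1

theorem perm {b : Y} (hb : b ∈ B) : (s⁻¹ * (b * s) ∈ B ∧ s'⁻¹ * (b * s') ∈ B) ∨
    (s'⁻¹ * (b * s) ∈ B ∧ s⁻¹ * (b * s') ∈ B) := by
  have h1 : b * s ∉ B := fun h => c.sB ((B.mul_mem_cancel_left hb).1 h)
  have h2 : b * s' ∉ B := fun h => c.s'B ((B.mul_mem_cancel_left hb).1 h)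
  have h3 := (c.three _ (mul_mem (c.BQ hb) c.sQ)).resolve_left h1
  have h4 := (c.three _ (mul_mem (c.BQ hb) c.s'Q)).resolve_left h2
  have h5 : ∀ u : Y, u⁻¹ * (b * s) ∈ B → u⁻¹ * (b * s') ∈ B → False := by
    intro u h5 h6
    apply c.sx
    have e : s⁻¹ * s' = (u⁻¹ * (b * s))⁻¹ * (u⁻¹ * (b * s')) := by group
    rw [e]
    exact mul_mem (inv_mem h5) h6
  rcases h3 with h3 | h3 <;> rcases h4 with h4 | h4
  · exact (h5 _ h3 h4).elim
  · exact Or.inl ⟨h3, h4⟩
  · exact Or.inr ⟨h3, h4⟩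
  · exact (h5 _ h3 h4).elim

theorem mem_left {a g : Y} (ha : a ∈ P) (hg : g ∈ D1 P s) : a * g ∈ D1 P s := by
  rcases hg with hg | ⟨x, hx, y, hy, rfl⟩
  · exact Or.inl (mul_mem ha hg)
  · exact Or.inr ⟨a * x, mul_mem ha hx, y, hy, by group⟩

theorem mem_right {a g : Y} (ha : a ∈ P) (hg : g ∈ D1 P s) : g * a ∈ D1 P s := by
  rcases hg with hg | ⟨x, hx, y, hy, rfl⟩
  · exact Or.inl (mul_mem hg ha)
  · exact Or.inr ⟨x, hx, y * a, mul_mem hy ha, by group⟩

theorem left_iff {a g : Y} (ha : a ∈ P) : a * g ∈ D1 P s ↔ g ∈ D1 P s := by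
  refine ⟨fun h => ?_, c.mem_left ha⟩
  have := c.mem_left (inv_mem ha) h
  rwa [inv_mul_cancel_left] at this

theorem right_iff {a g : Y} (ha : a ∈ P) : g * a ∈ D1 P s ↔ g ∈ D1 P s := by
  refine ⟨fun h => ?_, c.mem_right ha⟩
  have := c.mem_right (inv_mem ha) h
  rwa [mul_inv_cancel_right] at this

theorem inv_mem {g : Y} (hg : g ∈ D1 P s) : g⁻¹ ∈ D1 P s := by
  rcases hg with hg | ⟨x, hx, y, hy, rfl⟩
  · exact Or.inl (P.inv_mem hg)
  · refine Or.inr ⟨y⁻¹ * (s * s)⁻¹, P.mul_mem (P.inv_mem hy) (P.inv_mem (c.BP c.ss)), x⁻¹, P.inv_mem hx, by group⟩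

theorem inv_iff {g : Y} : g⁻¹ ∈ D1 P s ↔ g ∈ D1 P s :=
  ⟨fun h => by have := c.inv_mem h; rwa [inv_inv] at this, c.inv_mem⟩

theorem s_mem : s ∈ D1 P s := Or.inr ⟨1, one_mem _, 1, one_mem _, by group⟩

/-- `P` maximal, a set containing `P` closed under products and inverses -/
theorem of_closed (E : Set Y) (h1 : ∀ g ∈ P, g ∈ E) (h2 : ∀ g ∈ E, g⁻¹ ∈ E) (h3 : ∀ g ∈ E, ∀ k ∈ E, g * k ∈ E)
    (h4 : ∃ g ∈ E, g ∉ P) (g : Y) : g ∈ E := by
  let K : Subgroup Y :=
    { carrier := E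
      one_mem' := h1 1 (one_mem _)
      mul_mem' := fun ha hb => h3 _ ha _ hb
      inv_mem' := fun ha => h2 _ ha }
  have hK : K = ⊤ := by
    apply c.max.2
    refine lt_of_le_of_ne (fun g hg => h1 g hg) ?_
    intro e
    obtain ⟨g, hg, hgP⟩ := h4
    apply hgP
    rw [e]
    exact hg
  have : g ∈ K := by rw [hK]; trivial
  exact this

theorem trans_opp {u v : Y} (hu : u ∉ D1 P s) (hv : v ∉ D1 P s) : ∃ b ∈ B, v⁻¹ * (b * u) ∈ P := by
  obtain ⟨w, hw⟩ := c.w
  obtain ⟨b, hb, p, hp, rfl⟩ := (hw u).resolve_left hu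
  obtain ⟨b', hb', p', hp', rfl⟩ := (hw v).resolve_left hv
  refine ⟨b' * b⁻¹, mul_mem hb' (B.inv_mem hb), ?_⟩
  have e : (b' * w * p')⁻¹ * (b' * b⁻¹ * (b * w * p)) = p'⁻¹ * p := by group
  rw [e]
  exact mul_mem (P.inv_mem hp') hp

/-- one or all, for the line `P, s P, s' P` -/
theorem one {u : Y} (hu : u ∉ D1 P s) :
    (u⁻¹ * s ∈ D1 P s ∧ u⁻¹ * s' ∉ D1 P s) ∨ (u⁻¹ * s ∉ D1 P s ∧ u⁻¹ * s' ∈ D1 P s) := by
  -- moving `u` by `b ∈ B`
  have hmove : ∀ v, v ∉ D1 P s → ((v⁻¹ * s ∈ D1 P s ↔ u⁻¹ * s ∈ D1 P s) ∧ (v⁻¹ * s' ∈ D1 P s ↔ u⁻¹ * s' ∈ D1 P s)) ∨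
      ((v⁻¹ * s ∈ D1 P s ↔ u⁻¹ * s' ∈ D1 P s) ∧ (v⁻¹ * s' ∈ D1 P s ↔ u⁻¹ * s ∈ D1 P s)) := by
    intro v hv
    obtain ⟨b, hb, h1⟩ := c.trans_opp hv hu
    -- `b v = u p`
    have h2 : ∀ x y : Y, y⁻¹ * (b * x) ∈ B → (v⁻¹ * x ∈ D1 P s ↔ u⁻¹ * y ∈ D1 P s) := by
      intro x y h2
      have e1 : v⁻¹ * x = (u⁻¹ * (b * v))⁻¹ * (u⁻¹ * y * (y⁻¹ * (b * x))) := by group
      rw [e1, c.left_iff (P.inv_mem h1), c.right_iff (c.BP h2)]
    rcases c.perm hb with ⟨h3, h4⟩ | ⟨h3, h4⟩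
    · exact Or.inl ⟨h2 _ _ h3, h2 _ _ h4⟩
    · exact Or.inr ⟨h2 _ _ h3, h2 _ _ h4⟩
  by_cases hs : u⁻¹ * s ∈ D1 P s
  · by_cases hs' : u⁻¹ * s' ∈ D1 P s
    · exfalso
      -- both
      have h1 : ∀ v, v ∉ D1 P s → v⁻¹ * s ∈ D1 P s := by
        intro v hv
        rcases hmove v hv with h2 | h2
        · exact h2.1.2 hs
        · exact h2.1.2 hs'
      have h2 : ∀ v, v ∉ D1 P s → ∀ d ∈ D1 P s, d ∉ P → v⁻¹ * d ∈ D1 P s := by
        intro v hv d hd hdP
        rcases hd with hd | ⟨a, ha, b, hb, rfl⟩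
        · exact absurd hd hdP
        have e : v⁻¹ * (a * s * b) = ((a⁻¹ * v)⁻¹ * s) * b := by group
        rw [e, c.right_iff hb]
        exact h1 _ (by rwa [c.left_iff (P.inv_mem ha)])
      have h3 : s ∈ {g : Y | g ∈ P ∨ g ∉ D1 P s} := by
        apply c.of_closed
        · exact fun g hg => Or.inl hg
        · rintro g (hg | hg)
          · exact Or.inl (P.inv_mem hg)
          · exact Or.inr (by rwa [c.inv_iff])
        · rintro g (hg | hg) k (hk | hk)
          · exact Or.inl (P.mul_mem hg hk)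
          · exact Or.inr (by rwa [c.left_iff hg])
          · exact Or.inr (by rwa [c.right_iff hk])
          · by_cases h4 : g * k ∈ P
            · exact Or.inl h4
            · right
              intro h5
              have h6 := h2 g hg _ h5 h4
              rw [inv_mul_cancel_left] at h6
              exact hk h6
        · exact ⟨u, Or.inr hu, fun h4 => hu (Or.inl h4)⟩
      rcases h3 with h3 | h3
      · exact c.sP h3
      · exact h3 c.s_mem
    · exact Or.inl ⟨hs, hs'⟩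
  · by_cases hs' : u⁻¹ * s' ∈ D1 P s
    · exact Or.inr ⟨hs, hs'⟩
    · exfalso
      -- none
      have h1 : ∀ v, v ∉ D1 P s → v⁻¹ * s ∉ D1 P s := by
        intro v hv h3
        rcases hmove v hv with h2 | h2
        · exact hs (h2.1.1 h3)
        · exact hs' (h2.1.1 h3)
      have h2 : ∀ v, v ∉ D1 P s → ∀ d ∈ D1 P s, d ∉ P → v⁻¹ * d ∉ D1 P s := by
        intro v hv d hd hdP
        rcases hd with hd | ⟨a, ha, b, hb, rfl⟩
        · exact absurd hd hdP
        have e : v⁻¹ * (a * s * b) = ((a⁻¹ * v)⁻¹ * s) * b := by group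
        rw [e, c.right_iff hb]
        exact h1 _ (by rwa [c.left_iff (P.inv_mem ha)])
      apply hu
      apply c.of_closed
      · exact fun g hg => Or.inl hg
      · exact fun g hg => c.inv_mem hg
      · intro g hg k hk
        by_cases hgP : g ∈ P
        · exact c.mem_left hgP hk
        · by_contra h3
          apply h2 _ h3 g hg hgP
          have e : (g * k)⁻¹ * g = k⁻¹ := by group
          rw [e]
          exact c.inv_mem hk
      · exact ⟨s, c.s_mem, c.sP⟩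

/-! ### The geometry on the cosets -/

omit c in
/-- collinearity -/
def perp (P : Subgroup Y) (s : Y) (x y : Y ⧸ P) : Prop :=
  ∃ g k : Y, (g : Y ⧸ P) = x ∧ (k : Y ⧸ P) = y ∧ g⁻¹ * k ∈ D1 P s

omit c in
/-- lines -/
def Ln (P : Subgroup Y) (s s' : Y) (x y z : Y ⧸ P) : Prop :=
  ∃ g : Y, x = (g : Y ⧸ P) ∧ ((y = ((g * s : Y) : Y ⧸ P) ∧ z = ((g * s' : Y) : Y ⧸ P)) ∨
    (y = ((g * s' : Y) : Y ⧸ P) ∧ z = ((g * s : Y) : Y ⧸ P)))

theorem perp_mk {g k : Y} : perp P s (g : Y ⧸ P) (k : Y ⧸ P) ↔ g⁻¹ * k ∈ D1 P s := by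
  constructor
  · rintro ⟨g', k', h1, h2, h3⟩
    have h1' := QuotientGroup.eq.1 h1.symm
    have h2' := QuotientGroup.eq.1 h2.symm
    have e : g⁻¹ * k = (g⁻¹ * g') * (g'⁻¹ * k' * (k⁻¹ * k')⁻¹) := by group
    rw [e, c.left_iff h1', c.right_iff (P.inv_mem h2')]
    exact h3
  · intro h
    exact ⟨g, k, rfl, rfl, h⟩

theorem refl' (x : Y ⧸ P) : perp P s x x := by
  obtain ⟨g, rfl⟩ := QuotientGroup.mk_surjective x
  rw [c.perp_mk, inv_mul_cancel]
  exact Or.inl (one_mem _)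

theorem symm' (x y : Y ⧸ P) (h : perp P s x y) : perp P s y x := by
  obtain ⟨g, rfl⟩ := QuotientGroup.mk_surjective x
  obtain ⟨k, rfl⟩ := QuotientGroup.mk_surjective y
  rw [c.perp_mk] at h ⊢
  have := c.inv_mem h
  rwa [mul_inv_rev, inv_inv] at this

theorem line' (x y : Y ⧸ P) (hxy : x ≠ y) (h : perp P s x y) : ∃ z, Ln P s s' x y z := by
  obtain ⟨g, rfl⟩ := QuotientGroup.mk_surjective x
  obtain ⟨k, rfl⟩ := QuotientGroup.mk_surjective y
  rw [c.perp_mk] at h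
  rcases h with h | ⟨a, ha, b, hb, h⟩
  · exact absurd (QuotientGroup.eq.2 h) hxy
  · refine ⟨((g * a * s' : Y) : Y ⧸ P), g * a, ?_, Or.inl ⟨?_, rfl⟩⟩
    · apply QuotientGroup.eq.2
      rwa [inv_mul_cancel_left]
    · apply QuotientGroup.eq.2
      have e : k⁻¹ * (g * a * s) = b⁻¹ := by
        have : k = g * (a * s * b) := by rw [← h]; group
        rw [this]
        group
      rw [e]
      exact P.inv_mem hb

theorem oa' (x y z u : Y ⧸ P) (hL : Ln P s s' x y z) (hu : ¬ perp P s u x) :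
    (perp P s u y ∧ ¬ perp P s u z) ∨ (¬ perp P s u y ∧ perp P s u z) := by
  obtain ⟨g, rfl, h1⟩ := hL
  obtain ⟨k, rfl⟩ := QuotientGroup.mk_surjective u
  rw [c.perp_mk] at hu
  have h2 : g⁻¹ * k ∉ D1 P s := by
    rw [← c.inv_iff, mul_inv_rev, inv_inv]
    exact hu
  have h3 := c.one h2
  have e : ∀ x : Y, (g⁻¹ * k)⁻¹ * x = k⁻¹ * (g * x) := fun x => by group
  rw [e, e] at h3
  rcases h1 with ⟨rfl, rfl⟩ | ⟨rfl, rfl⟩
  · rw [c.perp_mk, c.perp_mk]
    exact h3
  · rw [c.perp_mk, c.perp_mk]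
    (clear * - h3; tauto)

theorem pol (hne : ∃ u, u ∉ D1 P s) : Pol (perp P s) (Ln P s s') where
  refl := c.refl'
  symm := c.symm'
  line := c.line'
  lp := by
    rintro x y z ⟨g, rfl, h1⟩
    have h2 : perp P s (g : Y ⧸ P) ((g * s : Y) : Y ⧸ P) := by
      rw [c.perp_mk, inv_mul_cancel_left]
      exact c.s_mem
    have h3 : perp P s (g : Y ⧸ P) ((g * s' : Y) : Y ⧸ P) := by
      rw [c.perp_mk, inv_mul_cancel_left]
      obtain ⟨x, hx, h3⟩ := c.xs
      rw [h3]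
      exact c.mem_left (c.BP hx) c.s_mem
    rcases h1 with ⟨rfl, rfl⟩ | ⟨rfl, rfl⟩
    · exact ⟨h2, h3⟩
    · exact ⟨h3, h2⟩
  rot := by
    rintro x y z ⟨g, rfl, h1⟩
    refine ⟨?_, g, rfl, ?_⟩
    · rcases h1 with ⟨rfl, rfl⟩ | ⟨rfl, rfl⟩
      · refine ⟨g * s, rfl, Or.inl ⟨?_, ?_⟩⟩
        · apply QuotientGroup.eq.2
          have e : g⁻¹ * (g * s * s) = s * s := by group
          rw [e]
          exact c.BP c.ss
        · apply QuotientGroup.eq.2
          have e : (g * s')⁻¹ * (g * s * s') = s'⁻¹ * (s * s') := by group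
          rw [e]
          exact c.BP c.ss'
      · refine ⟨g * s', rfl, Or.inl ⟨?_, ?_⟩⟩
        · apply QuotientGroup.eq.2
          have e : g⁻¹ * (g * s' * s) = s' * s := by group
          rw [e]
          exact c.BP c.s's
        · apply QuotientGroup.eq.2
          have e : (g * s)⁻¹ * (g * s' * s') = s⁻¹ * (s' * s') := by group
          rw [e]
          exact c.BP c.s's'
    · (clear * - h1; tauto)
  oa := c.oa'
  nc := by
    intro x
    obtain ⟨g, rfl⟩ := QuotientGroup.mk_surjective x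
    by_contra hcon
    push Not at hcon
    obtain ⟨u, hu⟩ := hne
    apply hu
    have h1 : ∀ a ∈ D1 P s, ∀ b ∈ D1 P s, a⁻¹ * b ∈ D1 P s := by
      intro a ha b hb
      have h2 := hcon ((g * a : Y) : Y ⧸ P) ((g * b : Y) : Y ⧸ P) (by
        rw [c.perp_mk, inv_mul_cancel_left]; exact ha) (by rw [c.perp_mk, inv_mul_cancel_left]; exact hb)
      rw [c.perp_mk] at h2
      have e : (g * a)⁻¹ * (g * b) = a⁻¹ * b := by group
      rwa [e] at h2
    apply c.of_closed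
    · exact fun g hg => Or.inl hg
    · exact fun g hg => c.inv_mem hg
    · intro a ha b hb
      have := h1 _ (c.inv_mem ha) _ hb
      rwa [inv_inv] at this
    · exact ⟨s, c.s_mem, c.sP⟩
  no := by
    intro x
    obtain ⟨g, rfl⟩ := QuotientGroup.mk_surjective x
    obtain ⟨u, hu⟩ := hne
    refine ⟨((g * u : Y) : Y ⧸ P), ?_⟩
    rw [c.perp_mk]
    have e : (g * u)⁻¹ * g = u⁻¹ := by group
    rwa [e, c.inv_iff]

end CG

end CG

end Cfsg.Agent.H869.EPO
end

-- part: H869/EPO/Q2Geo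
section
/-!
# S5745 / S3499, OWN characteristic, `q = 2`: the local geometry of the state `Q2` (helper869)

`Q2.index_le` : if `Y = P ∪ P s P ∪ B w P` with `P = P_{I - i}` and `P_i = B ∪ s B ∪ s' B` then
`|G : H| ≤ n (n + 1)`, `n = |Y : P_{I - i}|`.
-/

set_option autoImplicit false
set_option linter.unusedSectionVars false

namespace Cfsg.Agent.H869.EPO

open Cfsg.Agent.H284 Cfsg.Agent.H209.EPX Cfsg.Agent.H737.EPO
open scoped Pointwise

section

variable {G Y : Type*} [Group G] [Finite G] [Group Y] [Finite Y] {H N R : Subgroup G}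
  {e : N ≃* (Fin 1 → Y)} {I : Type*} {S : PSys Y 2 I} [IsSimpleGroup Y] (hY : ∃ a b : Y, a * b ≠ b * a)
  {i : I} {t : G} (q : Q2 H R e S i t) {s s' : Y} (c : CG (S.P {i}ᶜ) (S.P ∅) (S.P {i}) s s')

/-- the action on the cosets -/
def rho (e : N ≃* (Fin 1 → Y)) (P : Subgroup Y) : N →* Equiv.Perm (Y ⧸ P) :=
  (MulAction.toPermHom Y (Y ⧸ P)).comp ((Pi.evalMonoidHom (fun _ : Fin 1 => Y) 0).comp e.toMonoidHom)

omit [Finite G] [Finite Y] [IsSimpleGroup Y] in
theorem rho_mk (P : Subgroup Y) (g : N) (y : Y) : rho e P g (y : Y ⧸ P) = ((e g 0 * y : Y) : Y ⧸ P) := rfl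

include hY q c

omit [Finite Y] [IsSimpleGroup Y] hY q c in
theorem cp_coe (g : N) : cp e (g : G) 0 = e g 0 := cp_eq e g.2 0

theorem exists_t (hi : ({i} : Set I) ≠ Set.univ) : ∃ t₁ : G, t₁ ∉ H ∧ t₁ * t₁ ∈ H ∧
    H ⊓ cj t₁ H = PH H e S (fun _ => {i}ᶜ) ∧
    (sg e 0 s' * t₁)⁻¹ * (t₁ * sg e 0 s * t₁) ∈ H ∧ (sg e 0 s * t₁)⁻¹ * (t₁ * sg e 0 s' * t₁) ∈ H := by
  have hK : ∀ j : Fin 1, (fun _ => ({i} : Set I)) j ≠ Set.univ := fun _ => hi
  obtain ⟨D, Q, hVD, hDP, hDp, hDn, hQp, hQn, hDQ', hQH, hQD⟩ := q.dq (fun _ => {i}) (VV_ne_bot e (i := 0) hi)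
  obtain ⟨W, -, hWD, v⟩ := exists_vecB Nat.prime_two hDn hQp hQn hDQ' hQH hQD
  have hPH : PH H e S (fun _ => {i}) ≤ H := inf_le_left
  have hDH : D ≤ H := hDP.trans hPH
  have hPP : PP e S (fun _ => {i}) ≤ PH H e S (fun _ => {i}) := PP_le_PH e S q.minN.le _
  set M := PH H e S (fun _ => ({i}ᶜ : Set I)) with hM
  have hcD : ∀ a ∈ PH H e S (fun _ => {i}), ∀ w, w ∉ D → a * w * a⁻¹ ∉ D := by
    intro a ha w hwD h1
    apply hwD
    have := hDn a⁻¹ (inv_mem ha) _ h1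
    have e2 : a⁻¹ * (a * w * a⁻¹) * a⁻¹⁻¹ = w := by group
    rwa [e2] at this
  have hconj : ∀ w ∈ W, w ∉ D → ∃ a ∈ PP e S (fun _ => {i}), H ⊓ cj w H = cj a M := by
    intro w hw hwD
    apply q.conj_M hY hK ⟨w, v.notMem_H hw hwD, rfl⟩
    refine hVD.trans (le_inf hDH ?_)
    rw [← cj_eq_of_nm (v.WD w hw)]
    exact cj_mono hDH
  obtain ⟨w₀, hw₀, hw₀D, hw₀M⟩ : ∃ w ∈ W, w ∉ D ∧ H ⊓ cj w H = M := by
    obtain ⟨w, hw, hwD⟩ : ∃ w ∈ W, w ∉ D := by
      by_contra hcon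
      push Not at hcon
      exact hWD (le_antisymm hcon v.DW)
    obtain ⟨a, ha, h1⟩ := hconj w hw hwD
    refine ⟨a⁻¹ * w * a⁻¹⁻¹, v.Wn _ (inv_mem (hPP ha)) w hw, hcD _ (inv_mem (hPP ha)) w hwD, ?_⟩
    rw [← PanelB.cj_two (inv_mem (hPH (hPP ha))), h1, cj_inv_cj]
  have hw₀H := v.notMem_H hw₀ hw₀D
  have hww : w₀ * w₀ ∈ D := by have := v.pow w₀ hw₀; rwa [pow_two] at this
  -- `s`, `s'` in `P_i`
  have hsP : ∀ y ∈ S.P {i}, sg e 0 y ∈ PP e S (fun _ => {i}) := fun y hy => (sg_mem_pk e).2 hy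
  -- a vector with stabiliser `M^a` is `a w₀ a⁻¹`
  have huniq : ∀ w ∈ W, w ∉ D → ∀ a ∈ PP e S (fun _ => {i}), H ⊓ cj w H = cj a M → w⁻¹ * (a * w₀ * a⁻¹) ∈ D := by
    intro w hw hwD a ha h1
    have haP := hPP ha
    have h2 : H ⊓ cj (a⁻¹ * w * a⁻¹⁻¹) H = M := by
      rw [← PanelB.cj_two (inv_mem (hPH haP)), h1, cj_inv_cj]
    have h3 := q.line' (v.notMem_H (v.Wn _ (inv_mem haP) w hw) (hcD _ (inv_mem haP) w hwD)) hw₀H h2 hw₀M
    have h4 : (a⁻¹ * w * a⁻¹⁻¹)⁻¹ * w₀ ∈ D := by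
      rw [← v.WH]
      exact ⟨W.mul_mem (W.inv_mem (v.Wn _ (inv_mem haP) w hw)) hw₀, h3⟩
    have h5 := hDn a haP _ h4
    have e1 : a * ((a⁻¹ * w * a⁻¹⁻¹)⁻¹ * w₀) * a⁻¹ = w⁻¹ * (a * w₀ * a⁻¹) := by group
    rwa [e1] at h5
  -- `PP ∅` normalises `M`
  have hBM : ∀ b ∈ PP e S (fun _ => ∅), cj b M = M := by
    intro b hb
    apply cj_eq_self
    exact PP_le_PH e S q.minN.le _ ((PP_le_iff e S).2 (fun _ => Set.empty_subset _) hb)
  have hPPi : ∀ a ∈ PP e S (fun _ => {i}), cj a M = M ∨ cj a M = cj (sg e 0 s) M ∨ cj a M = cj (sg e 0 s') M := by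
    intro a ha
    rw [PP_map] at ha
    obtain ⟨y, hy, rfl⟩ := ha
    have hB : ∀ y ∈ S.P ∅, sg e 0 y ∈ PP e S (fun _ => ∅) := fun y hy => (sg_mem_pk e).2 hy
    rcases c.three y hy with h1 | h1 | h1
    · exact Or.inl (hBM _ (hB _ h1))
    · right; left
      have e1 : y = s * (s⁻¹ * y) := by group
      rw [e1, map_mul, cj_mul, hBM _ (hB _ h1)]
    · right; right
      have e1 : y = s' * (s'⁻¹ * y) := by group
      rw [e1, map_mul, cj_mul, hBM _ (hB _ h1)]
  -- `s`, `s'`, `s⁻¹ s'` do not normalise `M`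
  have hnM : ∀ y : Y, y ∉ S.P {i}ᶜ → cj (sg e 0 y) M ≠ M := by
    intro y hy h1
    apply hy
    apply S.norm_P
    have h2 : cj (sg e 0 y) (PP e S fun _ => {i}ᶜ) = PP e S fun _ => {i}ᶜ := by
      have hN1 : cj (sg e 0 y) N = N := cj_eq_self (sg_mem e 0 y)
      have h3 := PH_inf e S q.minN.le (fun _ => ({i}ᶜ : Set I))
      rw [← h3, cj_inf, hN1]
      rw [← hM, h1]
    rw [PP_map, show cj (sg e 0 y) ((S.P {i}ᶜ).map (sg e 0)) = (cj y (S.P {i}ᶜ)).map (sg e 0) from by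
      ext g
      constructor
      · rintro ⟨_, ⟨z, hz, rfl⟩, rfl⟩
        refine ⟨y * z * y⁻¹, ⟨z, hz, rfl⟩, ?_⟩
        rw [map_mul, map_mul, map_inv]
        rfl
      · rintro ⟨_, ⟨z, hz, rfl⟩, rfl⟩
        refine ⟨sg e 0 z, ⟨z, hz, rfl⟩, ?_⟩
        show sg e 0 y * sg e 0 z * (sg e 0 y)⁻¹ = sg e 0 (y * z * y⁻¹)
        rw [map_mul, map_mul, map_inv]] at h2
    exact Subgroup.map_injective (sg_inj (e := e)) h2
  have hss' : cj (sg e 0 s) M ≠ cj (sg e 0 s') M := by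
    intro h1
    apply hnM (s⁻¹ * s')
    · intro h2
      exact c.sx (c.QP ⟨(S.P {i}).mul_mem ((S.P {i}).inv_mem c.sQ) c.s'Q, h2⟩)
    · rw [map_mul, map_inv, cj_mul, ← h1, cj_inv_cj]
  have hsM : cj (sg e 0 s) M ≠ M := hnM s c.sP
  have hs'P : s' ∉ S.P {i}ᶜ := fun h1 => c.s'B (c.QP ⟨c.s'Q, h1⟩)
  have hs'M : cj (sg e 0 s') M ≠ M := hnM s' hs'P
  -- the third vector
  have key : ∀ x y : G, x ∈ PP e S (fun _ => {i}) → y ∈ PP e S (fun _ => {i}) → cj x M ≠ M →
      (∀ a ∈ PP e S (fun _ => {i}), cj a M = M ∨ cj a M = cj x M ∨ cj a M = cj y M) →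
      (y * w₀)⁻¹ * (w₀ * x * w₀) ∈ H := by
    intro x y hx hy hxM hall
    have hxP := hPP hx
    have hyP := hPP hy
    have h1 : w₀ * (x * w₀ * x⁻¹) ∈ W := mul_mem hw₀ (v.Wn _ hxP _ hw₀)
    have hxx : (x * w₀ * x⁻¹) * (x * w₀ * x⁻¹) ∈ D := by
      have := hDn x hxP _ hww
      have e1 : x * (w₀ * w₀) * x⁻¹ = (x * w₀ * x⁻¹) * (x * w₀ * x⁻¹) := by group
      rwa [e1] at this
    have hMx : H ⊓ cj (x * w₀ * x⁻¹) H = cj x M := by rw [← hw₀M, PanelB.cj_two (hPH hxP)]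
    have hD' : ∀ w ∈ W, ∀ d ∈ D, w⁻¹ * d * w ∈ D := by
      intro w hw d hd
      have := v.WD w⁻¹ (inv_mem hw) d hd
      rwa [inv_inv] at this
    have h2 : w₀ * (x * w₀ * x⁻¹) ∉ D := by
      intro h2
      apply hxM
      rw [← hMx, ← hw₀M]
      have e1 : x * w₀ * x⁻¹ = w₀ * ((w₀ * w₀)⁻¹ * (w₀ * (x * w₀ * x⁻¹))) := by group
      rw [e1, cj_mul, cj_eq_self (hDH (mul_mem (inv_mem hww) h2))]
    obtain ⟨a, ha, h3⟩ := hconj _ h1 h2
    rcases hall a ha with h4 | h4 | h4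
    · exfalso
      have h5 := huniq _ h1 h2 1 (one_mem _) (by rw [h3, h4, cj_one])
      have e1 : (w₀ * (x * w₀ * x⁻¹))⁻¹ * (1 * w₀ * 1⁻¹) = (x * w₀ * x⁻¹)⁻¹ := by group
      rw [e1] at h5
      exact hcD x hxP w₀ hw₀D (by rw [← inv_inv (x * w₀ * x⁻¹)]; exact inv_mem h5)
    · exfalso
      have h5 := huniq _ h1 h2 x hx (by rw [h3, h4])
      have h6 := v.WD (x * w₀ * x⁻¹) (v.Wn _ hxP _ hw₀) _ h5
      have e1 : x * w₀ * x⁻¹ * ((w₀ * (x * w₀ * x⁻¹))⁻¹ * (x * w₀ * x⁻¹)) * (x * w₀ * x⁻¹)⁻¹ = w₀⁻¹ := by group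
      rw [e1] at h6
      exact hw₀D (by rw [← inv_inv w₀]; exact inv_mem h6)
    · have h5 := huniq _ h1 h2 y hy (by rw [h3, h4])
      have e1 : (y * w₀)⁻¹ * (w₀ * x * w₀) = y⁻¹ * ((w₀ * (x * w₀ * x⁻¹))⁻¹ * (y * w₀ * y⁻¹))⁻¹ * x := by
        group
      rw [e1]
      exact mul_mem (mul_mem (inv_mem (hPH hyP)) (inv_mem (hDH h5))) (hPH hxP)
  refine ⟨w₀, hw₀H, hDH hww, hw₀M, ?_, ?_⟩
  · exact key _ _ (hsP s c.sQ) (hsP s' c.s'Q) hsM hPPi
  · exact key _ _ (hsP s' c.s'Q) (hsP s c.sQ) hs'M fun a ha => by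
      rcases hPPi a ha with h1 | h1 | h1
      · exact Or.inl h1
      · exact Or.inr (Or.inr h1)
      · exact Or.inr (Or.inl h1)

/-- the local geometry -/
theorem tgeo (hi : ({i} : Set I) ≠ Set.univ) : ∃ t₁ : G, TGeo H N t₁ (rho e (S.P {i}ᶜ)) ((1 : Y) : Y ⧸ S.P {i}ᶜ)
    (CG.perp (S.P {i}ᶜ) s) (CG.Ln (S.P {i}ᶜ) s s') := by
  obtain ⟨t₁, ht, htt, hM, h1, h2⟩ := exists_t hY q c hi
  have hsg : ∀ g : N, sg e 0 (e g 0) = (g : G) := by
    intro g
    rw [← cp_coe]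
    apply ext_cp e (sg_mem e 0 _) g.2
    intro j
    have : j = 0 := Subsingleton.elim _ _
    rw [this, cp_sg]
  have hmem : ∀ g : N, (g : G) ∈ cj t₁ H ↔ e g 0 ∈ S.P {i}ᶜ := by
    intro g
    have h3 : (g : G) ∈ cj t₁ H ↔ (g : G) ∈ PP e S fun _ => {i}ᶜ := by
      rw [← PH_inf e S q.minN.le, ← hM]
      exact ⟨fun h => ⟨⟨q.minN.le g.2, h⟩, g.2⟩, fun h => h.1.2⟩
    rw [h3, ← hsg g]
    exact sg_mem_pk e
  have hsgN : ∀ y : Y, ∃ g : N, (g : G) = sg e 0 y ∧ e g 0 = y := by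
    intro y
    refine ⟨⟨sg e 0 y, sg_mem e 0 y⟩, rfl, ?_⟩
    rw [← cp_coe]
    exact cp_sg e 0 y
  obtain ⟨gs, hgs, hgs'⟩ := hsgN s
  obtain ⟨gs2, hgs2, hgs2'⟩ := hsgN s'
  refine ⟨t₁, ?_⟩
  constructor
  · exact q.ep
  · exact q.minN.le
  · exact ht
  · exact htt
  · intro x hx
    by_cases hxH : x ∈ H
    · exact Or.inl hxH
    right
    have h3 : H ⊓ cj x H = PH H e S fun _ => {i}ᶜ := by
      rw [← hM]
      exact two_eq q.ep ht hxH hx
    exact q.line' ht hxH hM h3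
  · intro x hx
    obtain ⟨n, hn, m, hm, rfl⟩ := MX.fac q.minN (mx_of_two q.ep q.minN q.twoM) hx
    refine ⟨n, hn, ?_⟩
    rw [inv_mul_cancel_left]
    rw [← hM] at hm
    exact hm.2
  · intro x
    obtain ⟨y, rfl⟩ := QuotientGroup.mk_surjective x
    obtain ⟨g, -, hg⟩ := hsgN y
    refine ⟨g, ?_⟩
    rw [rho_mk, hg, mul_one]
  · intro g
    rw [hmem, rho_mk, mul_one, eq_comm, QuotientGroup.eq, inv_one, one_mul]
  · exact c.refl'
  · exact c.symm'
  · intro g x y hxy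
    obtain ⟨u, rfl⟩ := QuotientGroup.mk_surjective x
    obtain ⟨k, rfl⟩ := QuotientGroup.mk_surjective y
    rw [show rho e (S.P {i}ᶜ) g (QuotientGroup.mk u) = _ from rho_mk _ g u,
      show rho e (S.P {i}ᶜ) g (QuotientGroup.mk k) = _ from rho_mk _ g k, c.perp_mk]
    rw [show QuotientGroup.mk u = ((u : Y) : Y ⧸ S.P {i}ᶜ) from rfl, c.perp_mk] at hxy
    have e1 : (e g 0 * u)⁻¹ * (e g 0 * k) = u⁻¹ * k := by group
    rwa [e1]
  · exact c.line'
  · exact c.oa'
  · rintro x y z ⟨k, rfl, h3⟩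
    obtain ⟨g, -, hg⟩ := hsgN k
    have e0 : ((k : Y) : Y ⧸ S.P {i}ᶜ) = rho e (S.P {i}ᶜ) g ((1 : Y) : Y ⧸ S.P {i}ᶜ) := by
      rw [rho_mk, hg, mul_one]
    have e1 : ((k * s : Y) : Y ⧸ S.P {i}ᶜ) = rho e (S.P {i}ᶜ) (g * gs) ((1 : Y) : Y ⧸ S.P {i}ᶜ) := by
      rw [rho_mk, map_mul, Pi.mul_apply, hg, hgs', mul_one]
    have e2 : ((k * s' : Y) : Y ⧸ S.P {i}ᶜ) = rho e (S.P {i}ᶜ) (g * gs2) ((1 : Y) : Y ⧸ S.P {i}ᶜ) := by
      rw [rho_mk, map_mul, Pi.mul_apply, hg, hgs2', mul_one]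
    rcases h3 with ⟨rfl, rfl⟩ | ⟨rfl, rfl⟩
    · refine ⟨g, gs, gs2, e0, e1, e2, ?_, ?_⟩
      · rw [hgs, hgs2]; exact h1
      · rw [hgs, hgs2]; exact h2
    · refine ⟨g, gs2, gs, e0, e2, e1, ?_, ?_⟩
      · rw [hgs, hgs2]; exact h2
      · rw [hgs, hgs2]; exact h1
  · intro x y hx hy
    obtain ⟨u, rfl⟩ := QuotientGroup.mk_surjective x
    obtain ⟨k, rfl⟩ := QuotientGroup.mk_surjective y
    rw [show QuotientGroup.mk u = ((u : Y) : Y ⧸ S.P {i}ᶜ) from rfl, c.perp_mk, inv_one, one_mul] at hx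
    rw [show QuotientGroup.mk k = ((k : Y) : Y ⧸ S.P {i}ᶜ) from rfl, c.perp_mk, inv_one, one_mul] at hy
    obtain ⟨b, hb, h3⟩ := c.trans_opp hx hy
    obtain ⟨g, -, hg⟩ := hsgN b
    refine ⟨g, ?_, ?_⟩
    · rw [rho_mk, hg, mul_one, eq_comm, QuotientGroup.eq, inv_one, one_mul]
      exact c.BP hb
    · rw [show rho e (S.P {i}ᶜ) g (QuotientGroup.mk u) = _ from rho_mk _ g u, hg, eq_comm]
      exact QuotientGroup.eq.2 h3

/-- **The index**: `|G : H| ≤ n (n + 1)` for a rank three (or 2-transitive) parabolic subgroup. -/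
theorem index_le (hi : ({i} : Set I) ≠ Set.univ) :
    H.index ≤ (S.P {i}ᶜ).index * ((S.P {i}ᶜ).index + 1) := by
  obtain ⟨t₁, g⟩ := tgeo hY q c hi
  by_cases hne : ∃ u, u ∉ D1 (S.P {i}ᶜ) s
  · have l := c.pol hne
    exact g.index_le (fun e S h1 h2 h3 => l.conn e S h1 h2 h3) (fun e e' _ h1 => l.oinj e e' h1)
  · push Not at hne
    have h1 := g.index_eq (fun x y => by
      obtain ⟨u, rfl⟩ := QuotientGroup.mk_surjective x
      obtain ⟨k, rfl⟩ := QuotientGroup.mk_surjective y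
      exact c.perp_mk.2 (hne _))
    rw [h1]
    have h2 : 0 < Nat.card (Y ⧸ S.P {i}ᶜ) := Nat.card_pos
    show _ ≤ Nat.card (Y ⧸ S.P {i}ᶜ) * (Nat.card (Y ⧸ S.P {i}ᶜ) + 1)
    nlinarith only [h2]

/-- the 2-transitive case (`L_d(2)`) -/
theorem index_eq (hi : ({i} : Set I) ≠ Set.univ) (hall : ∀ u, u ∈ D1 (S.P {i}ᶜ) s) :
    H.index = (S.P {i}ᶜ).index + 1 := by
  obtain ⟨t₁, g⟩ := tgeo hY q c hi
  exact g.index_eq (fun x y => by
    obtain ⟨u, rfl⟩ := QuotientGroup.mk_surjective x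
    obtain ⟨k, rfl⟩ := QuotientGroup.mk_surjective y
    exact c.perp_mk.2 (hall _))

end

end Cfsg.Agent.H869.EPO
end

-- part: H869/EPO/GeoRGD
section
/-!
# S5745 / S3499, OWN characteristic, `q = 2`: rank three parabolic subgroups of root group data (helper869)

`cg_of` : `|X_i| = 2` and `W = W_J ∪ W_J s_i W_J ∪ w W_J`, `J = I - i`, give a `CG`.
`index_le_of` : `|G : H| ≤ n (n + 1)`, `n = |Y : P_{I - i}|`.
-/

set_option autoImplicit false
set_option linter.unusedSectionVars false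

namespace Cfsg.Agent.H869.EPO

open Cfsg.Agent.H284 Cfsg.Agent.H209.EPX Cfsg.Agent.H737.EPO
open CoxeterSystem Cfsg.Agent.ChevalleyStructure.CoxeterGeom Cfsg.Agent.Tits.Roots Cfsg.Agent.Tits.Core
  Cfsg.Agent.Tits.RootComb Cfsg.Agent.Tits.Exchange Cfsg.Agent.Nodes.Reps Cfsg.Agent.Nodes.BNOf
  Cfsg.Agent.Nodes.StabComb Cfsg.Agent.Nodes.Bruhat Cfsg.Agent.Nodes.OppDec Cfsg.Agent.Nodes.LeviDec
  Cfsg.Agent.Nodes.Coroot Cfsg.Agent.KFacts.RgdPar Cfsg.Agent.KFacts.RgdSL Cfsg.Agent.KFacts.RgdVJ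
  Cfsg.Agent.KFacts.RgdCharP

theorem coatom {Y : Type*} [Group Y] {p : ℕ} {I : Type*} (S : PSys Y p I) (i : I) : IsCoatom (S.P {i}ᶜ) := by
  constructor
  · exact S.P_ne_top (by rw [Ne, Set.compl_univ_iff]; exact Set.singleton_ne_empty i)
  · intro L hL
    obtain ⟨J, rfl⟩ := S.ov L ((S.P_mono (Set.empty_subset _)).trans hL.le)
    have h1 : {i}ᶜ ⊆ J := S.P_le_iff.1 hL.le
    have h2 : i ∈ J := by
      by_contra hi
      apply hL.not_ge
      rw [S.P_le_iff]
      intro j hj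
      rw [Set.mem_compl_singleton_iff]
      rintro rfl
      exact hi hj
    have h3 : J = Set.univ := by
      rw [Set.eq_univ_iff_forall]
      intro j
      by_cases hj : j = i
      · rw [hj]; exact h2
      · exact h1 hj
    rw [h3, S.P_univ]

section

variable {I W Y : Type*} [Fintype I] [DecidableEq I] [Group W] [Group Y] {M : CoxeterMatrix I}
  {cs : CoxeterSystem M W} {A : I → I → ℤ} {h : IsCartan M A} {p : ℕ} {T : Subgroup Y} {n : I → Y}
  {X : (I → ℤ) → Subgroup Y} (R : RGD cs h p T n X)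

include R

/-- `P_i - B` -/
theorem mem_Pi [Finite W] {j : I} {z : Y} (hz : z ∈ PJ cs h T X {j}) (hzB : z ∉ RGD.B cs h T X) :
    ∃ a ∈ X (sr j), ∃ b ∈ RGD.B cs h T X, z = a * n j * b := by
  obtain ⟨w, hwJ, b₁, hb₁, k, hk, b₂, hb₂, rfl⟩ := (mem_PJ_iff_cell R).1 hz
  rcases KFacts.RgdDiag.mem_WJ_singleton hwJ with h1 | h1
  · exfalso
    apply hzB
    rw [h1] at hk
    exact mul_mem (mul_mem hb₁ (RGD.T_le_B hk.mem_of_one)) hb₂
  · rw [h1] at hk
    obtain ⟨t, ht, u, hu, rfl⟩ := R.mem_B.1 hb₁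
    have h2 : t * u * t⁻¹ ∈ RGD.Sup X (RGD.Pos cs h) :=
      (Subgroup.mem_normalizer_iff.1 (R.T_le_normalizer_U ht) u).1 hu
    have h3 : (n j)⁻¹ * (t * k) ∈ T := by
      have h4 : Rp cs R.nsys (cs.simple j) (t * k) := by
        have := (rp_of_mem (cs := cs) (hN := R.nsys) ht).mul hk
        rwa [one_mul] at this
      have h5 := (rp_simple cs R.nsys j).inv.mul h4
      rw [inv_mul_cancel] at h5
      exact h5.mem_of_one
    obtain ⟨a, ha, v, hv, hav⟩ := (mem_U_iff R (J := {j})).1 h2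
    rw [KFacts.RgdDiag.UJ_singleton] at ha
    have hn : n j ∈ PJ cs h T X {j} := LJ_le_PJ (n_mem_LJ R (Set.mem_singleton j))
    have h4 : (n j)⁻¹ * v * (n j)⁻¹⁻¹ ∈ VJ cs h X {j} :=
      (Subgroup.mem_normalizer_iff.1 (PJ_le_normalizer_VJ R {j} (inv_mem hn)) v).1 hv
    rw [inv_inv] at h4
    refine ⟨a, ha, (n j)⁻¹ * v * n j * ((n j)⁻¹ * (t * k)) * b₂,
      mul_mem (mul_mem (RGD.U_le_B (VJ_le_U _ h4)) (RGD.T_le_B h3)) hb₂, ?_⟩
    have e1 : t * u * k * b₂ = (t * u * t⁻¹) * (t * k) * b₂ := by group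
    rw [e1, hav]
    group

/-- **the coset geometry** -/
theorem cg_of [Finite W] [Finite Y] [Fact p.Prime] (hBT : BT cs h p T X) (hG : GG cs h T X = ⊤)
    (hX : RGD.Sup X {x | IsRoot cs h x} = ⊤) (hconn : Conn M) {i : I} (hq : Nat.card (X (sr i)) = 2)
    (hW : ∃ w : W, ∀ v : W, v ∈ WJ cs {i}ᶜ ∨ (∃ a ∈ WJ cs {i}ᶜ, ∃ b ∈ WJ cs {i}ᶜ, v = a * cs.simple i * b) ∨
      ∃ b ∈ WJ cs {i}ᶜ, v = w * b) :
    ∃ s', CG ((ofRGD R hBT hG hX hconn).P {i}ᶜ) ((ofRGD R hBT hG hX hconn).P ∅) ((ofRGD R hBT hG hX hconn).P {i})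
      (n i) s' := by
  set S := ofRGD R hBT hG hX hconn with hS
  have hB : S.P ∅ = RGD.B cs h T X := PJ_empty R
  obtain ⟨x, hx, hx1⟩ : ∃ x ∈ X (sr i), x ≠ 1 := by
    by_contra hcon
    push Not at hcon
    exact X_ne_bot R (isRoot_sr cs h i) ((Subgroup.eq_bot_iff_forall _).2 hcon)
  have htwo : ∀ a ∈ X (sr i), a = 1 ∨ a = x := by
    intro a ha
    by_contra hcon
    push Not at hcon
    let f : Fin 3 → X (sr i) := ![⟨1, one_mem _⟩, ⟨x, hx⟩, ⟨a, ha⟩]
    have hf : Function.Injective f := by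
      intro j k hjk
      have h1 : (f j : Y) = f k := congrArg Subtype.val hjk
      fin_cases j <;> fin_cases k
      · rfl
      · exact absurd h1 (Ne.symm hx1)
      · exact absurd h1 (Ne.symm hcon.1)
      · exact absurd h1 hx1
      · rfl
      · exact absurd h1 (Ne.symm hcon.2)
      · exact absurd h1 hcon.1
      · exact absurd h1 hcon.2
      · rfl
    have : Finite (X (sr i)) := inferInstance
    have h2 := Nat.card_le_card_of_injective f hf
    rw [hq, Nat.card_fin] at h2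
    omega
  have hxU : x ∈ RGD.Sup X (RGD.Pos cs h) := RGD.le_Sup (S := RGD.Pos cs h) ⟨isRoot_sr cs h i, sr_nonneg i⟩ hx
  have hxB : x ∈ RGD.B cs h T X := RGD.U_le_B hxU
  have hnQ : n i ∈ S.P {i} := LJ_le_PJ (n_mem_LJ R (Set.mem_singleton i))
  have hnJ : ∀ L : Set I, n i ∈ PJ cs h T X L → i ∈ L := by
    intro L h2
    rw [cell_mem_PJ_iff R (cell_of_rp (rp_simple cs R.nsys i))] at h2
    exact (simple_mem_WJ_iff h).1 h2
  have hnB : n i ∉ RGD.B cs h T X := by
    rw [← PJ_empty R]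
    exact fun h1 => hnJ ∅ h1
  have hTB : T ≤ RGD.B cs h T X := RGD.T_le_B
  have hdec : ∀ {v v' : W} {m m' : Y}, Rp cs R.nsys v m → Rp cs R.nsys v' m' → v = v' → m⁻¹ * m' ∈ T := by
    intro v v' m m' h1 h2 h3
    subst h3
    have h5 := h1.inv.mul h2
    rw [inv_mul_cancel] at h5
    exact h5.mem_of_one
  obtain ⟨w, hw⟩ := hW
  obtain ⟨wd, hwd⟩ := exists_rp cs R.nsys w
  refine ⟨x * n i, coatom S i, S.P_mono (Set.empty_subset _), ?_, S.P_mono (Set.empty_subset _), hnQ, ?_, ?_, ?_, ?_,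
    ?_, wd, ?_⟩
  · rw [S.P_inf, Set.inter_compl_self]
  · intro g hg
    rw [hB]
    by_cases hgB : g ∈ RGD.B cs h T X
    · exact Or.inl hgB
    right
    obtain ⟨a, ha, b, hb, rfl⟩ := mem_Pi R hg hgB
    rcases htwo a ha with rfl | rfl
    · left
      have e1 : (n i)⁻¹ * (1 * n i * b) = b := by group
      rwa [e1]
    · right
      have e1 : (a * n i)⁻¹ * (a * n i * b) = b := by group
      rwa [e1]
  · rw [hB]; exact hnB
  · rw [hB]
    have h1 := (rp_simple cs R.nsys i).mul (rp_simple cs R.nsys i)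
    rw [cs.simple_mul_simple_self] at h1
    exact hTB h1.mem_of_one
  · exact ⟨x, by rw [hB]; exact hxB, rfl⟩
  · rw [hB]
    intro h1
    have h2 : (n i)⁻¹ * x * (n i)⁻¹⁻¹ ∈ X (rep cs h (cs.simple i)⁻¹ (sr i)) := by
      rw [← R.conj_rp (rp_simple cs R.nsys i).inv (isRoot_sr cs h i)]
      exact ⟨x, hx, rfl⟩
    rw [inv_inv] at h2
    have h3 : (n i)⁻¹ * x * n i ∈ UN cs h X := by
      apply RGD.le_Sup _ h2
      have h4 : rep cs h (cs.simple i)⁻¹ (sr i) = - sr i := by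
        rw [cs.inv_simple, rep_simple_sr]
      rw [h4]
      exact ⟨(isRoot_sr cs h i).neg, by rw [neg_nonpos]; exact sr_nonneg i⟩
    have e1 : (n i)⁻¹ * (x * n i) = (n i)⁻¹ * x * n i := by group
    rw [e1] at h1
    have h4 := eq_one_of_mem_UN_of_mem_B R h3 h1
    apply hx1
    have e2 : x = n i * ((n i)⁻¹ * x * n i) * (n i)⁻¹ := by group
    rw [e2, h4]
    group
  · intro g
    have hBP : RGD.B cs h T X ≤ S.P {i}ᶜ := B_le_PJ
    obtain ⟨v, b, hb, m, hm, b', hb', rfl⟩ := (mem_GG R).1 (show g ∈ GG cs h T X by rw [hG]; trivial)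
    have hJ : ∀ {u : W} {m : Y}, u ∈ WJ cs {i}ᶜ → Rp cs R.nsys u m → m ∈ S.P {i}ᶜ := fun hu hm =>
      LJ_le_PJ (rp_mem_LJ R hu hm)
    rcases hw v with h1 | ⟨a₁, ha₁, a₂, ha₂, h1⟩ | ⟨a₁, ha₁, h1⟩
    · left; left
      exact mul_mem (mul_mem (hBP hb) (hJ h1 hm)) (hBP hb')
    · left; right
      obtain ⟨c₁, hc₁⟩ := exists_rp cs R.nsys a₁
      obtain ⟨c₂, hc₂⟩ := exists_rp cs R.nsys a₂
      have h2 := hdec ((hc₁.mul (rp_simple cs R.nsys i)).mul hc₂) hm h1.symm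
      refine ⟨b * c₁, mul_mem (hBP hb) (hJ ha₁ hc₁), c₂ * ((c₁ * n i * c₂)⁻¹ * m) * b',
        mul_mem (mul_mem (hJ ha₂ hc₂) (hBP (hTB h2))) (hBP hb'), ?_⟩
      group
    · right
      obtain ⟨c₁, hc₁⟩ := exists_rp cs R.nsys a₁
      have h2 := hdec (hwd.mul hc₁) hm h1.symm
      refine ⟨b, by rw [hB]; exact hb, c₁ * ((wd * c₁)⁻¹ * m) * b',
        mul_mem (mul_mem (hJ ha₁ hc₁) (hBP (hTB h2))) (hBP hb'), ?_⟩
      group

end

/-- **The index** in the state `Q2` for a root group datum. -/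
theorem index_le_of {I W G Y : Type*} [Fintype I] [DecidableEq I] [Group W] [Group Y] {M : CoxeterMatrix I}
    {cs : CoxeterSystem M W} {A : I → I → ℤ} {h : IsCartan M A} {T : Subgroup Y} {n : I → Y}
    {X : (I → ℤ) → Subgroup Y} (R : RGD cs h 2 T n X) [Finite W] [Finite Y]
    (hBT : BT cs h 2 T X) (hG : GG cs h T X = ⊤) (hX : RGD.Sup X {x | IsRoot cs h x} = ⊤) (hconn : Conn M)
    [Group G] [Finite G] [IsSimpleGroup Y] (hY : ∃ a b : Y, a * b ≠ b * a) {H N R' : Subgroup G}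
    {e : N ≃* (Fin 1 → Y)} {i : I} {t : G} [Fact (Nat.Prime 2)] (q : Q2 H R' e (ofRGD R hBT hG hX hconn) i t)
    (hi : ({i} : Set I) ≠ Set.univ)
    (hW : ∃ w : W, ∀ v : W, v ∈ WJ cs {i}ᶜ ∨ (∃ a ∈ WJ cs {i}ᶜ, ∃ b ∈ WJ cs {i}ᶜ, v = a * cs.simple i * b) ∨
      ∃ b ∈ WJ cs {i}ᶜ, v = w * b) :
    H.index ≤ (PJ cs h T X {i}ᶜ).index * ((PJ cs h T X {i}ᶜ).index + 1) := by
  have hq : Nat.card (X (sr i)) = 2 := by
    rw [← relIndex_ofRGD R hBT hG hX hconn i]
    exact q.idx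
  obtain ⟨s', c⟩ := cg_of R hBT hG hX hconn hq hW
  have h1 := index_le hY q c hi
  have h2 : (ofRGD R hBT hG hX hconn).P {i}ᶜ = PJ cs h T X {i}ᶜ := rfl
  rwa [h2] at h1

end Cfsg.Agent.H869.EPO
end

private theorem dce_9f9112b87fc1 : _root_.True := by
  try have : _root_.True := by simp only [_root_.Cfsg.Agent.H869.EPO.TGeo.b.congr_simp]
  exact _root_.True.intro
end

-- part: H956/EPX/FiN
section
prune_inst 0x2200000000000000000000000000000010000000
set_option linter.all false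
open scoped Cfsg.Agent.FastGrp

/-!
# S5745 (helper956): the numbers of elements of prime order of `Fi₂₂`

`card_pow_le` : at most `N_r` elements `g` of `Fi₂₂` with `g ^ r = 1`: the classes of the other elements are too large.
-/

set_option autoImplicit false
set_option maxRecDepth 1000000
set_option exponentiation.threshold 5000

namespace Cfsg.Agent.H956.EPX.FiN

open Equiv Cfsg Cfsg.Spor Cfsg.Agent.H123.Cls Cfsg.Agent.Lib.BitNet Cfsg.Agent.H123.Cls.FiDat
open Cfsg.Agent.H494.F22 (A N A_conj card_A card_N N_le_A A_le_Aut rho rho_of rho_injective)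
open Cfsg.Agent.H494.F22.Row (row)

section

variable {n : ℕ}

/-- disjoint classes inside a set -/
theorem sum_le {A : Subgroup (Perm (Fin n))} (S : Set (Perm (Fin n))) {ι : Type} [Fintype ι]
    (r : ι → Perm (Fin n)) (c : ι → ℕ)
    (hc : ∀ i, Nat.card ↥(A ⊓ Subgroup.centralizer {r i}) ≤ c i)
    (hne : ∀ i j, i ≠ j → ∀ a ∈ A, a * r i * a⁻¹ ≠ r j)
    (hS : ∀ i, ∀ a ∈ A, a * r i * a⁻¹ ∈ S) : ∑ i, Nat.card A / c i ≤ S.ncard := by
  classical
  -- the classes
  let cl : ι → Set (Perm (Fin n)) := fun i => {x | ∃ a ∈ A, x = a * r i * a⁻¹}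
  have hcl : ∀ i, Nat.card A / c i ≤ (cl i).ncard := by
    intro i
    -- orbit-stabilizer
    have h1 : Nat.card A = Nat.card ↥(A ⊓ Subgroup.centralizer {r i}) * (cl i).ncard := by
      let C : Subgroup A := (A ⊓ Subgroup.centralizer {r i}).subgroupOf A
      have e1 : Nat.card C = Nat.card ↥(A ⊓ Subgroup.centralizer {r i}) :=
        Nat.card_congr (Subgroup.subgroupOfEquivOfLe inf_le_left).toEquiv
      have e2 : Nat.card (A ⧸ C) = (cl i).ncard := by
        rw [← Nat.card_coe_set_eq]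
        refine Nat.card_congr (Equiv.ofBijective (fun q : A ⧸ C => Quotient.liftOn' q
          (fun a => (⟨(a : Perm (Fin n)) * r i * (a : Perm (Fin n))⁻¹, a, a.2, rfl⟩ : cl i)) ?_) ⟨?_, ?_⟩)
        · intro a b hab
          rw [QuotientGroup.leftRel_apply] at hab
          have h2 := (Subgroup.mem_inf.1 (Subgroup.mem_subgroupOf.1 hab)).2
          rw [Subgroup.mem_centralizer_singleton_iff] at h2
          apply Subtype.ext
          change ((a : Perm (Fin n))⁻¹ * b) * r i = r i * ((a : Perm (Fin n))⁻¹ * b) at h2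
          change (a : Perm (Fin n)) * r i * (a : Perm (Fin n))⁻¹ = b * r i * (b : Perm (Fin n))⁻¹
          calc (a : Perm (Fin n)) * r i * (a : Perm (Fin n))⁻¹ =
              a * (r i * ((a : Perm (Fin n))⁻¹ * b)) * (b : Perm (Fin n))⁻¹ := by group
            _ = a * ((a : Perm (Fin n))⁻¹ * b * r i) * (b : Perm (Fin n))⁻¹ := by rw [h2]
            _ = b * r i * (b : Perm (Fin n))⁻¹ := by group
        · intro q q' h
          induction q using Quotient.inductionOn' with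
          | h a =>
            induction q' using Quotient.inductionOn' with
            | h b =>
              have h2 : (a : Perm (Fin n)) * r i * (a : Perm (Fin n))⁻¹ = b * r i * (b : Perm (Fin n))⁻¹ :=
                congrArg Subtype.val h
              refine Quotient.sound' ?_
              rw [QuotientGroup.leftRel_apply]
              refine Subgroup.mem_subgroupOf.2 (Subgroup.mem_inf.2 ⟨(a⁻¹ * b).2, ?_⟩)
              rw [Subgroup.mem_centralizer_singleton_iff]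
              change ((a : Perm (Fin n))⁻¹ * b) * r i = r i * ((a : Perm (Fin n))⁻¹ * b)
              calc ((a : Perm (Fin n))⁻¹ * b) * r i =
                  (a : Perm (Fin n))⁻¹ * (b * r i * (b : Perm (Fin n))⁻¹) * b := by group
                _ = (a : Perm (Fin n))⁻¹ * (a * r i * (a : Perm (Fin n))⁻¹) * b := by rw [h2]
                _ = r i * ((a : Perm (Fin n))⁻¹ * b) := by group
        · rintro ⟨x, a, ha, rfl⟩
          exact ⟨Quotient.mk'' ⟨a, ha⟩, rfl⟩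
      rw [← e1, ← e2, mul_comm]
      exact Subgroup.card_eq_card_quotient_mul_card_subgroup C
    have h0 : 0 < Nat.card ↥(A ⊓ Subgroup.centralizer {r i}) := Nat.card_pos
    calc Nat.card A / c i ≤ Nat.card A / Nat.card ↥(A ⊓ Subgroup.centralizer {r i}) := Nat.div_le_div_left (hc i) h0
      _ = (cl i).ncard := by
        rw [h1, Nat.mul_div_cancel_left _ h0]
  have hdis : Set.PairwiseDisjoint (Set.univ : Set ι) cl := by
    intro i _ j _ hij
    rw [Function.onFun, Set.disjoint_left]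
    rintro x ⟨a, ha, rfl⟩ ⟨b, hb, h⟩
    refine hne i j hij (b⁻¹ * a) (A.mul_mem (A.inv_mem hb) ha) ?_
    calc b⁻¹ * a * r i * (b⁻¹ * a)⁻¹ = b⁻¹ * (a * r i * a⁻¹) * b := by group
      _ = r j := by rw [h]; group
  have hun : (⋃ i, cl i) ⊆ S := by
    intro x hx
    obtain ⟨i, a, ha, rfl⟩ := Set.mem_iUnion.1 hx
    exact hS i a ha
  have hcard : (⋃ i, cl i).ncard = ∑ i, (cl i).ncard := by
    have h := Set.ncard_iUnion_of_finite (s := cl) (fun i => Set.toFinite _)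
      (fun i j hij => hdis (Set.mem_univ i) (Set.mem_univ j) hij)
    rw [h, finsum_eq_sum_of_fintype]
  calc ∑ i, Nat.card A / c i ≤ ∑ i, (cl i).ncard := Finset.sum_le_sum fun i _ => hcl i
    _ = (⋃ i, cl i).ncard := hcard.symm
    _ ≤ S.ncard := Set.ncard_le_ncard hun (Set.toFinite _)

/-- the number of elements of `N` with `g ^ e = 1` -/
theorem pow_le {K w : ℕ} {row : ℕ → ℕ} {A N : Subgroup (Perm (Fin n))} (hn : n ≤ 2 ^ K) (hA : A ≤ Aut n row)
    (hnA : ∀ a ∈ A, ∀ x ∈ N, a * x * a⁻¹ ∈ N) {a : ℕ} (haA : a ≤ Nat.card A) (D : List (ℕ × ℕ × List ℕ))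
    (hr : ∀ x ∈ D, ∃ g ∈ N, ∀ p : Fin n, (g p : ℕ) = lk w x.1 p)
    (hc : ∀ x ∈ D, ∃ l L, chkB n K row w x.1 l L x.2.1 = true)
    (keys : List (List (Bool × ℕ))) (hs : ∀ x ∈ D, chkKey n K row w x.1 keys x.2.2 = true)
    (hl : ∀ x ∈ D, x.2.2.length = keys.length) (hnd : (D.map fun x => x.2.2).Nodup) {e : ℕ}
    (he : ∀ x ∈ D, ∃ p < n, it w x.1 e p ≠ p) :
    (D.map fun x => a / (x.2.1 + 1)).sum + {g : Perm (Fin n) | g ∈ N ∧ g ^ e = 1}.ncard ≤ Nat.card N := by
  have hmem : ∀ i : Fin D.length, D[i.1] ∈ D := fun i => List.getElem_mem i.2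
  have hinj : Function.Injective (fun i : Fin D.length => (D[i.1]).2.2) := by
    intro i j hij
    have h1 := (List.nodup_iff_injective_get.1 hnd)
    have h2 : (⟨i.1, by rw [List.length_map]; exact i.2⟩ : Fin (D.map fun x => x.2.2).length) =
        ⟨j.1, by rw [List.length_map]; exact j.2⟩ := by
      apply h1
      simpa using hij
    have h3 := congrArg Fin.val h2
    exact Fin.ext h3
  choose r hrN hrp using fun i : Fin D.length => hr _ (hmem i)
  have h1 : ∑ i : Fin D.length, Nat.card A / ((D[i.1]).2.1 + 1) ≤ {g : Perm (Fin n) | g ∈ N ∧ g ^ e ≠ 1}.ncard := by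
    refine sum_le _ r (fun i => (D[i.1]).2.1 + 1) (fun i => by
      obtain ⟨l, L, h1⟩ := hc _ (hmem i)
      refine card_le_bound hn (hrp i) h1 (inf_le_left.trans hA) fun σ hσ p => ?_
      have h2 := Subgroup.mem_centralizer_singleton_iff.1 (Subgroup.mem_inf.1 hσ).2
      exact congrArg (fun τ : Perm (Fin n) => τ p) h2) (fun i j hij b hb h1 => by
        apply hij
        apply hinj
        show (D[i.1]).2.2 = (D[j.1]).2.2
        rw [← key_of_chk hn (hrp i) (hs _ (hmem i)) (hl _ (hmem i)),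
          ← key_of_chk hn (hrp j) (hs _ (hmem j)) (hl _ (hmem j))]
        refine List.map_congr_left fun k _ => ?_
        rw [← h1, pj_conj (hA hb)]) fun i b hb => ⟨hnA b hb _ (hrN i), fun h => ?_⟩
    obtain ⟨p, hp, hpe⟩ := he _ (hmem i)
    apply hpe
    have h2 : r i ^ e = 1 := by
      have h3 : b * r i ^ e * b⁻¹ = 1 := by rw [← conj_pow, h]
      calc r i ^ e = b⁻¹ * (b * r i ^ e * b⁻¹) * b := by group
        _ = 1 := by rw [h3]; group
    have h4 := it_eq (hrp i) e ⟨p, hp⟩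
    rw [h2] at h4
    exact h4
  have h2 : (D.map fun x => a / (x.2.1 + 1)).sum ≤ {g : Perm (Fin n) | g ∈ N ∧ g ^ e ≠ 1}.ncard := by
    refine le_trans ?_ h1
    refine le_trans ?_ (Finset.sum_le_sum fun i _ => Nat.div_le_div_right haA)
    rw [Fin.sum_univ_fun_getElem D (fun x => a / (x.2.1 + 1))]
  have h3 : {g : Perm (Fin n) | g ∈ N ∧ g ^ e ≠ 1}.ncard + {g : Perm (Fin n) | g ∈ N ∧ g ^ e = 1}.ncard ≤
      Nat.card N := by
    rw [← Set.ncard_union_eq (by
      rw [Set.disjoint_left]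
      rintro g ⟨-, h⟩ ⟨-, h'⟩
      exact h h') (Set.toFinite _) (Set.toFinite _)]
    have h4 : (N : Set (Perm (Fin n))).ncard = Nat.card N := rfl
    rw [← h4]
    refine Set.ncard_le_ncard ?_ (Set.toFinite _)
    rintro g (⟨h, -⟩ | ⟨h, -⟩) <;> exact h
  omega

end

/-- some point of the first eight is moved by the `e`-th power -/
noncomputable def mv (e : ℕ) (x : ℕ × ℕ × List ℕ) : Bool :=
  (List.range 8).any fun p => !(Nat.beq (it 12 x.1 e p) p)

theorem mv_spec {e : ℕ} {x : ℕ × ℕ × List ℕ} (h : mv e x = true) : ∃ p < 3510, it 12 x.1 e p ≠ p := by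
  unfold mv at h
  rw [List.any_eq_true] at h
  obtain ⟨p, hp, h⟩ := h
  rw [List.mem_range] at hp
  refine ⟨p, by omega, fun h2 => ?_⟩
  rw [h2] at h
  simp at h

/-- the total of the other classes -/
noncomputable def tot (e : ℕ) : ℕ := ((D.filter (mv e)).map fun x => (2 * 64561751654400) / (x.2.1 + 1)).sum

theorem tot_add_le (e : ℕ) : tot e + {g : Perm (Fin 3510) | g ∈ N ∧ g ^ e = 1}.ncard ≤ 64561751654400 := by
  rw [← card_N]
  have hsub : ∀ x ∈ D.filter (mv e), x ∈ D := fun x hx => (List.mem_filter.1 hx).1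
  exact pow_le (by norm_num) A_le_Aut (fun _ ha _ hx => A_conj ha hx) card_A (D.filter (mv e))
    (fun x hx => D_mem x (hsub x hx)) (fun x hx => D_bd x (hsub x hx)) keys (fun x hx => D_sg x (hsub x hx))
    (fun x hx => D_len x (hsub x hx)) (D_nodup.sublist (List.filter_sublist.map _))
    fun x hx => mv_spec (List.mem_filter.1 hx).2

theorem t2 : Nat.ble (64561751654400 - 37706175 - 1) (tot 2) = true := by
  unfold tot D
  decide +kernel
theorem t3 : Nat.ble (64561751654400 - 4180267520 - 1) (tot 3) = true := by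
  unfold tot D
  decide +kernel
theorem t5 : Nat.ble (64561751654400 - 107602919424 - 1) (tot 5) = true := by
  unfold tot D
  decide +kernel
theorem t7 : Nat.ble (64561751654400 - 1537184563200 - 1) (tot 7) = true := by
  unfold tot D
  decide +kernel
theorem t11 : Nat.ble (64561751654400 - 5869250150400 - 1) (tot 11) = true := by
  unfold tot D
  decide +kernel
theorem t13 : Nat.ble (64561751654400 - 9932577177600 - 1) (tot 13) = true := by
  unfold tot D
  decide +kernel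

/-- the numbers -/
def nr : ℕ → ℕ
  | 2 => 37706175
  | 3 => 4180267520
  | 5 => 107602919424
  | 7 => 1537184563200
  | 11 => 5869250150400
  | 13 => 9932577177600
  | _ => 0

/-- **the numbers of elements of prime order of `Fi₂₂`** -/
theorem card_le {r : ℕ} (hr : r ∈ [2, 3, 5, 7, 11, 13]) {X : Type*} [Group X] (e : X ≃* Spor.Fi22) :
    {g : X | orderOf g = r}.ncard ≤ nr r := by
  have h1 : ∀ r, {g : Perm (Fin 3510) | g ∈ N ∧ g ^ r = 1}.ncard + tot r ≤ 64561751654400 := fun r => by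
    rw [add_comm]; exact tot_add_le r
  have h2 : 64561751654400 - nr r - 1 ≤ tot r ∧ nr r < 64561751654400 ∧ 1 < r := by
    simp only [List.mem_cons, List.not_mem_nil, or_false] at hr
    rcases hr with rfl | rfl | rfl | rfl | rfl | rfl
    · exact ⟨Nat.le_of_ble_eq_true t2, by decide, by norm_num⟩
    · exact ⟨Nat.le_of_ble_eq_true t3, by decide, by norm_num⟩
    · exact ⟨Nat.le_of_ble_eq_true t5, by decide, by norm_num⟩
    · exact ⟨Nat.le_of_ble_eq_true t7, by decide, by norm_num⟩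
    · exact ⟨Nat.le_of_ble_eq_true t11, by decide, by norm_num⟩
    · exact ⟨Nat.le_of_ble_eq_true t13, by decide, by norm_num⟩
  have h3 := h1 r
  have h4 : {g : X | orderOf g = r}.ncard + 1 ≤ {g : Perm (Fin 3510) | g ∈ N ∧ g ^ r = 1}.ncard := by
    let f : X →* Perm (Fin 3510) := rho.comp e.toMonoidHom
    have hf : Function.Injective f := rho_injective.comp e.injective
    have h5 : ((f '' {g : X | orderOf g = r}) ∪ {1}).ncard = {g : X | orderOf g = r}.ncard + 1 := by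
      have : Finite X := Finite.of_injective f hf
      rw [Set.ncard_union_eq, Set.ncard_image_of_injective _ hf, Set.ncard_singleton]
      · rw [Set.disjoint_singleton_right]
        rintro ⟨g, hg, hg1⟩
        have h6 : g = 1 := hf (by rw [hg1, map_one])
        rw [h6, Set.mem_ofPred_eq, orderOf_one] at hg
        omega
    rw [← h5]
    refine Set.ncard_le_ncard ?_ (Set.toFinite _)
    rintro g (⟨x, hx, rfl⟩ | hg)
    · refine ⟨⟨e x, rfl⟩, ?_⟩
      rw [← map_pow, ← hx, pow_orderOf_eq_one, map_one]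
    · rw [Set.mem_singleton_iff] at hg
      rw [hg]
      exact ⟨N.one_mem, one_pow _⟩
  omega

end Cfsg.Agent.H956.EPX.FiN
end
end
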